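import Groth.Agent.Cons51.Colim
import Groth.Agent.Unr55.Et.HFiltColim
import Groth.Agent.EtCore45.Acyclic
import Groth.Agent.RD97.LES
import Groth.Prelude.Def_EtCore

/-!
Cohomology and higher direct images of torsion sheaves are torsion.
-/

set_option autoImplicit false
set_option backward.isDefEq.respectTransparency.types false
universe u

open CategoryTheory CategoryTheory.Limits CategoryTheory.Abelian AlgebraicGeometry Opposite
open Groth.Agent.Unr55.EtSh

namespace Groth.Agent.Cons51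

variable {X : Scheme.{u}}

theorem isTorsion_iff_stalks (F : EtCoh.Ab X) :
    EtCoh.IsTorsion F ↔ ∀ (K : Type u) [Field K] [IsSepClosed K] (η : Spec (CommRingCat.of K) ⟶ X)
      (a : ((EtCoh.stalk η).obj F : AddCommGrpCat.{u + 1})), IsOfFinAddOrder a := by
  refine ⟨fun h K _ _ η a => ?_, fun h U s x => ?_⟩
  · obtain ⟨U, p, σ, rfl⟩ := exists_germ_eq η F a
    obtain ⟨V, g, ⟨v, hv⟩, hfin⟩ := h U σ (hom η p default)
    obtain ⟨t, ht⟩ := LocConst45.exists_pt_over g p v hv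
    have := (germ η F t).isOfFinAddOrder hfin
    rwa [germ_map, ht] at this
  · obtain ⟨K, _, _, η, p, hp⟩ := point_over U x
    obtain ⟨N, hN, h0⟩ := isOfFinAddOrder_iff_nsmul_eq_zero.1 (h K η (germ η F p s))
    rw [← map_nsmul] at h0
    obtain ⟨V, g, t, h1, h2⟩ := (germ_eq_zero_iff η F p (N • s)).1 h0
    refine ⟨V, g, ⟨hom η t default, ?_⟩, isOfFinAddOrder_iff_nsmul_eq_zero.2 ⟨N, hN, by rw [← map_nsmul]; exact h2⟩⟩
    rw [← hp, ← h1]
    rfl

theorem isTorsion_pull {Y : Scheme.{u}} (f : Y ⟶ X) {F : EtCoh.Ab X} (hF : EtCoh.IsTorsion F) :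
    EtCoh.IsTorsion ((EtCoh.pull f).obj F) := by
  refine (isTorsion_iff_stalks _).2 fun K _ _ η a => ?_
  obtain ⟨b, rfl⟩ := (theta_bijective f η F).surjective a
  exact (theta f η F).hom.isOfFinAddOrder ((isTorsion_iff_stalks F).1 hF K (η ≫ f) b)

theorem isTorsion_of_epi {A B : EtCoh.Ab X} (p : A ⟶ B) [Epi p] (hA : EtCoh.IsTorsion A) :
    EtCoh.IsTorsion B := by
  refine (isTorsion_iff_stalks _).2 fun K _ _ η b => ?_
  obtain ⟨a, rfl⟩ := (AddCommGrpCat.epi_iff_surjective ((EtCoh.stalk η).map p)).1 inferInstance b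
  exact ((EtCoh.stalk η).map p).hom.isOfFinAddOrder ((isTorsion_iff_stalks A).1 hA K η a)

/-- Cohomology of a torsion sheaf on a qcqs scheme is torsion. -/
theorem isAddTorsion_H [CompactSpace X] [QuasiSeparatedSpace X] {F : EtCoh.Ab X} (hF : EtCoh.IsTorsion F)
    (n : ℕ) : IsAddTorsion (EtCoh.H X F n) := by
  obtain ⟨J, _, _, D, c, hc, ⟨e⟩, hD⟩ := exists_isColimit (generating_of_isTorsion hF)
  have := Unr55.HColim.preservesColimitsOfShape_HF (X := X) J n
  intro z
  obtain ⟨j, w, hw⟩ := Concrete.isColimit_exists_rep _ (isColimitOfPreserves (EtCoh.HF X n) hc)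
    ((EtCoh.HF X n).map e.inv z)
  obtain ⟨N, hN, hk⟩ := exists_killedBy (hD j)
  have h0 : N • 𝟙 (D.obj j) = 0 := by
    refine ObjectProperty.hom_ext _ (NatTrans.ext (funext fun U => ConcreteCategory.hom_ext _ _ fun s => ?_))
    let ev : (D.obj j ⟶ D.obj j) →+ EtCoh.sect (D.obj j) U.unop :=
      AddMonoidHom.mk' (fun f => f.hom.app U s) fun _ _ => rfl
    show ev (N • 𝟙 (D.obj j)) = 0
    rw [map_nsmul]
    exact hk U.unop s
  have hw0 : N • w = 0 := by
    let ev : (D.obj j ⟶ D.obj j) →+ EtCoh.H X (D.obj j) n :=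
      AddMonoidHom.mk' (fun f => Sheaf.H.map f n w) fun f g => Sheaf.H.map_add_apply f g w
    have h2 : ev (N • 𝟙 (D.obj j)) = 0 := by rw [h0, map_zero]
    rw [map_nsmul] at h2
    rw [← Sheaf.H.map_id_apply w]
    exact h2
  have hz : (EtCoh.HF X n).map e.hom ((EtCoh.HF X n).map e.inv z) = z := by
    rw [← ConcreteCategory.comp_apply, ← Functor.map_comp, e.inv_hom_id, CategoryTheory.Functor.map_id]
    rfl
  rw [← hz, ← hw]
  exact ((EtCoh.HF X n).map e.hom).hom.isOfFinAddOrder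
    ((((EtCoh.HF X n).mapCocone c).ι.app j).hom.isOfFinAddOrder
      (isOfFinAddOrder_iff_nsmul_eq_zero.2 ⟨N, hN, hw0⟩))

/-- Cohomology on quasi-compact quasi-separated etale objects is torsion in degrees `≥ 1`. -/
def TorsionH (F : EtCoh.Ab X) : Prop :=
  ∀ (W : X.Etale), CompactSpace W.left → QuasiSeparatedSpace W.left → ∀ q, 1 ≤ q →
    IsAddTorsion (EtCoh.H W.left ((EtCoh.pull W.hom).obj F) q)

theorem torsionH_of_isTorsion {F : EtCoh.Ab X} (hF : EtCoh.IsTorsion F) : TorsionH F :=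
  fun W h1 h2 q _ => @isAddTorsion_H _ h1 h2 _ (isTorsion_pull W.hom hF) q

theorem torsionH_injSeq {F : EtCoh.Ab X} (hF : TorsionH F) : TorsionH (EtCore45.injSeq F).X₃ := by
  intro W h1 h2 q hq x
  have hS := EtCore45.shortExact_pull W (EtCore45.injSeq_shortExact F)
  let δ : EtCoh.H W.left ((EtCoh.pull W.hom).obj (EtCore45.injSeq F).X₃) q →+
      EtCoh.H W.left ((EtCoh.pull W.hom).obj F) (q + 1) := hS.extClass.postcomp _ rfl
  obtain ⟨N, hN, h0⟩ := isOfFinAddOrder_iff_nsmul_eq_zero.1 (hF W h1 h2 (q + 1) (by omega) (δ x))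
  rw [← map_nsmul] at h0
  obtain ⟨y, hy⟩ := Ext.covariant_sequence_exact₃ _ hS (N • x) rfl h0
  have : Injective (EtCore45.injSeq F).X₂ := inferInstanceAs (Injective (Injective.under F))
  have := EtCore45.isAcyclicEt_injective (EtCore45.injSeq F).X₂ W q hq
  refine isOfFinAddOrder_iff_nsmul_eq_zero.2 ⟨N, hN, hy.symm.trans ?_⟩
  rw [Subsingleton.elim (α := EtCoh.H W.left ((EtCoh.pull W.hom).obj (EtCore45.injSeq F).X₂) q) y 0]
  exact Ext.zero_comp _ _ _ _ _

/-- Multiples of sections of the cokernel lift. -/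
theorem exists_nsmul_lift {F : EtCoh.Ab X} (hF : TorsionH F) (W : X.Etale) (h1 : CompactSpace W.left)
    (h2 : QuasiSeparatedSpace W.left) (s : EtCoh.sect (EtCore45.injSeq F).X₃ W) :
    ∃ N, 0 < N ∧ ∃ τ, (EtCore45.injSeq F).g.hom.app (op W) τ = N • s := by
  have hS := EtCore45.shortExact_pull W (EtCore45.injSeq_shortExact F)
  let φ := (EtCore45.secPull W (EtCore45.injSeq F).X₃).symm s
  let δ : EtCoh.H W.left ((EtCoh.pull W.hom).obj (EtCore45.injSeq F).X₃) 0 →+
      EtCoh.H W.left ((EtCoh.pull W.hom).obj F) 1 := hS.extClass.postcomp _ rfl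
  let x : EtCoh.H W.left ((EtCoh.pull W.hom).obj (EtCore45.injSeq F).X₃) 0 := Ext.addEquiv₀.symm φ
  obtain ⟨N, hN, h0⟩ := isOfFinAddOrder_iff_nsmul_eq_zero.1 (hF W h1 h2 1 le_rfl (δ x))
  rw [← map_nsmul] at h0
  obtain ⟨y, hy⟩ := Ext.covariant_sequence_exact₃ _ hS (N • x) rfl h0
  obtain ⟨ψ, rfl⟩ := Ext.addEquiv₀.symm.surjective y
  refine ⟨N, hN, EtCore45.secPull W _ ψ, ?_⟩
  rw [← EtCore45.secPull_comp]
  have hx : N • x = Ext.addEquiv₀.symm (N • φ) := (map_nsmul _ _ _).symm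
  rw [hx] at hy
  have e : ψ ≫ (EtCoh.pull W.hom).map (EtCore45.injSeq F).g = N • φ :=
    (Ext.mk₀_bijective _ _).1 ((Ext.mk₀_comp_mk₀ ψ _).symm.trans hy)
  exact (congrArg (EtCore45.secPull W (EtCore45.injSeq F).X₃) e).trans
    ((map_nsmul _ N φ).trans (congrArg (N • ·) (AddEquiv.apply_symm_apply _ s)))

variable {Y : Scheme.{u}}

theorem bc_qcqs (f : X ⟶ Y) [QuasiCompact f] [QuasiSeparated f] (V : Y.Etale) [IsAffine V.left] :
    CompactSpace ((EtCoh.bc f).obj V).left ∧ QuasiSeparatedSpace ((EtCoh.bc f).obj V).left := by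
  let p : ((EtCoh.bc f).obj V).left ⟶ V.left := pullback.fst V.hom f
  have : QuasiCompact p := MorphismProperty.pullback_fst _ _ ‹_›
  have : QuasiSeparated p := MorphismProperty.pullback_fst _ _ ‹_›
  exact ⟨QuasiCompact.compactSpace_of_compactSpace p, quasiSeparatedSpace_of_quasiSeparated p⟩

theorem exists_germ_affine {K : Type u} [Field K] [IsSepClosed K] (η : Spec (CommRingCat.of K) ⟶ Y)
    (G : EtCoh.Ab Y) (a : ((EtCoh.stalk η).obj G : AddCommGrpCat.{u + 1})) :
    ∃ (V : Y.Etale) (_ : IsAffine V.left) (t : Pt η V) (σ : EtCoh.sect G V), germ η G t σ = a := by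
  obtain ⟨U, p, σ, rfl⟩ := exists_germ_eq η G a
  obtain ⟨B, hB, htB, -⟩ :=
    exists_isAffineOpen_mem_and_subset (X := U.left) (x := hom η p default) (U := ⊤) trivial
  exact ⟨openSub U B, hB, ptOpen B p htB, G.obj.map (openSubι U B).op σ,
    (germ_map η G _ _ σ).trans (congrArg (fun q => germ η G q σ) (map_ptOpen B p htB))⟩

/-- Direct images of torsion sheaves are torsion. -/
theorem isTorsion_push (f : X ⟶ Y) [QuasiCompact f] [QuasiSeparated f] {F : EtCoh.Ab X}
    (hF : EtCoh.IsTorsion F) : EtCoh.IsTorsion ((EtCoh.push f).obj F) := by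
  refine (isTorsion_iff_stalks _).2 fun K _ _ η a => ?_
  obtain ⟨V, hV, t, σ, rfl⟩ := exists_germ_affine η _ a
  obtain ⟨h1, h2⟩ := bc_qcqs f V
  refine (germ η ((EtCoh.push f).obj F) t).isOfFinAddOrder ?_
  let W := (EtCoh.bc f).obj V
  have h0 := @isAddTorsion_H _ h1 h2 _ (isTorsion_pull W.hom hF) 0
    (Ext.addEquiv₀.symm ((EtCore45.secPull W F).symm σ))
  obtain ⟨N, hN, h⟩ := isOfFinAddOrder_iff_nsmul_eq_zero.1 h0
  rw [← map_nsmul, ← map_nsmul] at h
  refine isOfFinAddOrder_iff_nsmul_eq_zero.2 ⟨N, hN, ?_⟩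
  exact (EtCore45.secPull W F).symm.injective ((Ext.addEquiv₀.symm.injective (h.trans (map_zero _).symm)).trans
    (map_zero _).symm)

theorem isTorsion_Rpush_succ (f : X ⟶ Y) [QuasiCompact f] [QuasiSeparated f] :
    ∀ (n : ℕ) (F : EtCoh.Ab X), TorsionH F → EtCoh.IsTorsion ((EtCoh.Rpush f (n + 1)).obj F) := by
  have : PreservesLimitsOfSize.{0, 0} (EtCoh.push f) := (EtCoh.pullPushAdj f).rightAdjoint_preservesLimits
  have : PreservesFiniteLimits (EtCoh.push f) := PreservesLimitsOfSize.preservesFiniteLimits _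
  obtain ⟨Δ⟩ := RD97.nonempty_derivedLES (EtCoh.push f)
  intro n
  induction n with
  | zero =>
    intro F hF
    have hS := EtCore45.injSeq_shortExact F
    have : Injective (EtCore45.injSeq F).X₂ := inferInstanceAs (Injective (Injective.under F))
    have : Epi (Δ.δ (EtCore45.injSeq F) hS 0 1 rfl) := (Δ.exact₁ (EtCore45.injSeq F) hS 0 1 rfl).epi_f
      (((EtCoh.push f).isZero_rightDerived_obj_injective_succ 0 (EtCore45.injSeq F).X₂).eq_of_tgt _ _)
    refine (isTorsion_iff_stalks _).2 fun K _ _ η b => ?_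
    obtain ⟨a, rfl⟩ := (AddCommGrpCat.epi_iff_surjective
      ((EtCoh.stalk η).map (Δ.δ (EtCore45.injSeq F) hS 0 1 rfl))).1 inferInstance b
    let i := (EtCoh.push f).rightDerivedZeroIsoSelf
    obtain ⟨V, hV, t, σ, hσ⟩ := exists_germ_affine η _ ((EtCoh.stalk η).map (i.hom.app _) a)
    obtain ⟨h1, h2⟩ := bc_qcqs f V
    obtain ⟨N, hN, τ, hτ⟩ := exists_nsmul_lift hF ((EtCoh.bc f).obj V) h1 h2 σ
    refine isOfFinAddOrder_iff_nsmul_eq_zero.2 ⟨N, hN, ?_⟩
    rw [← map_nsmul]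
    have hτ' : ((EtCoh.push f).map (EtCore45.injSeq F).g).hom.app (op V) τ =
        (N • σ : EtCoh.sect ((EtCoh.push f).obj (EtCore45.injSeq F).X₃) V) := hτ
    have ha : N • a = (EtCoh.stalk η).map (((EtCoh.push f).rightDerived 0).map (EtCore45.injSeq F).g)
        ((EtCoh.stalk η).map (i.inv.app _) (germ η ((EtCoh.push f).obj (EtCore45.injSeq F).X₂) t τ)) := by
      rw [← ConcreteCategory.comp_apply, ← Functor.map_comp, ← i.inv.naturality, Functor.map_comp,
        ConcreteCategory.comp_apply, stalk_map_germ]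
      refine Eq.trans ?_ (congrArg (fun s => (EtCoh.stalk η).map (i.inv.app _) (germ η _ t s)) hτ'.symm)
      rw [map_nsmul, map_nsmul]
      erw [hσ]
      rw [← ConcreteCategory.comp_apply, ← Functor.map_comp, Iso.hom_inv_id_app, CategoryTheory.Functor.map_id]
      rfl
    rw [ha, ← ConcreteCategory.comp_apply, ← Functor.map_comp, Δ.comp_δ, Functor.map_zero]
    rfl
  | succ n ih =>
    intro F hF
    have hS := EtCore45.injSeq_shortExact F
    have : Injective (EtCore45.injSeq F).X₂ := inferInstanceAs (Injective (Injective.under F))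
    have : Epi (Δ.δ (EtCore45.injSeq F) hS (n + 1) (n + 2) rfl) := (Δ.exact₁ (EtCore45.injSeq F) hS (n + 1) (n + 2) rfl).epi_f
      (((EtCoh.push f).isZero_rightDerived_obj_injective_succ (n + 1) (EtCore45.injSeq F).X₂).eq_of_tgt _ _)
    exact isTorsion_of_epi (Δ.δ (EtCore45.injSeq F) hS (n + 1) (n + 2) rfl) (ih _ (torsionH_injSeq hF))

theorem isTorsion_Rpush (f : X ⟶ Y) [QuasiCompact f] [QuasiSeparated f] {F : EtCoh.Ab X}
    (hF : EtCoh.IsTorsion F) : ∀ n, EtCoh.IsTorsion ((EtCoh.Rpush f n).obj F)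
  | 0 => by
    have : PreservesLimitsOfSize.{0, 0} (EtCoh.push f) := (EtCoh.pullPushAdj f).rightAdjoint_preservesLimits
    have : PreservesFiniteLimits (EtCoh.push f) := PreservesLimitsOfSize.preservesFiniteLimits _
    exact isTorsion_of_epi ((EtCoh.push f).rightDerivedZeroIsoSelf.inv.app F) (isTorsion_push f hF)
  | n + 1 => isTorsion_Rpush_succ f n F (torsionH_of_isTorsion hF)

end Groth.Agent.Cons51
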