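import Groth.Agent.Cons51.Basic
import Groth.Agent.EtCore45.EtalePull
import Groth.Agent.LocConst45.AbMain

/-!
Finite local constancy is etale local.
-/

set_option autoImplicit false
set_option backward.isDefEq.respectTransparency.types false
universe u

open CategoryTheory CategoryTheory.Limits AlgebraicGeometry Opposite
open Groth.Agent.Unr55.EtSh

namespace Groth.Agent.Cons51

variable {U X : Scheme.{u}}

/-- A trivialisation on an etale `U → X` is one on `X`. -/
theorem isTriv_compEtale (j : U ⟶ X) [Etale j] [EtShriek.JCont j] {F : EtCoh.Ab X} {V : U.Etale}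
    {M : Type (u + 1)} [AddCommGroup M] (σ : M →+ EtCoh.sect ((EtShriek.restrAlong j).obj F) V)
    (h : LocConst45.IsTriv ((EtShriek.restrAlong j).obj F) V σ) :
    LocConst45.IsTriv F ((EtShriek.compEtale j).obj V) σ := by
  have key : ∀ {W : X.Etale} (a : W ⟶ (EtShriek.compEtale j).obj V),
      ∃ (W' : U.Etale) (e : (EtShriek.compEtale j).obj W' ≅ W) (b : W' ⟶ V),
        (EtShriek.compEtale j).map b = e.hom ≫ a := fun {W} a => by
    refine ⟨(EtShriek.compEtaleLift j a).1, (EtShriek.compEtaleLift j a).2,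
      MorphismProperty.Over.homMk a.left rfl trivial, MorphismProperty.Over.Hom.ext ?_⟩
    exact (Category.id_comp _).symm
  refine ⟨fun W a m hW hm => ?_, fun W a s x => ?_⟩
  · obtain ⟨W', e, b, hb⟩ := key a
    refine h.inj W' b m ?_ ?_
    · exact hW.map e.inv.left
    · change F.obj.map ((EtShriek.compEtale j).map b).op (σ m) = 0
      rw [hb]
      exact (LocConst45.map_comp' F e.hom a _).trans ((congrArg (F.obj.map e.hom.op) hm).trans (map_zero _))
  · obtain ⟨W', e, b, hb⟩ := key a
    obtain ⟨V', g, v, m, hv, hm⟩ := h.surj W' b (F.obj.map e.hom.op s) (e.inv.left x)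
    refine ⟨(EtShriek.compEtale j).obj V', (EtShriek.compEtale j).map g ≫ e.hom, v, m, ?_, ?_⟩
    · change e.hom.left (g.left v) = x
      rw [hv, ← Scheme.Hom.comp_apply]
      exact congrArg (fun q : W.left ⟶ W.left => q x) (congrArg (fun q : W ⟶ W => q.left) e.inv_hom_id)
    · rw [LocConst45.map_comp', Category.assoc, ← hb, ← Functor.map_comp]
      exact hm

/-- Finite local constancy is etale local. -/
theorem flc_of_etale_cover {F : EtCoh.Ab X}
    (h : ∀ x : X, ∃ (U : Scheme.{u}) (j : U ⟶ X), Etale j ∧ x ∈ Set.range j ∧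
      EtCoh.IsFiniteLocallyConstant ((EtCoh.pull j).obj F)) :
    EtCoh.IsFiniteLocallyConstant F := by
  refine (LocConst45.finiteLocallyConstant_iff F).2 fun x => ?_
  obtain ⟨U, j, hj, ⟨u', rfl⟩, hF⟩ := h x
  have := EtCore45.jCont j
  obtain ⟨V, v, M, _, _, σ, hv, hσ⟩ := (LocConst45.finiteLocallyConstant_iff _).1
    (flc_of_iso ((EtCore45.pullRestrIso j).app F) hF) u'
  exact ⟨(EtShriek.compEtale j).obj V, v, M, inferInstance, inferInstance, σ,
    (congrArg j hv), isTriv_compEtale j σ hσ⟩

end Groth.Agent.Cons51
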