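import Groth.Agent.Cons51.ExtZero
import Groth.Agent.Cons51.Local
import Groth.Agent.EtCore45.FiniteBC
import Groth.Agent.S7179
import Mathlib.AlgebraicGeometry.Morphisms.WeaklyEtale

/-!
Direct images of constructible sheaves along finite etale morphisms.
-/

set_option autoImplicit false
set_option backward.isDefEq.respectTransparency.types false
universe u

open CategoryTheory CategoryTheory.Limits AlgebraicGeometry Topology Opposite

namespace Groth.Agent.Cons51

/-- A constructible subset of a qcqs scheme that is locally closed is a difference of quasi-compact opens. -/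
theorem exists_qc_opens {X : Scheme.{u}} [CompactSpace X] [QuasiSeparatedSpace X] {E : Set X}
    (hE : Topology.IsConstructible E) (hl : IsLocallyClosed E) :
    ∃ W W' : X.Opens, IsCompact (W : Set X) ∧ IsCompact (W' : Set X) ∧ E = (W : Set X) \ (W' : Set X) := by
  have : SpectralSpace X := { }
  have hcons : ∀ A : Set X, Topology.IsConstructible A → IsCompact A := fun A hA =>
    SpecSp50.isCompact_of_compact_of_le SpecSp50.cons_le SpecSp50.compactSpace_cons
      ((@isOpen_compl_iff X A (constructibleTopology X)).1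
        (FlatMor66.isClopen_constructibleTopology_of_isConstructible hA).2)
  obtain ⟨O, C, hO, hC, rfl⟩ := hl
  obtain ⟨W, hWc, hWo, hEW, hWO⟩ : ∃ W : Set X, IsCompact W ∧ IsOpen W ∧ O ∩ C ⊆ W ∧ W ⊆ O := by
    choose B hB hxB hBO using fun x : ↥(O ∩ C) =>
      exists_isAffineOpen_mem_and_subset (X := X) (x := x.1) (U := ⟨O, hO⟩) x.2.1
    obtain ⟨L, hL⟩ := (hcons _ hE).elim_finite_subcover (fun x => (B x : Set X)) (fun x => (B x).2)
      fun x hx => Set.mem_iUnion.2 ⟨⟨x, hx⟩, hxB _⟩
    exact ⟨_, L.finite_toSet.isCompact_biUnion fun x _ => (hB x).isCompact,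
      isOpen_biUnion fun x _ => (B x).2, hL, Set.iUnion₂_subset fun x _ => hBO x⟩
  have e : W \ (O ∩ C) = W ∩ Cᶜ :=
    Set.ext fun z => ⟨fun h => ⟨h.1, fun hzC => h.2 ⟨hWO h.1, hzC⟩⟩, fun h => ⟨h.1, fun hz => h.2 hz.2⟩⟩
  have hW' : IsCompact (W \ (O ∩ C)) := hcons _ ((hWc.isConstructible hWo).sdiff hE)
  refine ⟨⟨W, hWo⟩, ⟨W \ (O ∩ C), e ▸ hWo.inter hC.isOpen_compl⟩, hWc, hW', ?_⟩
  simp only [TopologicalSpace.Opens.coe_mk]
  rw [Set.sdiff_sdiff_right_self]
  exact (Set.inter_eq_right.2 hEW).symm

/-- Quasi-compact opens of a finite etale scheme become closed over a stratum through a given point. -/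
theorem exists_stratum {X Y : Scheme.{u}} [CompactSpace Y] [QuasiSeparatedSpace Y] [CompactSpace X]
    [QuasiSeparatedSpace X] (f : X ⟶ Y) [IsSeparated f] [Etale f] {κ : Type} [Finite κ] (W : κ → X.Opens)
    (hW : ∀ k, IsCompact (W k : Set X)) (y : Y) :
    ∃ (T : Scheme.{u}) (g : T ⟶ Y), IsImmersion g ∧ IsReduced T ∧ Topology.IsConstructible (Set.range g) ∧
      y ∈ Set.range g ∧ ∀ k, IsClosed (pullback.fst f g ⁻¹' (W k : Set X)) := by
  have : ∀ k, CompactSpace (W k).toScheme := fun k => isCompact_iff_compactSpace.1 (hW k)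
  have : ∀ k, QuasiSeparatedSpace (W k).toScheme := fun k => quasiSeparatedSpace_of_quasiSeparated (W k).ι
  choose n S s hs hsc hsd hscov hfin using fun k => EtStrat51.exists_strata ((W k).ι ≫ f)
  choose i hi using fun k => Set.mem_iUnion.1 ((hscov k).ge (Set.mem_univ y))
  let Z : Set Y := ⋂ k, Set.range (s k (i k))
  have hZl : IsLocallyClosed Z := by
    cases nonempty_fintype κ
    have h : ∀ L : Finset κ, IsLocallyClosed (⋂ k ∈ L, Set.range (s k (i k))) := fun L => by
      classical
      induction L using Finset.induction with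
      | empty => simpa using isOpen_univ.isLocallyClosed
      | insert a L _ ih =>
        rw [Finset.set_biInter_insert]
        have := hs a (i a)
        exact (s a (i a)).isLocallyClosed_range.inter ih
    simpa [Z] using h Finset.univ
  obtain ⟨T, g, hg, hT, hgr⟩ := exists_reduced_immersion hZl
  refine ⟨T, g, hg, hT, hgr ▸ Topology.IsConstructible.iInter fun k => hsc k (i k),
    hgr.ge (Set.mem_iInter.2 hi), fun k => ?_⟩
  have := hs k (i k)
  obtain ⟨l, hl⟩ := exists_lift g (s k (i k)) (hgr.le.trans (Set.iInter_subset _ k))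
  have : IsFinite (pullback.snd ((W k).ι ≫ f) g) := by
    have := hfin k (i k)
    subst hl
    rw [← ((IsPullback.of_hasPullback (pullback.snd ((W k).ι ≫ f) (s k (i k))) l).paste_horiz
      (IsPullback.of_hasPullback ((W k).ι ≫ f) (s k (i k)))).isoPullback_inv_snd]
    infer_instance
  have := EtStrat51.isFinite_piece f g (W k)
  have : IsFinite (pullback.fst f g ⁻¹ᵁ W k).ι :=
    IsFinite.of_comp _ (pullback.snd f g)
  have h := (pullback.fst f g ⁻¹ᵁ W k).ι.isClosedMap.isClosed_range
  rwa [Scheme.Opens.range_ι] at h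

/-- Direct image along a finite etale morphism onto an affine scheme. -/
theorem isConstructible_push_fet_affine {X Y : Scheme.{u}} [IsAffine Y] (f : X ⟶ Y) [IsFinite f] [Etale f]
    {F : EtCoh.Ab X} (hF : EtPBC.IsConstructible F) : EtPBC.IsConstructible ((EtCoh.push f).obj F) := by
  have : IsAffine X := isAffine_of_isAffineHom f
  obtain ⟨κ, hκ, E, -, hEc, hEcov, hflc⟩ :=
    strataCover_of_adapted ((isConstructible_iff_adapted_univ F).1 hF)
  choose W W' hW hW' hE using fun k => exists_qc_opens
    ((isConstructible_preimage_iff_of_isOpenEmbedding isOpen_univ.isOpenEmbedding_subtypeVal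
      (by simp) (by simp)).1 (hEc k)) (hflc k).isLocallyClosed
  choose T g hg hT hgc hgy hcl using fun y : Y => exists_stratum f (Sum.elim W W')
    (fun | .inl k => hW k | .inr k => hW' k) y
  refine isConstructible_of_immersions _ T g hgc
    (Set.eq_univ_of_forall fun y => Set.mem_iUnion.2 ⟨y, hgy y⟩) fun y => isConstructible_of_flc ?_
  have : Etale (pullback.snd f (g y)) := MorphismProperty.pullback_snd _ _ inferInstance
  have : IsFinite (pullback.snd f (g y)) := MorphismProperty.pullback_snd _ _ inferInstance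
  have h := (IsPullback.of_hasPullback f (g y))
  have := EtCore45.isIso_baseChange0_finite f (g y) (pullback.snd f (g y)) (pullback.fst f (g y)) h F
  refine flc_of_iso (asIso (EtCoh.baseChange0 f (g y) (pullback.snd f (g y)) (pullback.fst f (g y)) h.w F)).symm
    (S0106.result _ _ (flc_of_etale_cover fun x => ?_))
  have : IsReduced (pullback f (g y)) := S7179.result (pullback.snd f (g y))
  obtain ⟨k, hk⟩ := Set.mem_iUnion.1 (hEcov (Set.mem_univ (pullback.fst f (g y) x)))
  rw [hE] at hk
  let O : (pullback f (g y)).Opens := ⟨pullback.fst f (g y) ⁻¹' (W k : Set X) \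
    pullback.fst f (g y) ⁻¹' (W' k : Set X), ((W k).2.preimage (pullback.fst f (g y)).continuous).sdiff
      (hcl y (.inr k))⟩
  refine ⟨O, O.ι, inferInstance, O.range_ι.ge hk, flc_of_iso ((EtCore.pullComp O.ι (pullback.fst f (g y))).app F)
    ((hflc k).pull_of_range_subset _ ?_)⟩
  rintro _ ⟨z, rfl⟩
  rw [hE]
  exact O.range_ι.le ⟨z, rfl⟩

/-- Direct image along a finite etale morphism preserves constructibility. -/
theorem isConstructible_push_fet {X Y : Scheme.{u}} (f : X ⟶ Y) [IsFinite f] [Etale f]
    {F : EtCoh.Ab X} (hF : EtPBC.IsConstructible F) : EtPBC.IsConstructible ((EtCoh.push f).obj F) := by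
  refine isConstructible_of_open_cover _ (fun V : Y.affineOpens => V.1) (iSup_affineOpens_eq_top Y) fun V => ?_
  have : IsAffine V.1.toScheme := V.2
  have : IsFinite (f ∣_ V.1) := MorphismProperty.of_isPullback (isPullback_morphismRestrict f V.1).flip inferInstance
  have h := (isPullback_morphismRestrict f V.1).flip
  have := EtCore45.isIso_baseChange0_finite f V.1.ι (f ∣_ V.1) (f ⁻¹ᵁ V.1).ι h F
  exact isConstructible_of_iso (asIso (EtCoh.baseChange0 f V.1.ι (f ∣_ V.1) (f ⁻¹ᵁ V.1).ι h.w F)).symm
    (isConstructible_push_fet_affine _ (isConstructible_pull _ hF))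

end Groth.Agent.Cons51
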