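import Groth.Agent.Cons51.StalkExt
import Groth.Agent.Cons51.PushFet
import Groth.Agent.SpecSp50.Maps

/-!
Constructibility descends along surjective morphisms.
-/

set_option autoImplicit false
set_option backward.isDefEq.respectTransparency.types false
universe u

open CategoryTheory CategoryTheory.Limits AlgebraicGeometry Topology Opposite
open Groth.Agent.Unr55.EtSh Groth.Agent.LocConst45

namespace Groth.Agent.Cons51

/-- A set with constructible preimage under a surjective spectral map is constructible. -/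
theorem isConstructible_of_preimage {A B : Type*} [TopologicalSpace A] [TopologicalSpace B] [SpectralSpace A]
    [SpectralSpace B] {g : A → B} (hg : IsSpectralMap g) (hsurj : Function.Surjective g) {S : Set B}
    (h : Topology.IsConstructible (g ⁻¹' S)) : Topology.IsConstructible S := by
  have hcl : ∀ s : Set A, @IsClosed A (constructibleTopology A) s → @IsClosed B (constructibleTopology B) (g '' s) := by
    intro s hs
    have hc : @IsCompact A (constructibleTopology A) s := @IsClosed.isCompact A (constructibleTopology A) s SpecSp50.compactSpace_cons hs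
    exact @IsCompact.isClosed B (constructibleTopology B) SpecSp50.t2Space_cons _
      (@IsCompact.image A B (constructibleTopology A) (constructibleTopology B) s g hc (SpecSp50.continuous_cons_of_isSpectralMap hg))
  have hE := SpecSp50.isConstructible_cons_isClopen h
  refine SpecSp50.isConstructible_of_isClopen_cons ⟨?_, ?_⟩
  · rw [← Set.image_preimage_eq S hsurj]
    exact hcl _ hE.1
  · rw [← @isClosed_compl_iff B (constructibleTopology B) S, ← Set.image_preimage_eq Sᶜ hsurj]
    exact hcl _ (@IsOpen.isClosed_compl A (constructibleTopology A) _ hE.2)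

variable {X Y : Scheme.{u}}

/-- The map of presheaves given by global sections. -/
noncomputable def constPre {F : EtCoh.Ab X} {M : AddCommGrpCat.{u + 1}}
    (σ : M →+ EtCoh.sect F (EtCoh.top X)) : (Functor.const X.Etaleᵒᵖ).obj M ⟶ F.obj :=
    { app := fun W => AddCommGrpCat.ofHom ((F.obj.map ((MorphismProperty.Over.mkIdTerminal EtCoh.etaleMP X).from W.unop).op).hom.comp σ)
      naturality := fun W V k => ConcreteCategory.hom_ext _ _ fun m => by
        refine (congrArg (fun q : V.unop ⟶ EtCoh.top X => F.obj.map q.op (σ m))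
          ((MorphismProperty.Over.mkIdTerminal EtCoh.etaleMP X).hom_ext
            ((MorphismProperty.Over.mkIdTerminal EtCoh.etaleMP X).from V.unop)
            (k.unop ≫ (MorphismProperty.Over.mkIdTerminal EtCoh.etaleMP X).from W.unop))).trans ?_
        exact map_comp' F k.unop _ _ }

/-- The map out of a constant sheaf given by global sections. -/
noncomputable def constDesc {F : EtCoh.Ab X} {M : AddCommGrpCat.{u + 1}}
    (σ : M →+ EtCoh.sect F (EtCoh.top X)) :
    (constantSheaf X.smallEtaleTopology AddCommGrpCat.{u + 1}).obj M ⟶ F :=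
  ⟨sheafifyLift X.smallEtaleTopology (constPre σ) F.property⟩

theorem constDesc_constσ {F : EtCoh.Ab X} {M : AddCommGrpCat.{u + 1}}
    (σ : M →+ EtCoh.sect F (EtCoh.top X)) (m : M) :
    (constDesc σ).hom.app (op (EtCoh.top X)) (constσ M (EtCoh.top X) m) = σ m := by
  refine (ConcreteCategory.congr_hom (NatTrans.congr_app
    (toSheafify_sheafifyLift X.smallEtaleTopology (constPre σ) F.property) (op (EtCoh.top X))) m).trans ?_
  show F.obj.map ((MorphismProperty.Over.mkIdTerminal EtCoh.etaleMP X).from (EtCoh.top X)).op (σ m) = σ m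
  rw [(MorphismProperty.Over.mkIdTerminal EtCoh.etaleMP X).hom_ext
    ((MorphismProperty.Over.mkIdTerminal EtCoh.etaleMP X).from (EtCoh.top X)) (𝟙 (EtCoh.top X))]
  exact ConcreteCategory.congr_hom (F.obj.map_id _) (σ m)

/-- Stalks of constructible sheaves are finite. -/
theorem finite_stalk {F : EtCoh.Ab X} (hF : EtPBC.IsConstructible F) {Ω : Type u} [Field Ω] [IsSepClosed Ω]
    (η : Spec (CommRingCat.of Ω) ⟶ X) : Finite ((EtCoh.stalk η).obj F) := by
  obtain ⟨V, hV, hxV, -, κ, hκ, E, -, -, hcov, hflc⟩ := exists_strataCover hF isOpen_univ (x := η default) trivial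
  obtain ⟨k, hk⟩ := Set.mem_iUnion.1 (hcov hxV)
  obtain ⟨T, g, hg, hgr, hT⟩ := hflc k
  obtain ⟨ζ, rfl⟩ := exists_lift η g (by rintro _ ⟨a, rfl⟩; rw [default_eq a]; exact hgr.ge hk)
  obtain ⟨U, u, M, _, _, σ, hu, hσ⟩ := (finiteLocallyConstant_iff _).1 hT (ζ default)
  obtain ⟨p⟩ := EtCore45.exists_pt U ζ ⟨u, hu⟩
  have : Finite ((EtCoh.stalk ζ).obj ((EtCoh.pull g).obj F)) :=
    Finite.of_surjective _ (bijective_germ_of_triv hσ p).surjective
  exact Finite.of_injective _ (theta_bijective g ζ F).injective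

/-- The locus where a map of constructible sheaves is bijective on stalks. -/
theorem bijective_locus [CompactSpace X] [QuasiSeparatedSpace X] {F G : EtCoh.Ab X} (φ : F ⟶ G)
    (hF : EtPBC.IsConstructible F) (hG : EtPBC.IsConstructible G) :
    Topology.IsConstructible {x : X | ∀ (Ω : Type u) [Field Ω] [IsSepClosed Ω]
      (ξ : Spec (CommRingCat.of Ω) ⟶ X), ξ default = x → Function.Bijective ((EtCoh.stalk ξ).map φ)} := by
  have hk := isConstructible_kernel_cokernel φ hF hG
  convert ((isLocallyConstructible_supp _ hk.1).isConstructible.union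
    (isLocallyConstructible_supp _ hk.2).isConstructible).compl using 1
  ext x
  constructor
  · rintro hx (⟨Ω, _, _, ξ, hξ, hne⟩ | ⟨Ω, _, _, ξ, hξ, hne⟩) <;>
      have := (ConcreteCategory.isIso_iff_bijective _).2 (hx Ω ξ ((range_eq_singleton ξ x).1 hξ))
    · exact hne ((isZero_kernel_of_mono ((EtCoh.stalk ξ).map φ)).of_iso (PreservesKernel.iso (EtCoh.stalk ξ) φ))
    · exact hne ((isZero_cokernel_of_epi ((EtCoh.stalk ξ).map φ)).of_iso (PreservesCokernel.iso (EtCoh.stalk ξ) φ))
  · intro hx Ω _ _ ξ hξ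
    have h1 : IsZero ((EtCoh.stalk ξ).obj (kernel φ)) := by
      by_contra h; exact hx (.inl ⟨Ω, inferInstance, inferInstance, ξ, (range_eq_singleton ξ x).2 hξ, h⟩)
    have h2 : IsZero ((EtCoh.stalk ξ).obj (cokernel φ)) := by
      by_contra h; exact hx (.inr ⟨Ω, inferInstance, inferInstance, ξ, (range_eq_singleton ξ x).2 hξ, h⟩)
    have : Mono ((EtCoh.stalk ξ).map φ) :=
      Preadditive.mono_of_kernel_zero ((h1.of_iso (PreservesKernel.iso (EtCoh.stalk ξ) φ).symm).eq_of_src _ _)
    have : Epi ((EtCoh.stalk ξ).map φ) :=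
      Preadditive.epi_of_cokernel_zero ((h2.of_iso (PreservesCokernel.iso (EtCoh.stalk ξ) φ).symm).eq_of_tgt _ _)
    have := isIso_of_mono_of_epi ((EtCoh.stalk ξ).map φ)
    exact (ConcreteCategory.isIso_iff_bijective _).1 this

theorem bijective_stalk_pull {T : Scheme.{u}} (g : T ⟶ X) {A B : EtCoh.Ab X} (φ : A ⟶ B) {Ω : Type u} [Field Ω]
    [IsSepClosed Ω] (ξ : Spec (CommRingCat.of Ω) ⟶ T) :
    Function.Bijective ((EtCoh.stalk ξ).map ((EtCoh.pull g).map φ)) ↔
      Function.Bijective ((EtCoh.stalk (ξ ≫ g)).map φ) := by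
  rw [← ConcreteCategory.isIso_iff_bijective, ← ConcreteCategory.isIso_iff_bijective]
  exact NatIso.isIso_map_iff (stalkPullIso g ξ) φ

/-- Near a point, on an etale neighbourhood, a sheaf with constructible pullback is locally constant
along a constructible set through the point. -/
theorem exists_etale_piece [IsAffine Y] [CompactSpace X] [QuasiSeparatedSpace X] (f : X ⟶ Y) [Surjective f]
    {F : EtCoh.Ab Y} (hF : EtPBC.IsConstructible ((EtCoh.pull f).obj F)) (y : Y) :
    ∃ (U : Scheme.{u}) (j : U ⟶ Y) (E : Set U) (u : U), IsAffine U ∧ Etale j ∧ j u = y ∧ u ∈ E ∧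
      Topology.IsConstructible E ∧ IsLocallyClosed E ∧ FlcOn ((EtCoh.pull j).obj F) E := by
  obtain ⟨x, rfl⟩ := f.surjective y
  obtain ⟨Ω, _, _, ξ, t, ht⟩ := point_over (EtCoh.top X) x
  have hξ : ξ default = x := by
    have : hom ξ t = ξ := (Category.comp_id _).symm.trans (Over.w t)
    rwa [this] at ht
  have := finite_stalk hF ξ
  have : Finite ((EtCoh.stalk (ξ ≫ f)).obj F) := Finite.of_injective _ (theta_bijective f ξ F).injective
  obtain ⟨U₀, p₀, σ₀, hσ₀⟩ := exists_stalk_realisation F (ξ ≫ f)
  obtain ⟨B, hB, hpB, -⟩ := exists_isAffineOpen_mem_and_subset (X := U₀.left) (x := hom (ξ ≫ f) p₀ default) (U := ⊤) trivial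
  let V := openSub U₀ B
  let p := ptOpen B p₀ hpB
  let σ := (F.obj.map (openSubι U₀ B).op).hom.comp σ₀
  have hσ : ∀ m, germ (ξ ≫ f) F p (σ m) = m := fun m => by
    show germ (ξ ≫ f) F p (F.obj.map (openSubι U₀ B).op (σ₀ m)) = m
    rw [germ_map, map_ptOpen, hσ₀]
  have : Etale V.hom := V.prop
  have : IsAffine V.left := hB
  let ζ : Spec (CommRingCat.of Ω) ⟶ V.left := hom (ξ ≫ f) p
  have hζ : ζ ≫ V.hom = ξ ≫ f := Over.w p
  let Δ : EtCoh.top V.left ⟶ (EtCoh.bc V.hom).obj V :=
    MorphismProperty.Over.homMk (pullback.lift (𝟙 _) (𝟙 _) rfl) (pullback.lift_snd _ _ _) trivial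
  let σ' : ((EtCoh.stalk (ξ ≫ f)).obj F : AddCommGrpCat.{u + 1}) →+ EtCoh.sect ((EtCoh.pull V.hom).obj F) (EtCoh.top V.left) :=
    (((EtCoh.pull V.hom).obj F).obj.map Δ.op).hom.comp
      ((((EtCoh.pullPushAdj V.hom).unit.app F).hom.app (op V)).hom.comp σ)
  let φ := constDesc σ'
  have hφζ : Function.Bijective ((EtCoh.stalk ζ).map φ) := by
    let q : Pt ζ (EtCoh.top V.left) := mkPt _ ζ (Category.comp_id _)
    have hc := bijective_germ_of_triv (isTriv_const ((EtCoh.stalk (ξ ≫ f)).obj F) (EtCoh.top V.left)) q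
    refine (Function.Bijective.of_comp_iff _ hc).1 ?_
    let s : Pt (ζ ≫ V.hom) V := mkPt _ ζ rfl
    have hs : (Scheme.pointSmallEtale ζ).fiber.map Δ q = ptUp V.hom ζ s := by
      refine Over.OverMorphism.ext ?_
      show ζ ≫ pullback.lift (𝟙 _) (𝟙 _) rfl = pullback.lift ζ ζ rfl
      exact pullback.hom_ext
        ((Category.assoc _ _ _).trans ((congrArg (ζ ≫ ·) (pullback.lift_fst _ _ _)).trans
          ((Category.comp_id _).trans (pullback.lift_fst _ _ _).symm)))
        ((Category.assoc _ _ _).trans ((congrArg (ζ ≫ ·) (pullback.lift_snd _ _ _)).trans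
          ((Category.comp_id _).trans (pullback.lift_snd _ _ _).symm)))
    have e : ∀ m, (EtCoh.stalk ζ).map φ (germ ζ _ q (constσ _ (EtCoh.top V.left) m)) =
        theta V.hom ζ F (germ (ζ ≫ V.hom) F s (σ m)) := fun m => by
      refine (stalk_map_germ _ _ _ _).trans ((congrArg _ (constDesc_constσ σ' m)).trans ?_)
      rw [theta_germ, ← hs, ← germ_map]
      rfl
    have h2 : Function.Bijective fun m => germ (ζ ≫ V.hom) F s (σ m) := by
      have aux : ∀ (η : Spec (CommRingCat.of Ω) ⟶ Y) (hη : ζ ≫ V.hom = η),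
          Function.Bijective (fun m => germ η F (mkPt _ ζ hη) (σ m)) →
          Function.Bijective fun m => germ (ζ ≫ V.hom) F s (σ m) := by rintro _ rfl h; exact h
      refine aux _ hζ ?_
      exact (funext hσ : (fun m => germ (ξ ≫ f) F p (σ m)) = id) ▸ Function.bijective_id
    have h3 := (theta_bijective V.hom ζ F).comp h2
    convert h3 using 1
    funext m
    exact e m
  let g : pullback V.hom f ⟶ V.left := pullback.fst V.hom f
  have : IsAffine ((𝟭 Scheme.{u}).obj V.left) := hB
  have : IsAffine ((Functor.fromPUnit Y).obj V.right) := ‹IsAffine Y›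
  have : IsAffineHom V.hom := isAffineHom_of_isAffine V.hom
  have : IsAffineHom (pullback.snd V.hom f) := MorphismProperty.pullback_snd _ _ inferInstance
  have : CompactSpace ↥(pullback V.hom f) := QuasiCompact.compactSpace_of_compactSpace (pullback.snd V.hom f)
  have : QuasiSeparatedSpace ↥(pullback V.hom f) := quasiSeparatedSpace_of_quasiSeparated (pullback.snd V.hom f)
  have h1 : EtPBC.IsConstructible ((EtCoh.pull g).obj ((EtCoh.pull V.hom).obj F)) :=
    isConstructible_of_iso (((EtCore.pullComp (pullback.snd V.hom f) f).app F).symm ≪≫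
      (EtCore.pullCongr pullback.condition.symm).app F ≪≫ (EtCore.pullComp g V.hom).app F)
      (isConstructible_pull (pullback.snd V.hom f) hF)
  have h0 : EtPBC.IsConstructible ((EtCoh.pull g).obj
      ((constantSheaf V.left.smallEtaleTopology AddCommGrpCat.{u + 1}).obj ((EtCoh.stalk (ξ ≫ f)).obj F))) :=
    isConstructible_of_flc (LocConst45.isFiniteLocallyConstant_pull _ ((finiteLocallyConstant_iff _).2 fun z =>
      ⟨EtCoh.top V.left, z, _, inferInstance, inferInstance, _, rfl, isTriv_const _ _⟩))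
  let S : Set V.left := {z | ∀ (K : Type u) [Field K] [IsSepClosed K] (η : Spec (CommRingCat.of K) ⟶ V.left),
    η default = z → Function.Bijective ((EtCoh.stalk η).map φ)}
  have hpre : Topology.IsConstructible (g ⁻¹' S) := by
    convert bijective_locus ((EtCoh.pull g).map φ) h0 h1 using 1
    ext w
    constructor
    · intro hw K _ _ η hη
      exact (bijective_stalk_pull g φ η).2 (hw K (η ≫ g) (congrArg g hη))
    · intro hw K _ _ η hη
      obtain ⟨K', _, _, η', t', ht'⟩ := point_over (EtCoh.top (pullback V.hom f)) w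
      have hη' : η' default = w := by
        have : hom η' t' = η' := (Category.comp_id _).symm.trans (Over.w t')
        rwa [this] at ht'
      exact bijective_stalk_of_eq φ (η' ≫ g) η ((congrArg g hη').trans hη.symm)
        ((bijective_stalk_pull g φ η').1 (hw K' η' hη'))
  have : SpectralSpace ↥(pullback V.hom f) := { }
  have : SpectralSpace ↥V.left := { }
  have hS := isConstructible_of_preimage g.isSpectralMap g.surjective hpre
  have hu : ζ default ∈ S := fun K _ _ η hη => bijective_stalk_of_eq φ ζ η hη.symm hφζ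
  obtain ⟨ι, hι, E, hE, -, hEu⟩ := exists_partition hS
  obtain ⟨k, hk⟩ := Set.mem_iUnion.1 (hEu.ge hu)
  obtain ⟨T, e, he, heR⟩ := EtStrat51.exists_immersion (hE k).1
  have : IsIso ((EtCoh.pull e).map φ) := isIso_of_stalks _ fun K _ _ η =>
    (bijective_stalk_pull e φ η).2 (hEu.le (Set.mem_iUnion.2 ⟨k, heR.le ⟨η default, rfl⟩⟩) K _ rfl)
  refine ⟨V.left, V.hom, E k, ζ default, inferInstance, inferInstance, ?_, hk, (hE k).2, (hE k).1,
    T, e, he, heR, flc_of_iso (asIso ((EtCoh.pull e).map φ)) (LocConst45.isFiniteLocallyConstant_pull _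
      ((finiteLocallyConstant_iff _).2 fun z =>
        ⟨EtCoh.top V.left, z, _, inferInstance, inferInstance, _, rfl, isTriv_const _ _⟩))⟩
  rw [← hξ]
  exact congrArg (fun q : Spec (CommRingCat.of Ω) ⟶ Y => q default) hζ

/-- Constructibility descends along a surjection onto an affine scheme. -/
theorem isConstructible_of_pull_affine [IsAffine Y] [CompactSpace X] [QuasiSeparatedSpace X] (f : X ⟶ Y)
    [Surjective f] {F : EtCoh.Ab Y} (hF : EtPBC.IsConstructible ((EtCoh.pull f).obj F)) :
    EtPBC.IsConstructible F := by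
  have key : ∀ y : Y, ∃ (T : Scheme.{u}) (g : T ⟶ Y), IsImmersion g ∧ Topology.IsConstructible (Set.range g) ∧
      y ∈ Set.range g ∧ EtCoh.IsFiniteLocallyConstant ((EtCoh.pull g).obj F) := by
    intro y
    obtain ⟨U, j, E, u, hU, hj, rfl, huE, hEc, hEl, hflc⟩ := exists_etale_piece f hF y
    obtain ⟨W, W', hW, hW', hEW⟩ := exists_qc_opens hEc hEl
    obtain ⟨T, g, hg, hT, hgc, ⟨t, ht⟩, hcl⟩ :=
      exists_stratum j (fun _ : Unit => W') (fun _ => hW') (j u)
    have : IsAffine U := hU
    let p₁ := pullback.fst j g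
    let p₂ := pullback.snd j g
    let O : (pullback j g).Opens := ⟨p₁ ⁻¹' (W : Set U) \ p₁ ⁻¹' (W' : Set U),
      (W.2.preimage p₁.continuous).sdiff (hcl ())⟩
    have hgcc : IsCompact (Set.range g) :=
      SpecSp50.isCompact_of_compact_of_le SpecSp50.cons_le (@SpecSp50.compactSpace_cons Y _ { })
        ((@isOpen_compl_iff Y (Set.range g) (constructibleTopology Y)).1
          (FlatMor66.isClopen_constructibleTopology_of_isConstructible hgc).2)
    have : CompactSpace T := ⟨g.isEmbedding.isInducing.isCompact_iff.2 (by rwa [Set.image_univ])⟩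
    have : QuasiCompact g := by
      have : QuasiCompact (g ≫ terminal.from Y) := by rw [terminal.comp_from]; infer_instance
      exact QuasiCompact.of_comp g (terminal.from Y)
    have hOc : IsCompact (O : Set ↥(pullback j g)) := (p₁.isCompact_preimage hW).diff
      ((W'.2.preimage p₁.continuous))
    have : Etale p₂ := MorphismProperty.pullback_snd _ _ inferInstance
    let O' : T.Opens := ⟨p₂ '' (O : Set ↥(pullback j g)), p₂.isOpenMap _ O.2⟩
    refine ⟨O'.toScheme, O'.ι ≫ g, inferInstance, ?_, ?_, flc_of_etale_cover fun z => ?_⟩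
    · rw [Scheme.Hom.comp_base, TopCat.coe_comp, Set.range_comp, Scheme.Opens.range_ι]
      have : SpectralSpace Y := { }
      have : QuasiSeparatedSpace T := quasiSeparatedSpace_of_quasiSeparated g
      exact isConstructible_image g.isEmbedding hgc (((hOc.image p₂.continuous).isRetrocompact O'.2).isConstructible O'.2)
    · obtain ⟨w, hw1, hw2⟩ := Scheme.Pullback.exists_preimage_pullback (f := j) (g := g) u t ht.symm
      rw [Scheme.Hom.comp_base, TopCat.coe_comp, Set.range_comp, Scheme.Opens.range_ι]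
      refine ⟨t, ⟨w, ?_, hw2⟩, ht⟩
      show p₁ w ∈ (W : Set U) \ (W' : Set U)
      rw [show p₁ w = u from hw1, ← hEW]
      exact huE
    · have hsub : O ≤ p₂ ⁻¹ᵁ O' := fun w hw => ⟨w, hw, rfl⟩
      obtain ⟨w, hw, hwz⟩ := (z.2 : O'.ι z ∈ O')
      refine ⟨O.toScheme, p₂.resLE O' O hsub, inferInstance, ⟨⟨w, hw⟩, O'.ι.isOpenEmbedding.injective ?_⟩, ?_⟩
      · rw [← Scheme.Hom.comp_apply, Scheme.Hom.resLE_comp_ι]
        exact hwz
      · have : IsReduced (pullback j g) := S7179.result (pullback.snd j g)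
        have h := hflc.pull_of_range_subset (O.ι ≫ p₁) (by
          rintro _ ⟨w', rfl⟩
          rw [hEW]
          exact O.range_ι.le ⟨w', rfl⟩)
        refine flc_of_iso (((EtCore.pullComp (O.ι ≫ p₁) j).app F).symm ≪≫ (EtCore.pullCongr ?_).app F ≪≫
          (EtCore.pullComp (p₂.resLE O' O hsub) (O'.ι ≫ g)).app F) h
        rw [Category.assoc, pullback.condition, Scheme.Hom.resLE_comp_ι_assoc]
  choose T g hg hgc hgy hflc using key
  exact isConstructible_of_immersions F T g hgc (Set.eq_univ_of_forall fun y => Set.mem_iUnion.2 ⟨y, hgy y⟩)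
    fun y => isConstructible_of_flc (hflc y)

/-- Constructibility is detected after a surjective morphism which is quasi-compact and quasi-separated,
or locally of finite presentation. -/
theorem isConstructible_of_pull (f : X ⟶ Y) [Surjective f]
    (h : ∀ V : Y.Opens, IsAffineOpen V → ∃ (X' : Scheme.{u}) (a : X' ⟶ X) (b : X' ⟶ V.toScheme),
      CompactSpace X' ∧ QuasiSeparatedSpace X' ∧ Surjective b ∧ a ≫ f = b ≫ V.ι)
    {F : EtCoh.Ab Y} (hF : EtPBC.IsConstructible ((EtCoh.pull f).obj F)) : EtPBC.IsConstructible F := by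
  refine isConstructible_of_open_cover F (fun V : Y.affineOpens => V.1) (iSup_affineOpens_eq_top Y) fun V => ?_
  obtain ⟨X', a, b, _, _, _, e⟩ := h V.1 V.2
  have : IsAffine V.1.toScheme := V.2
  exact isConstructible_of_pull_affine b (isConstructible_of_iso (((EtCore.pullComp a f).app F).symm ≪≫
    (EtCore.pullCongr e).app F ≪≫ (EtCore.pullComp b V.1.ι).app F) (isConstructible_pull a hF))

end Groth.Agent.Cons51
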