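import Groth.Agent.Cons51.SpecFlc
import Groth.Agent.FlatCrit65.GenFlat
import Groth.Agent.SpPts86.LocPMore
import Mathlib.AlgebraicGeometry.Morphisms.UniversallyOpen

/-!
Finite local constancy descends along flat surjections; uniform stratifications.
-/

set_option autoImplicit false
set_option backward.isDefEq.respectTransparency.types false
universe u v

open CategoryTheory CategoryTheory.Limits AlgebraicGeometry Topology Opposite
open Groth.Agent.Unr55.EtSh Groth.Agent.LocConst45

namespace Groth.Agent.Cons51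

variable {X W : Scheme.{u}} {F : EtCoh.Ab X}

theorem exists_geomPoint (x : X) : ∃ (Ω : Type u) (_ : Field Ω) (_ : IsSepClosed Ω)
    (ξ : Spec (CommRingCat.of Ω) ⟶ X), ξ default = x := by
  obtain ⟨Ω, _, _, ξ, t, ht⟩ := point_over (EtCoh.top X) x
  refine ⟨Ω, inferInstance, inferInstance, ξ, ?_⟩
  have : hom ξ t = ξ := (Category.comp_id _).symm.trans (Over.w t)
  rwa [this] at ht

theorem countLocus_pull (π : W ⟶ X) (F : EtCoh.Ab X) (n : ℕ) :
    countLocus ((EtCoh.pull π).obj F) n = π ⁻¹' countLocus F n := by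
  ext w
  constructor
  · rintro ⟨Ω, _, _, ξ, hξ, hn⟩
    refine ⟨Ω, inferInstance, inferInstance, ξ ≫ π,
      (range_eq_singleton _ _).2 ((Scheme.Hom.comp_apply _ _ _).trans (congrArg π ((range_eq_singleton ξ w).1 hξ))), ?_⟩
    rw [← hn]
    exact Nat.card_congr (Equiv.ofBijective _ (theta_bijective π ξ F))
  · rintro ⟨Ω, _, _, η, hη, hn⟩
    obtain ⟨K, _, _, ξ, hξ⟩ := exists_geomPoint w
    refine ⟨K, inferInstance, inferInstance, ξ, (range_eq_singleton ξ w).2 hξ, ?_⟩
    rw [← hn, ← Nat.card_congr (Equiv.ofBijective _ (theta_bijective π ξ F))]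
    exact card_stalk_eq F (ξ ≫ π) η (((Scheme.Hom.comp_apply _ _ _).trans (congrArg π hξ)).trans
      ((range_eq_singleton η _).1 hη).symm)

theorem mem_vanishing_iff {U : X.Etale} {Ω : Type u} [Field Ω] [IsSepClosed Ω] {η : Spec (CommRingCat.of Ω) ⟶ X}
    (p : Pt η U) (s : EtCoh.sect F U) : hom η p default ∈ vanishing F s ↔ germ η F p s = 0 := by
  constructor
  · intro h
    obtain ⟨V, g, hg⟩ := Set.mem_iUnion₂.1 h
    obtain ⟨h0, v, hv⟩ := Set.mem_iUnion.1 hg
    obtain ⟨t, ht⟩ := exists_pt_over g p v hv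
    rw [← ht, ← germ_map]
    exact (congrArg (germ η F t) h0).trans (map_zero _)
  · intro h
    obtain ⟨V, g, t, ht, h0⟩ := (germ_eq_zero_iff η F p s).1 h
    exact range_le_vanishing F s g h0 ⟨hom η t default, congrArg (fun r => hom η r default) ht⟩

/-- In a finite locally constant sheaf, the vanishing locus of a section is closed. -/
theorem isClosed_vanishing (hF : EtCoh.IsFiniteLocallyConstant F) {U : X.Etale} (s : EtCoh.sect F U) :
    IsClosed (vanishing F s : Set U.left) := by
  rw [← isOpen_compl_iff, isOpen_iff_forall_mem_open]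
  intro u hu
  obtain ⟨V, v, M, _, _, σ, hv, hσ⟩ := (finiteLocallyConstant_iff F).1 hF (U.hom u)
  obtain ⟨Ω, _, _, η, p, hp⟩ := point_over U u
  have hη : η default = U.hom u := by
    rw [← hp, ← Scheme.Hom.comp_apply]
    exact (congrArg (fun r : Spec (CommRingCat.of Ω) ⟶ X => r default) (Over.w p)).symm
  obtain ⟨q⟩ := EtCore45.exists_pt V η ⟨v, hv.trans hη.symm⟩
  obtain ⟨⟨W, w⟩, a, b, -⟩ := IsCofiltered.toIsCofilteredOrEmpty.cone_objs
    (C := (Scheme.pointSmallEtale η).fiber.Elements) ⟨U, p⟩ ⟨V, q⟩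
  obtain ⟨W', g, w', m, hw', hm⟩ := hσ.surj W b.val (F.obj.map a.val.op s) (hom η w default)
  have := etale_left (g ≫ a.val)
  refine ⟨Set.range (g ≫ a.val).left, ?_, isOpen_range_left _, w', ?_⟩
  · rintro _ ⟨z, rfl⟩ hz
    obtain ⟨K, _, _, κ, r, hr⟩ := point_over W' z
    have hz' : hom κ ((Scheme.pointSmallEtale κ).fiber.map (g ≫ a.val) r) default ∈ vanishing F s := by
      rw [← hr] at hz
      exact hz
    have h0 := (mem_vanishing_iff _ s).1 hz'
    rw [← germ_map, map_comp', hm, germ_map] at h0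
    have hm0 : m = 0 := (bijective_germ_of_triv hσ _).1 (h0.trans (by rw [map_zero, map_zero]) :
      germ κ F ((Scheme.pointSmallEtale κ).fiber.map (g ≫ b.val) r) (σ m) =
        germ κ F ((Scheme.pointSmallEtale κ).fiber.map (g ≫ b.val) r) (σ 0))
    refine hu ?_
    rw [← hp]
    refine (mem_vanishing_iff p s).2 ?_
    obtain ⟨t, ht⟩ := exists_pt_over g w w' hw'
    refine (congrArg (fun r => germ η F r s) a.property.symm).trans ((germ_map η F a.val w s).symm.trans ?_)
    refine (congrArg (fun r => germ η F r (F.obj.map a.val.op s)) ht.symm).trans ((germ_map η F g t _).symm.trans ?_)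
    rw [hm, hm0, map_zero, map_zero, map_zero]
  · show (g ≫ a.val).left w' = u
    rw [← hp]
    have : a.val.left (g.left w') = hom η p default := by
      rw [hw']
      exact (Scheme.Hom.comp_apply _ _ _).symm.trans (congrArg (fun r => hom η r default) a.property)
    exact (Scheme.Hom.comp_apply _ _ _).trans this

/-- Finite local constancy descends along flat surjections locally of finite type. -/
theorem flc_of_pull_flat [IsLocallyNoetherian X] (π : W ⟶ X) [Flat π] [LocallyOfFiniteType π] [Surjective π]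
    (h : EtCoh.IsFiniteLocallyConstant ((EtCoh.pull π).obj F)) : EtCoh.IsFiniteLocallyConstant F := by
  have hfinW : ∀ {K : Type u} [Field K] [IsSepClosed K] (ξ : Spec (CommRingCat.of K) ⟶ W),
      Finite ((EtCoh.stalk ξ).obj ((EtCoh.pull π).obj F)) := fun {K} _ _ ξ => by
    obtain ⟨U, u, M, _, _, σ, hu, hσ⟩ := (finiteLocallyConstant_iff _).1 h (ξ default)
    obtain ⟨p⟩ := EtCore45.exists_pt U ξ ⟨u, hu⟩
    exact Finite.of_surjective _ (bijective_germ_of_triv hσ p).surjective
  have hfin : ∀ (Ω : Type u) [Field Ω] [IsSepClosed Ω] (η : Spec (CommRingCat.of Ω) ⟶ X),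
      Finite ((EtCoh.stalk η).obj F) := fun Ω _ _ η => by
    obtain ⟨w, hw⟩ := π.surjective (η default)
    obtain ⟨z, hz, -⟩ := Scheme.Pullback.exists_preimage_pullback (f := η) (g := π) default w hw.symm
    let K := AlgebraicClosure ((pullback η π).residueField z)
    let k : Spec (CommRingCat.of K) ⟶ pullback η π :=
      Spec.map (CommRingCat.ofHom (algebraMap ((pullback η π).residueField z) K)) ≫
        (pullback η π).fromSpecResidueField z
    have := hfinW (k ≫ pullback.snd η π)
    have : Finite ((EtCoh.stalk ((k ≫ pullback.snd η π) ≫ π)).obj F) :=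
      Finite.of_injective _ (theta_bijective π _ F).injective
    have he : (k ≫ pullback.snd η π) ≫ π = (k ≫ pullback.fst η π) ≫ η := by
      simp only [Category.assoc, pullback.condition]
    rw [he] at this
    exact Finite.of_injective _ (stalkExt_bijective (k ≫ pullback.fst η π) η F).injective
  have : LocallyOfFinitePresentation π := SpPts86.lfp_of_lft π
  have hCL : ∀ n, IsClopen (countLocus F n) := fun n => by
    have hW : IsClopen (countLocus ((EtCoh.pull π).obj F) n) := by
      have := isClopen_countLocus_pull (𝟙 W) (F := (EtCoh.pull π).obj F)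
        (LocConst45.isFiniteLocallyConstant_pull _ h) n
      simpa using this
    rw [countLocus_pull] at hW
    have hq : IsQuotientMap π := π.isOpenMap.isQuotientMap π.continuous π.surjective
    exact ⟨hq.isClosed_preimage.1 hW.1, hq.isOpen_preimage.1 hW.2⟩
  refine flc_of_isIso_sheafFiber hfin fun Ω Ω' _ _ _ _ ξ ξ' φ => ?_
  have hspec : ∀ {U : X.Etale} (p : Pt ξ U), hom ξ' (φ.hom.app U p) default ⤳ hom ξ p default := fun {U} p => by
    refine specializes_iff_forall_open.2 fun O hO hpO => ?_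
    let O' : U.left.Opens := ⟨O, hO⟩
    have e : φ.hom.app U p = (Scheme.pointSmallEtale ξ').fiber.map (openSubι U O') (φ.hom.app _ (ptOpen O' p hpO)) := by
      refine (congrArg (fun r => φ.hom.app U r) (map_ptOpen O' p hpO).symm).trans ?_
      exact ConcreteCategory.congr_hom (φ.hom.naturality (openSubι U O')) (ptOpen O' p hpO)
    rw [e]
    exact O'.range_ι.le ⟨hom ξ' (φ.hom.app _ (ptOpen O' p hpO)) default, (Scheme.Hom.comp_apply _ _ _).symm⟩
  refine (ConcreteCategory.isIso_iff_bijective _).2 ?_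
  have := hfin Ω ξ
  have := hfin Ω' ξ'
  refine ((injective_iff_map_eq_zero
    ((GrothendieckTopology.Point.Hom.sheafFiber (A := AddCommGrpCat.{u + 1}) φ).app F).hom).2
      fun a ha => ?_).bijective_of_nat_card_le (le_of_eq ?_)
  · obtain ⟨U, p, s, rfl⟩ := exists_germ_eq ξ F a
    have hg : hom ξ' (φ.hom.app U p) default ∈ vanishing F s :=
      (mem_vanishing_iff _ s).2 ((sheafFiber_germ φ p s).symm.trans ha)
    rw [← mem_vanishing_iff]
    let U' := (EtCoh.bc π).obj U
    let s' := ((EtCoh.pullPushAdj π).unit.app F).hom.app (op U) s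
    have hvan : ∀ z : U'.left, z ∈ vanishing ((EtCoh.pull π).obj F) s' ↔ pullback.fst U.hom π z ∈ vanishing F s := by
      intro z
      obtain ⟨K, _, _, κ, t, ht⟩ := point_over U' z
      have e : pullback.fst U.hom π z = hom (κ ≫ π) (ptDown π κ t) default := by
        rw [← ht]
        exact (Scheme.Hom.comp_apply _ _ _).symm
      rw [e, ← ht, mem_vanishing_iff, mem_vanishing_iff]
      have e2 := theta_germ π κ F (ptDown π κ t) s
      rw [ptUp_ptDown] at e2
      rw [← e2, map_eq_zero_iff _ (theta_bijective π κ F).injective]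
    obtain ⟨w, hw⟩ := π.surjective (ξ default)
    have hpt : U.hom (hom ξ p default) = ξ default := by
      rw [← Scheme.Hom.comp_apply]
      exact congrArg (fun r : Spec (CommRingCat.of Ω) ⟶ X => r default) (Over.w p)
    obtain ⟨z, hz, -⟩ := Scheme.Pullback.exists_preimage_pullback (f := U.hom) (g := π) (hom ξ p default) w
      (hpt.trans hw.symm)
    have : Flat (pullback.fst U.hom π) := MorphismProperty.pullback_fst _ _ inferInstance
    obtain ⟨z', hz'z, hz'⟩ := Flat.generalizingMap (pullback.fst U.hom π)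
      (a := z) (hz.symm ▸ hspec p : hom ξ' (φ.hom.app U p) default ⤳ pullback.fst U.hom π z)
    rw [← hz, ← hvan]
    exact hz'z.mem_closed (isClosed_vanishing h s') ((hvan z').2 (hz'.symm ▸ hg))
  · obtain ⟨t⟩ := EtCore45.exists_pt (EtCoh.top X) ξ ⟨ξ default, rfl⟩
    have hd : ξ' default ⤳ ξ default := by
      have h1 := hspec t
      have a1 : hom ξ t = ξ := (Category.comp_id _).symm.trans (Over.w t)
      have a2 : hom ξ' (φ.hom.app (EtCoh.top X) t) = ξ' := (Category.comp_id _).symm.trans (Over.w _)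
      rwa [a1, a2] at h1
    obtain ⟨K, _, _, κ, hκ, hn⟩ : ξ' default ∈ countLocus F (Nat.card ((EtCoh.stalk ξ).obj F)) :=
      hd.mem_open (hCL _).2 ⟨Ω, inferInstance, inferInstance, ξ, (range_eq_singleton ξ _).2 rfl, rfl⟩
    exact ((card_stalk_eq F ξ' κ ((range_eq_singleton κ _).1 hκ).symm).trans hn)

/-- Near the generic point of an irreducible closed set, simultaneous descent of finite local constancy. -/
theorem exists_flc_piece_of_lft {X' : Scheme.{u}} [IsNoetherian X] [IsNoetherian X'] (q : X' ⟶ X) [Surjective q]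
    [LocallyOfFiniteType q] {ι : Type v} (G : ι → EtCoh.Ab X) {n : ℕ} (T : Fin n → Scheme.{u})
    (g : ∀ i, T i ⟶ X') [∀ i, IsImmersion (g i)] (hcov : (⋃ i, Set.range (g i)) = Set.univ)
    (hG : ∀ k i, EtCoh.IsFiniteLocallyConstant ((EtCoh.pull (g i)).obj ((EtCoh.pull q).obj (G k)))) (x : X) :
    ∃ (Z : Scheme.{u}) (c : Z ⟶ X), IsImmersion c ∧ x ∈ Set.range c ∧
      ∀ k, EtCoh.IsFiniteLocallyConstant ((EtCoh.pull c).obj (G k)) := by
  obtain ⟨Z, z, hz, hZ, hzr⟩ := exists_reduced_immersion (isClosed_closure (s := {x})).isLocallyClosed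
  obtain ⟨t₀, ht₀⟩ : x ∈ Set.range z := hzr.ge (subset_closure rfl)
  have hgen : ∀ t : Z, t₀ ⤳ t := fun t => z.isEmbedding.isInducing.specializes_iff.1
    (ht₀.symm ▸ specializes_iff_mem_closure.2 (hzr.le ⟨t, rfl⟩))
  obtain ⟨x', hx'⟩ := q.surjective x
  obtain ⟨i, a₀, ha₀⟩ := Set.mem_iUnion.1 (hcov.ge (Set.mem_univ x'))
  obtain ⟨A, hA, haA, -⟩ := exists_isAffineOpen_mem_and_subset (X := T i) (x := a₀) (U := ⊤) trivial
  have : IsAffine A.toScheme := hA
  let f : A.toScheme ⟶ X := A.ι ≫ g i ≫ q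
  have : QuasiCompact f := by
    have : QuasiCompact (f ≫ terminal.from X) := by rw [terminal.comp_from]; infer_instance
    exact QuasiCompact.of_comp f (terminal.from X)
  have : LocallyOfFiniteType f := inferInstance
  have : LocallyOfFiniteType (pullback.snd f z) := MorphismProperty.pullback_snd _ _ inferInstance
  have : QuasiCompact (pullback.snd f z) := MorphismProperty.pullback_snd _ _ inferInstance
  obtain ⟨U, hUd, hUf, hUp⟩ := FlatCrit65.exists_dense_flat_lfp (pullback.snd f z)
  have ht₀U : t₀ ∈ U := by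
    obtain ⟨y, hy, -⟩ := hUd.exists_mem_open isOpen_univ ⟨t₀, trivial⟩
    exact (hgen y).mem_open U.2 hy
  let b := pullback.snd f z ∣_ U
  obtain ⟨w, hw1, hw2⟩ := Scheme.Pullback.exists_preimage_pullback (f := f) (g := z) (⟨a₀, haA⟩ : A.toScheme) t₀
    (by show q (g i (A.ι ⟨a₀, haA⟩)) = z t₀; rw [ht₀, ← hx', ← ha₀]; rfl)
  let V : U.toScheme.Opens := ⟨Set.range b, b.isOpenMap.isOpen_range⟩
  have ht₀V : (⟨t₀, ht₀U⟩ : U.toScheme) ∈ V := by
    refine ⟨⟨w, show pullback.snd f z w ∈ U from hw2.symm ▸ ht₀U⟩, U.ι.isOpenEmbedding.injective ?_⟩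
    rw [← Scheme.Hom.comp_apply, morphismRestrict_ι, Scheme.Hom.comp_apply]
    exact hw2
  have : Surjective (b ∣_ V) := ⟨fun v => by
    obtain ⟨a, ha⟩ := v.2
    refine ⟨⟨a, show b a ∈ V from ⟨a, rfl⟩⟩, V.ι.isOpenEmbedding.injective ?_⟩
    rw [← Scheme.Hom.comp_apply, morphismRestrict_ι, Scheme.Hom.comp_apply]
    exact ha⟩
  have : Flat (b ∣_ V) := MorphismProperty.of_isPullback (isPullback_morphismRestrict b V).flip hUf
  have : LocallyOfFiniteType (b ∣_ V) :=
    MorphismProperty.of_isPullback (isPullback_morphismRestrict b V).flip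
      (MorphismProperty.of_isPullback (isPullback_morphismRestrict (pullback.snd f z) U).flip
        (inferInstance : LocallyOfFiniteType (pullback.snd f z)))
  let c : V.toScheme ⟶ X := V.ι ≫ U.ι ≫ z
  have : IsLocallyNoetherian V.toScheme := LocallyOfFiniteType.isLocallyNoetherian c
  refine ⟨V.toScheme, c, inferInstance, ⟨⟨⟨t₀, ht₀U⟩, ht₀V⟩, ?_⟩, fun k => flc_of_pull_flat (b ∣_ V) ?_⟩
  · show z (U.ι (V.ι ⟨⟨t₀, ht₀U⟩, ht₀V⟩)) = x
    exact ht₀
  · let r := (b ⁻¹ᵁ V).ι ≫ (pullback.snd f z ⁻¹ᵁ U).ι ≫ pullback.fst f z ≫ A.ι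
    have e : r ≫ g i ≫ q = (b ∣_ V) ≫ c := by
      simp only [r, c, Category.assoc, morphismRestrict_ι_assoc, b]
      congr 2
      exact pullback.condition
    refine flc_of_iso (((EtCore.pullComp r (g i ≫ q)).app (G k)).symm ≪≫ (EtCore.pullCongr e).app (G k) ≪≫
      (EtCore.pullComp (b ∣_ V) c).app (G k)) (LocConst45.isFiniteLocallyConstant_pull r ?_)
    exact flc_of_iso ((EtCore.pullComp (g i) q).app (G k)).symm (hG k i)

/-- Uniform stratification by descent along a surjection of finite type. -/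
theorem exists_uniform_strata {X' : Scheme.{u}} [IsNoetherian X] [IsNoetherian X'] (q : X' ⟶ X) [Surjective q]
    [LocallyOfFiniteType q] {ι : Type v} (G : ι → EtCoh.Ab X) {n : ℕ} (T : Fin n → Scheme.{u})
    (g : ∀ i, T i ⟶ X') [∀ i, IsImmersion (g i)] (hcov : (⋃ i, Set.range (g i)) = Set.univ)
    (hG : ∀ k i, EtCoh.IsFiniteLocallyConstant ((EtCoh.pull (g i)).obj ((EtCoh.pull q).obj (G k)))) :
    ∃ (m : ℕ) (T₀ : Fin m → Scheme.{u}) (g₀ : ∀ j, T₀ j ⟶ X), (∀ j, IsImmersion (g₀ j)) ∧
      Pairwise (fun j j' => Disjoint (Set.range (g₀ j)) (Set.range (g₀ j'))) ∧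
      (⋃ j, Set.range (g₀ j)) = Set.univ ∧
      ∀ k j, EtCoh.IsFiniteLocallyConstant ((EtCoh.pull (g₀ j)).obj (G k)) := by
  classical
  choose Z c hc hxc hflc using exists_flc_piece_of_lft q G T g hcov hG
  have hE : ∀ x, Topology.IsConstructible (Set.range (c x)) := fun x => by
    obtain ⟨O, C, hO, hC, e⟩ := (c x).isLocallyClosed_range
    rw [e]
    exact ((TopologicalSpace.NoetherianSpace.isCompact O).isConstructible hO).inter
      (Topology.isConstructible_compl.1 ((TopologicalSpace.NoetherianSpace.isCompact Cᶜ).isConstructible hC.isOpen_compl))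
  have : SpectralSpace X := { }
  obtain ⟨L, hL⟩ := (isCompact_univ (X := WithConstructibleTopology X)).elim_finite_subcover
    (fun x : X => WithTopology.ofTopology ⁻¹' Set.range (c x))
    (fun x => WithConstructibleTopology.isOpen_iff.mpr
      (Groth.Agent.FlatMor66.isClopen_constructibleTopology_of_isConstructible (hE x)).1)
    (fun z _ => Set.mem_iUnion.2 ⟨WithTopology.ofTopology z, hxc _⟩)
  obtain ⟨N, ⟨e⟩⟩ := Finite.exists_equiv_fin L
  let D : Fin N → Set X := fun i => Set.range (c (e.symm i).1) \ ⋃ j ∈ {j | j < i}, Set.range (c (e.symm j).1)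
  have hD : ∀ i, Topology.IsConstructible (D i) := fun i =>
    (hE _).sdiff (Topology.IsConstructible.biUnion (Set.toFinite _) fun j _ => hE _)
  choose κ hκ A hA hAd hAu using fun i => exists_partition (hD i)
  have := hκ
  obtain ⟨m, ⟨σ⟩⟩ := Finite.exists_equiv_fin (Σ i, κ i)
  choose T₀ g₀ hg₀ hT₀ hr using fun k => exists_reduced_immersion (hA (σ.symm k).1 (σ.symm k).2).1
  have hsub : ∀ k, A (σ.symm k).1 (σ.symm k).2 ⊆ D (σ.symm k).1 := fun k z hz =>
    (hAu _).le (Set.mem_iUnion.2 ⟨_, hz⟩)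
  refine ⟨m, T₀, g₀, hg₀, fun j j' hjj => ?_, Set.eq_univ_of_forall fun x => ?_, fun k j => ?_⟩
  · dsimp only
    rw [hr, hr]
    refine Set.disjoint_left.2 fun z hz hz' => ?_
    have h1 := hsub j hz
    have h2 := hsub j' hz'
    rcases lt_trichotomy (σ.symm j).1 (σ.symm j').1 with hlt | heq | hlt
    · exact h2.2 (Set.mem_biUnion (x := (σ.symm j).1) hlt h1.1)
    · rcases hj : σ.symm j with ⟨a, b⟩
      rcases hj' : σ.symm j' with ⟨a', b'⟩
      rw [hj, hj'] at heq
      rw [hj] at hz
      rw [hj'] at hz'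
      obtain rfl : a = a' := heq
      by_cases hb : b = b'
      · subst hb
        exact hjj (σ.symm.injective (hj.trans hj'.symm))
      · exact Set.disjoint_left.1 (hAd a hb) hz hz'
    · exact h1.2 (Set.mem_biUnion (x := (σ.symm j').1) hlt h2.1)
  · obtain ⟨l, hl, hxl⟩ := Set.mem_iUnion₂.1 (hL (Set.mem_univ (WithTopology.toTopology _ x)))
    have hne : (Finset.univ.filter fun i : Fin N => x ∈ Set.range (c (e.symm i).1)).Nonempty :=
      ⟨e ⟨l, hl⟩, Finset.mem_filter.2 ⟨Finset.mem_univ _, by rw [Equiv.symm_apply_apply]; exact hxl⟩⟩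
    have hmin := (Finset.mem_filter.1 (Finset.min'_mem _ hne)).2
    have hxD : x ∈ D ((Finset.univ.filter fun i : Fin N => x ∈ Set.range (c (e.symm i).1)).min' hne) := by
      refine ⟨hmin, ?_⟩
      simp only [Set.mem_iUnion, not_exists]
      intro j (hj : j < _) hxj
      exact absurd (Finset.min'_le _ j (Finset.mem_filter.2 ⟨Finset.mem_univ _, hxj⟩)) (not_le.2 hj)
    obtain ⟨d, hd⟩ := Set.mem_iUnion.1 ((hAu _).ge hxD)
    refine Set.mem_iUnion.2 ⟨σ ⟨_, d⟩, ?_⟩
    rw [hr, Equiv.symm_apply_apply]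
    exact hd
  · have := hT₀ j
    exact FlcOn.pull_of_range_subset ⟨_, c _, hc _, rfl, hflc _ k⟩ (g₀ j)
      ((hr j).le.trans ((hsub j).trans Set.sdiff_subset))

end Groth.Agent.Cons51
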