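import Groth.Agent.Cons51.Gen
import Groth.Agent.Cons51.FlatDesc
import Groth.Agent.Cons51.Descent

/-!
Presentations of constructible sheaves killed by `n`.
-/

set_option autoImplicit false
set_option backward.isDefEq.respectTransparency.types false
universe u

open CategoryTheory CategoryTheory.Limits AlgebraicGeometry Topology Opposite
open Groth.Agent.Unr55.EtSh
open scoped ZeroObject
open Groth.Agent.FlatMor66 (isClopen_constructibleTopology_of_isConstructible)

namespace Groth.Agent.Cons51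

variable {X : Scheme.{u}}

theorem eqToHom_family {C : Type*} [Category C] {ι : Type*} (A : ι → C) {B : C} (g : ∀ i, A i ⟶ B)
    {a b : ι} (h : a = b) : eqToHom (congrArg A h).symm ≫ g a = g b := by
  subst h
  simp

theorem isConstructible_genObj [CompactSpace X] [QuasiSeparatedSpace X] (W : X.Etale) [IsAffine W.left]
    (n : ℕ) [NeZero n] : EtPBC.IsConstructible (EtPBC.extZeroConst W (ZMod n)) := by
  have : Etale W.hom := W.prop
  have : CompactSpace ↥((Functor.fromPUnit X).obj W.right) := inferInstanceAs (CompactSpace X)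
  have : QuasiSeparatedSpace ↥((Functor.fromPUnit X).obj W.right) := inferInstanceAs (QuasiSeparatedSpace X)
  have : IsAffine ((𝟭 Scheme.{u}).obj W.left) := ‹_›
  exact isConstructible_of_iso (nonempty_extZeroConst W (ZMod n)).some.symm
    (isConstructible_extZero W.hom (flc_const (ZMod n)))

theorem isConstructible_biproduct_fin : ∀ {m : ℕ} (A : Fin m → EtCoh.Ab X),
    (∀ i, EtPBC.IsConstructible (A i)) → EtPBC.IsConstructible (⨁ A)
  | 0, A, _ => by
    refine isConstructible_of_iso (IsZero.iso (isZero_zero _) ?_) isConstructible_zero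
    rw [IsZero.iff_id_eq_zero]
    exact biproduct.hom_ext' _ _ fun i => i.elim0
  | m + 1, A, h => by
    let f : (⨁ fun i : Fin m => A i.succ) ⟶ ⨁ A := biproduct.desc fun i => biproduct.ι A i.succ
    have w : f ≫ biproduct.π A 0 = 0 := biproduct.hom_ext' _ _ fun i => by
      simp [f, biproduct.ι_π_ne _ (Fin.succ_ne_zero i)]
    let σ : (ShortComplex.mk f (biproduct.π A 0) w).Splitting :=
      { r := biproduct.lift fun i => biproduct.π A i.succ
        s := biproduct.ι A 0
        f_r := biproduct.hom_ext' _ _ fun i => biproduct.hom_ext _ _ fun j => by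
          simp [f, biproduct.ι_π, Fin.succ_inj]
        s_g := biproduct.ι_π_self A 0
        id := by
          have e : biproduct.lift (fun i : Fin m => biproduct.π A i.succ) ≫ f =
              ∑ i : Fin m, biproduct.π A i.succ ≫ biproduct.ι A i.succ := by
            simp [f, biproduct.lift_desc]
          dsimp only
          rw [e]
          exact (add_comm _ _).trans
            ((Fin.sum_univ_succ fun i => biproduct.π A i ≫ biproduct.ι A i).symm.trans biproduct.total) }
    exact isConstructible_extension _ σ.shortExact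
      (isConstructible_biproduct_fin _ fun i => h i.succ) (h 0)

theorem killedBy_of_nsmul {G : EtCoh.Ab X} {n : ℕ} (h : n • 𝟙 G = 0) : EtCoh.KilledBy n G := fun U s => by
  let ev : (G ⟶ G) →+ EtCoh.sect G U := AddMonoidHom.mk' (fun f => f.hom.app (op U) s) fun _ _ => rfl
  show n • ev (𝟙 G) = 0
  rw [← map_nsmul, h, map_zero]

theorem nsmul_extZeroConst (W : X.Etale) (n : ℕ) : n • 𝟙 (EtPBC.extZeroConst W (ZMod n)) = 0 := by
  let Φ := constantSheaf (X.smallEtaleTopology.over W) AddCommGrpCat.{u + 1} ⋙ EtPBC.extZero W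
  obtain ⟨A⟩ := (⟨(constantSheafAdj (X.smallEtaleTopology.over W) AddCommGrpCat.{u + 1} Over.mkIdTerminal).comp
    (EtPBC.extZeroAdj W)⟩ : Nonempty (Φ ⊣ _))
  have := A.leftAdjoint_preservesColimits
  have := preservesBinaryBiproducts_of_preservesBinaryCoproducts Φ
  have : Φ.Additive := Functor.additive_of_preservesBinaryBiproducts Φ
  have h0 : n • 𝟙 (AddCommGrpCat.of (ULift.{u + 1} (ZMod n))) = 0 := by
    ext z
    show (n • z).down = 0
    exact ZModModule.char_nsmul_eq_zero n z.down
  have := congrArg Φ.map h0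
  rw [Functor.map_nsmul, Φ.map_id, Φ.map_zero] at this
  exact this

theorem nsmul_biproduct {m : ℕ} {A : Fin m → EtCoh.Ab X} {n : ℕ} (h : ∀ i, n • 𝟙 (A i) = 0) :
    n • 𝟙 (⨁ A) = 0 := biproduct.hom_ext' _ _ fun i => by
  rw [Preadditive.comp_nsmul, Category.comp_id, comp_zero, ← Category.id_comp (biproduct.ι A i),
    ← Preadditive.nsmul_comp, h i, zero_comp]

theorem nsmul_of_mono {K B : EtCoh.Ab X} (i : K ⟶ B) [Mono i] {n : ℕ} (h : n • 𝟙 B = 0) : n • 𝟙 K = 0 := by
  rw [← cancel_mono i, Preadditive.nsmul_comp, Category.id_comp, zero_comp, ← Category.comp_id i,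
    ← Preadditive.comp_nsmul, h, comp_zero]

/-- Finitely many `j_! ℤ/n` surject onto a constructible sheaf killed by `n`. -/
theorem exists_gen_epi [CompactSpace X] [QuasiSeparatedSpace X] {n : ℕ} (hn : 0 < n) {F : EtCoh.Ab X}
    (hF : EtPBC.IsConstructible F) (hFn : EtCoh.KilledBy n F) :
    ∃ (b : ℕ) (U : Fin b → X.Etale) (_ : ∀ i, IsAffine (U i).left)
      (p : (⨁ fun i => EtPBC.extZeroConst (U i) (ZMod n)) ⟶ F), Epi p := by
  have : NeZero n := ⟨hn.ne'⟩
  have : SpectralSpace X := { }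
  have hpt : ∀ x : X, ∃ (b : ℕ) (U : Fin b → X.Etale) (_ : ∀ i, IsAffine (U i).left)
      (p : (⨁ fun i => EtPBC.extZeroConst (U i) (ZMod n)) ⟶ F) (W : Set X),
      Topology.IsConstructible W ∧ x ∈ W ∧ ∀ y ∈ W, ∀ (Ω : Type u) [Field Ω] [IsSepClosed Ω]
        (ξ : Spec (CommRingCat.of Ω) ⟶ X), Set.range ξ = {y} → Function.Surjective ((EtCoh.stalk ξ).map p) := by
    intro x
    obtain ⟨Ω, _, _, ξ, hξ⟩ := exists_geomPoint x
    have := finite_stalk hF ξ
    obtain ⟨b, ⟨e⟩⟩ := Finite.exists_equiv_fin ((EtCoh.stalk ξ).obj F : AddCommGrpCat.{u + 1})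
    have hlift : ∀ a : ((EtCoh.stalk ξ).obj F : AddCommGrpCat.{u + 1}), ∃ (W : X.Etale) (_ : IsAffine W.left)
        (f : EtPBC.extZeroConst W (ZMod n) ⟶ F) (c : ((EtCoh.stalk ξ).obj (EtPBC.extZeroConst W (ZMod n)) :
          AddCommGrpCat.{u + 1})), (EtCoh.stalk ξ).map f c = a := by
      intro a
      obtain ⟨U, q, σ, rfl⟩ := exists_germ_eq ξ F a
      obtain ⟨B, hB, htB, -⟩ :=
        exists_isAffineOpen_mem_and_subset (X := U.left) (x := hom ξ q default) (U := ⊤) trivial
      obtain ⟨f, g, hfg⟩ := exists_genSect (openSub U B) n (F.obj.map (openSubι U B).op σ) (hFn _ _)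
      refine ⟨openSub U B, hB, f, germ ξ _ (ptOpen B q htB) g, ?_⟩
      rw [stalk_map_germ]
      exact (congrArg (germ ξ F (ptOpen B q htB)) hfg).trans ((germ_map ξ F (openSubι U B) (ptOpen B q htB) σ).trans
        (congrArg (fun t => germ ξ F t σ) (map_ptOpen B q htB)))
    choose W hW f c hc using hlift
    let U : Fin b → X.Etale := fun i => W (e.symm i)
    let p : (⨁ fun i => EtPBC.extZeroConst (U i) (ZMod n)) ⟶ F := biproduct.desc fun i => f (e.symm i)
    have hP : EtPBC.IsConstructible (⨁ fun i => EtPBC.extZeroConst (U i) (ZMod n)) :=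
      isConstructible_biproduct_fin _ fun i => by
        have := hW (e.symm i)
        exact isConstructible_genObj (U i) n
    refine ⟨b, U, fun i => hW _, p, _, surjective_locus p hP hF, ?_, fun y hy Ω' _ _ ξ' hξ' => hy Ω' ξ' hξ'⟩
    have hs : Function.Surjective ((EtCoh.stalk ξ).map p) := fun a => by
      obtain ⟨i, rfl⟩ := e.symm.surjective a
      refine ⟨(EtCoh.stalk ξ).map (biproduct.ι (fun i => EtPBC.extZeroConst (U i) (ZMod n)) i) (c (e.symm i)), ?_⟩
      rw [← ConcreteCategory.comp_apply, ← Functor.map_comp, biproduct.ι_desc]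
      exact hc _
    intro Ω' _ _ ξ' hξ'
    have hz : IsZero ((EtCoh.stalk ξ).obj (cokernel p)) := by
      have := (AddCommGrpCat.epi_iff_surjective _).2 hs
      exact (isZero_cokernel_of_epi ((EtCoh.stalk ξ).map p)).of_iso (PreservesCokernel.iso (EtCoh.stalk ξ) p)
    have hz0 : ∀ {A : Type u} [Field A] [IsSepClosed A] (η : Spec (CommRingCat.of A) ⟶ X),
        IsZero ((EtCoh.stalk η).obj (0 : EtCoh.Ab X)) := fun η => (EtCoh.stalk η).map_isZero (isZero_zero _)
    have hb : Function.Bijective ((EtCoh.stalk ξ).map (0 : cokernel p ⟶ 0)) := by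
      have := AddCommGrpCat.subsingleton_of_isZero hz
      have := AddCommGrpCat.subsingleton_of_isZero (hz0 ξ)
      exact ⟨fun _ _ _ => Subsingleton.elim _ _, fun y => ⟨0, Subsingleton.elim _ _⟩⟩
    have hb' := bijective_stalk_of_eq (0 : cokernel p ⟶ 0) ξ ξ'
      (hξ.trans ((range_eq_singleton ξ' x).1 hξ').symm) hb
    have := AddCommGrpCat.subsingleton_of_isZero (hz0 ξ')
    have := hb'.injective.subsingleton
    have hz' : IsZero ((EtCoh.stalk ξ').obj (cokernel p)) := AddCommGrpCat.isZero_of_subsingleton _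
    exact (AddCommGrpCat.epi_iff_surjective _).1
      (Abelian.epi_of_cokernel_π_eq_zero _
        ((hz'.of_iso (PreservesCokernel.iso (EtCoh.stalk ξ') p).symm).eq_of_tgt _ _))
  choose b U hU p W hWc hWx hWs using hpt
  obtain ⟨L, hL⟩ := (isCompact_univ (X := WithConstructibleTopology X)).elim_finite_subcover
    (fun x : X => WithTopology.ofTopology ⁻¹' W x)
    (fun x => WithConstructibleTopology.isOpen_iff.mpr
      (isClopen_constructibleTopology_of_isConstructible (hWc x)).1)
    (fun z _ => Set.mem_iUnion.2 ⟨_, hWx (WithTopology.ofTopology z)⟩)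
  obtain ⟨m, ⟨e⟩⟩ := Finite.exists_equiv_fin (Σ x : L, Fin (b x.1))
  let V : Fin m → X.Etale := fun k => U (e.symm k).1.1 (e.symm k).2
  let q : (⨁ fun k => EtPBC.extZeroConst (V k) (ZMod n)) ⟶ F :=
    biproduct.desc fun k => biproduct.ι (fun i => EtPBC.extZeroConst (U (e.symm k).1.1 i) (ZMod n)) (e.symm k).2 ≫
      p (e.symm k).1.1
  refine ⟨m, V, fun k => hU _ _, q, epi_of_stalks _ fun K _ _ η a => ?_⟩
  obtain ⟨x, hx, hηx⟩ := Set.mem_iUnion₂.1 (hL (Set.mem_univ (WithTopology.toTopology _ (η default))))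
  obtain ⟨a', rfl⟩ := hWs x (η default) hηx K η ((range_eq_singleton η _).2 rfl) a
  let t : (⨁ fun i => EtPBC.extZeroConst (U x i) (ZMod n)) ⟶ ⨁ fun k => EtPBC.extZeroConst (V k) (ZMod n) :=
    biproduct.desc fun i =>
      eqToHom (congrArg (fun z : Σ x : L, Fin (b x.1) => EtPBC.extZeroConst (U z.1.1 z.2) (ZMod n))
        (e.symm_apply_apply ⟨⟨x, hx⟩, i⟩)).symm ≫ biproduct.ι (fun k => EtPBC.extZeroConst (V k) (ZMod n)) (e ⟨⟨x, hx⟩, i⟩)
  have ht : t ≫ q = p x := by
    refine biproduct.hom_ext' _ _ fun i => ?_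
    simp only [t, q, biproduct.ι_desc_assoc, Category.assoc, biproduct.ι_desc]
    exact eqToHom_family (fun z : Σ x : L, Fin (b x.1) => EtPBC.extZeroConst (U z.1.1 z.2) (ZMod n))
      (fun z => biproduct.ι (fun j => EtPBC.extZeroConst (U z.1.1 j) (ZMod n)) z.2 ≫ p z.1.1)
      (e.symm_apply_apply ⟨⟨x, hx⟩, i⟩)
  exact ⟨(EtCoh.stalk η).map t a', by rw [← ConcreteCategory.comp_apply, ← Functor.map_comp, ht]⟩

/-- Presentation of a constructible sheaf killed by `n`. -/
theorem exists_presentation [CompactSpace X] [QuasiSeparatedSpace X] {n : ℕ} (hn : 0 < n) {F : EtCoh.Ab X}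
    (hF : EtPBC.IsConstructible F) (hFn : EtCoh.KilledBy n F) :
    ∃ (a b : ℕ) (V : Fin a → X.Etale) (U : Fin b → X.Etale) (_ : ∀ j, IsAffine (V j).left)
      (_ : ∀ i, IsAffine (U i).left)
      (φ : (⨁ fun j => EtPBC.extZeroConst (V j) (ZMod n)) ⟶ ⨁ fun i => EtPBC.extZeroConst (U i) (ZMod n)),
      Nonempty (F ≅ cokernel φ) := by
  have : NeZero n := ⟨hn.ne'⟩
  obtain ⟨b, U, hU, p, hp⟩ := exists_gen_epi hn hF hFn
  have hP : EtPBC.IsConstructible (⨁ fun i => EtPBC.extZeroConst (U i) (ZMod n)) :=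
    isConstructible_biproduct_fin _ fun i => by
      have := hU i
      exact isConstructible_genObj (U i) n
  obtain ⟨a, V, hV, q, hq⟩ := exists_gen_epi hn (isConstructible_kernel_cokernel p hP hF).1
    (killedBy_of_nsmul (nsmul_of_mono (kernel.ι p) (nsmul_biproduct fun i => nsmul_extZeroConst (U i) n)))
  exact ⟨a, b, V, U, hV, hU, q ≫ kernel.ι p, ⟨(cokernelEpiComp q (kernel.ι p) ≪≫
    (colimit.isColimit (parallelPair (kernel.ι p) 0)).coconePointUniqueUpToIso
      (Abelian.epiIsCokernelOfKernel (KernelFork.ofι (kernel.ι p) (kernel.condition p)) (kernelIsKernel p))).symm⟩⟩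

end Groth.Agent.Cons51
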