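import Groth.Agent.Cons51.Rows
import Groth.Agent.EtStrat51.Finite
import Groth.Agent.EtCore45.ExtZeroBC
import Groth.Agent.EtCore45.ExtZeroPush
import Groth.Agent.EtCore45.EtalePull
import Groth.Agent.EtCore45.AlgClosedPts
import Groth.Agent.S0106
import Groth.Agent.LocConst45.AbConst

/-!
Extension by zero of a finite locally constant sheaf is constructible.
-/

set_option autoImplicit false
set_option backward.isDefEq.respectTransparency.types false
universe u

open CategoryTheory CategoryTheory.Limits AlgebraicGeometry Topology Opposite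
open Groth.Agent.Unr55.EtSh Groth.Agent.EtCore45

namespace Groth.Agent.Cons51

variable {U X : Scheme.{u}}

/-- `j_!` of a constant sheaf, in the two models of extension by zero. -/
theorem nonempty_extZeroConst (V : X.Etale) [Etale V.hom] [EtShriek.JCont V.hom] (M : Type) [AddCommGroup M] :
    Nonempty (EtPBC.extZeroConst V M ≅ (EtShriek.extZero V.hom).obj (EtCoh.const V.left M)) := by
  have hT : IsTerminal (EtCoh.top V.left) := MorphismProperty.Over.mkIdTerminal EtCoh.etaleMP V.left
  let a1 := (constantSheafAdj (X.smallEtaleTopology.over V) AddCommGrpCat.{u + 1} Over.mkIdTerminal).comp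
    (EtPBC.extZeroAdj V)
  let a2 := (constantSheafAdj V.left.smallEtaleTopology AddCommGrpCat.{u + 1} hT).comp
    (EtShriek.extZeroAdj V.hom)
  let e : (EtShriek.compEtale V.hom).obj (EtCoh.top V.left) ≅ V :=
    MorphismProperty.Over.isoMk (Iso.refl _) ((Category.id_comp _).trans (Category.id_comp _).symm)
  let R : X.smallEtaleTopology.overPullback AddCommGrpCat.{u + 1} V ⋙
      (sheafSections (X.smallEtaleTopology.over V) AddCommGrpCat.{u + 1}).obj (op (Over.mk (𝟙 V))) ≅
      EtShriek.restrAlong V.hom ⋙
        (sheafSections V.left.smallEtaleTopology AddCommGrpCat.{u + 1}).obj (op (EtCoh.top V.left)) :=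
    NatIso.ofComponents (fun G => G.obj.mapIso e.op) (fun f => (f.hom.naturality e.op.hom).symm)
  exact ⟨(Adjunction.leftAdjointUniq (a1.ofNatIsoRight R) a2).app _⟩

/-- Constant sheaves with finite value group are finite locally constant. -/
theorem flc_const (M : Type) [AddCommGroup M] [Finite M] : EtCoh.IsFiniteLocallyConstant (EtCoh.const X M) :=
  (LocConst45.finiteLocallyConstant_iff _).2 fun x =>
    ⟨EtCoh.top X, x, ULift.{u + 1} M, inferInstance, inferInstance,
      LocConst45.constσ (AddCommGrpCat.of (ULift.{u + 1} M)) (EtCoh.top X), rfl, LocConst45.isTriv_const _ _⟩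

/-- Finite locally constant sheaves are constructible. -/
theorem isConstructible_of_flc {F : EtCoh.Ab X} (h : EtCoh.IsFiniteLocallyConstant F) : EtPBC.IsConstructible F := by
  refine isConstructible_of_nhds F fun x => ?_
  obtain ⟨W, -, hxW, -⟩ := exists_isAffineOpen_mem_and_subset (X := X) (x := x) (U := ⊤) trivial
  refine ⟨W, W.2, hxW, Unit, inferInstance, fun _ => W, fun _ => subset_rfl, fun _ => ?_,
    fun w hw => Set.mem_iUnion.2 ⟨(), hw⟩,
    fun _ => ⟨W.toScheme, W.ι, inferInstance, W.range_ι, LocConst45.isFiniteLocallyConstant_pull _ h⟩⟩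
  rw [Subtype.coe_preimage_self]
  exact Topology.IsConstructible.univ

/-- Constructibility is invariant under isomorphism. -/
theorem isConstructible_of_iso {A B : EtCoh.Ab X} (e : A ≅ B) (h : EtPBC.IsConstructible A) :
    EtPBC.IsConstructible B := fun V hV => by
  obtain ⟨n, T, g, h1, h2, h3, h4, h5⟩ := h V hV
  exact ⟨n, T, g, h1, h2, h3, h4, fun i => flc_of_iso ((EtCoh.pull (g i)).mapIso e) (h5 i)⟩

/-- Along a finite etale morphism extension by zero is the direct image. -/
theorem isIso_extToPush (j : U ⟶ X) [Etale j] [IsFinite j] [EtShriek.JCont j] (F : EtCoh.Ab U) :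
    IsIso ((extToPush j).app F) := by
  refine isIso_of_stalks_algClosed _ fun K _ _ η => ⟨extToPush_stalk_injective j η F, fun a => ?_⟩
  classical
  have : Finite (Above j η) := FlatMor66.finite_GPt j η (j.finite_preimage_singleton _)
  have := Fintype.ofFinite (Above j η)
  choose V s σ hσ using fun v : Above j η => exists_germ_eq v.1 F (pushMapAt j v.2 F a)
  refine ⟨∑ v, extZeroStalkMap j v.2 F (germ v.1 F (s v) (σ v)), ?_⟩
  refine sub_eq_zero.1 (pushMapAt_injective j F _ fun ξ h => ?_)
  rw [map_sub, map_sum, map_sum, sub_eq_zero]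
  refine (Finset.sum_eq_single (⟨ξ, h⟩ : Above j η) (fun v _ hne => ?_) (fun hξ => absurd (Finset.mem_univ _) hξ)).trans ?_
  · rw [stalk_extToPush_germ]
    exact (component_delta j v ⟨ξ, h⟩ F (s v) (σ v)).trans (dif_neg hne)
  · rw [stalk_extToPush_germ]
    refine (component_delta j ⟨ξ, h⟩ ⟨ξ, h⟩ F (s _) (σ _)).trans ?_
    rw [dif_pos rfl, eqToHom_refl, ConcreteCategory.id_apply]
    exact hσ ⟨ξ, h⟩

/-- Extension by zero of a finite locally constant sheaf is constructible. -/
theorem isConstructible_extZero [CompactSpace X] [QuasiSeparatedSpace X] [CompactSpace U]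
    [QuasiSeparatedSpace U] (j : U ⟶ X) [Etale j] [EtShriek.JCont j] {F : EtCoh.Ab U}
    (hF : EtCoh.IsFiniteLocallyConstant F) : EtPBC.IsConstructible ((EtShriek.extZero j).obj F) := by
  obtain ⟨n, T, g, hg, hc, -, hcov, hfin⟩ := EtStrat51.exists_strata j
  refine isConstructible_of_immersions _ T g hc hcov fun i => isConstructible_of_flc ?_
  have : IsFinite (pullback.snd j (g i)) := hfin i
  have : Etale (pullback.snd j (g i)) := MorphismProperty.pullback_snd _ _ inferInstance
  refine flc_of_iso ((pullExtZeroIso j (g i) (pullback.snd j (g i)) (pullback.fst j (g i))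
    (IsPullback.of_hasPullback j (g i)).flip).app F) ?_
  have := isIso_extToPush (pullback.snd j (g i)) ((EtCoh.pull (pullback.fst j (g i))).obj F)
  exact flc_of_iso (asIso ((extToPush (pullback.snd j (g i))).app _)).symm
    (S0106.result _ _ (LocConst45.isFiniteLocallyConstant_pull _ hF))

end Groth.Agent.Cons51
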