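import Groth.Agent.Cons51.LimConst
import Groth.Agent.Cons51.ExtZero
import Groth.Agent.EtCore45.StalkTriv
import Groth.Agent.LocConst45.AbMain
import Groth.Agent.Depth22.Devissage
import Groth.Agent.S0107
import Mathlib.Algebra.Homology.DerivedCategory.Ext.ExactSequences

/-!
`H¹` of finite locally constant sheaves when finite étale coverings have sections.
-/

set_option autoImplicit false
set_option backward.isDefEq.respectTransparency.types false
universe u

open CategoryTheory CategoryTheory.Limits CategoryTheory.Abelian AlgebraicGeometry Opposite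

namespace Groth.Agent.Cons51

/-- Every finite étale surjective morphism to `Z` has a section. -/
def FinEtSections (Z : Scheme.{u}) : Prop :=
  ∀ {V : Scheme.{u}} (φ : V ⟶ Z) [Etale φ] [IsFinite φ] [Surjective φ], ∃ s : Z ⟶ V, s ≫ φ = 𝟙 Z

variable {Z : Scheme.{u}}

theorem mkId_hom (U : Z.Etale) : U.hom ≫ (EtCoh.top Z).hom = U.hom := Category.comp_id _

/-- A section of the constant sheaf lifts along an epimorphism from a finite locally constant sheaf. -/
theorem exists_lift_of_finEtSections (hZ : FinEtSections Z) {E : EtCoh.Ab Z}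
    (hE : EtCoh.IsFiniteLocallyConstant E) (B : AddCommGrpCat.{u + 1})
    (q : E ⟶ EtCore45.cst (X := Z) B) [Epi q] (c : EtCoh.sect (EtCore45.cst (X := Z) B) (EtCoh.top Z)) :
    ∃ e : EtCoh.sect E (EtCoh.top Z), q.hom.app (op (EtCoh.top Z)) e = c := by
  obtain ⟨U, hfin, ⟨e⟩⟩ := S0107.result E hE
  let σ : EtCoh.sect E U := e.inv.app (op U) (show ULift.{u + 1} (U ⟶ U) from ULift.up (𝟙 U))
  let toTop : U ⟶ EtCoh.top Z := MorphismProperty.Over.homMk U.hom (mkId_hom U)
  let d : EtCoh.sect (EtCore45.cst (X := Z) B) U :=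
    q.hom.app (op U) σ - (EtCore45.cst (X := Z) B).obj.map toTop.op c
  let t : LocallyConstant U.left B := (cstIsoLc (X := Z) B).hom.hom.app (op U) d
  let V : U.left.Opens := ⟨{x | t x = 0}, t.isLocallyConstant.isOpen_fiber 0⟩
  have : IsClosedImmersion V.ι := .of_isPreimmersion V.ι (by
    rw [Scheme.Opens.range_ι]
    exact t.isLocallyConstant.isClosed_fiber 0)
  have : Etale U.hom := U.prop
  have hsurj : Surjective (V.ι ≫ U.hom) := ⟨fun z => by
    have hls : Sheaf.IsLocallySurjective q :=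
      (Sheaf.isLocallySurjective_iff_epi' AddCommGrpCat.{u + 1} q).2 inferInstance
    obtain ⟨W, f, w, hf, -, hw⟩ := (EtCore45.mem_et _).1
      (Presheaf.imageSieve_mem Z.smallEtaleTopology q.hom c) z
    obtain ⟨e', he'⟩ := hf
    let g : W ⟶ U := (e.hom.app (op W) e').down
    have hg : E.obj.map g.op σ = e' := by
      have h1 := (NatTrans.naturality_apply e.inv g.op (show ULift.{u + 1} (U ⟶ U) from ULift.up (𝟙 U))).symm
      refine Eq.trans h1 (Eq.trans (congrArg (e.inv.app (op W)) ?_) (e.hom_inv_id_app_apply (op W) e'))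
      exact ULift.ext _ _ (Category.comp_id g)
    have hd : (EtCore45.cst (X := Z) B).obj.map g.op d = 0 := by
      rw [map_sub, ← ConcreteCategory.comp_apply, ← NatTrans.naturality, ConcreteCategory.comp_apply, hg, he',
        ← ConcreteCategory.comp_apply, ← Functor.map_comp, ← op_comp, sub_eq_zero]
      congr 3
      exact congrArg Quiver.Hom.op ((EtCore.topIsTerminal Z).hom_ext _ _)
    have ht : t (g.left w) = 0 := by
      have h1 := NatTrans.naturality_apply (cstIsoLc (X := Z) B).hom.hom g.op d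
      rw [hd, map_zero] at h1
      exact congrArg (fun s : LocallyConstant W.left B => s w) h1.symm
    refine ⟨⟨g.left w, ht⟩, ?_⟩
    show U.hom (g.left w) = z
    rw [← hw, ← Scheme.Hom.comp_apply, MorphismProperty.Over.w g]
    exact congrArg (fun k : W.left ⟶ Z => k w) ((Category.comp_id _).symm.trans (MorphismProperty.Over.w f)).symm⟩
  obtain ⟨s, hs⟩ := hZ (V.ι ≫ U.hom)
  let g : EtCoh.top Z ⟶ U := MorphismProperty.Over.homMk (s ≫ V.ι) ((Category.assoc _ _ _).trans hs)
  refine ⟨E.obj.map g.op σ, ?_⟩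
  have h0 : (EtCore45.cst (X := Z) B).obj.map g.op d = 0 := by
    refine (ConcreteCategory.bijective_of_isIso ((cstIsoLc (X := Z) B).hom.hom.app (op (EtCoh.top Z)))).1 ?_
    rw [map_zero, NatTrans.naturality_apply]
    exact LocallyConstant.ext fun x => (s x).2
  have hc : (EtCore45.cst (X := Z) B).obj.map g.op ((EtCore45.cst (X := Z) B).obj.map toTop.op c) = c := by
    rw [← ConcreteCategory.comp_apply, ← Functor.map_comp, ← op_comp,
      show g ≫ toTop = 𝟙 _ from (EtCore.topIsTerminal Z).hom_ext _ _, op_id, CategoryTheory.Functor.map_id]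
    rfl
  rw [map_sub, hc, sub_eq_zero] at h0
  exact (NatTrans.naturality_apply q.hom g.op σ).trans h0

theorem mk₀_nsmul {A B : EtCoh.Ab Z} (f : A ⟶ B) (n : ℕ) : Ext.mk₀ (n • f) = n • Ext.mk₀ f :=
  map_nsmul (Ext.addEquiv₀ (X := A) (Y := B)).symm n f

theorem nsmul_id_eq_zero {F : EtCoh.Ab Z} {n : ℕ} (hn : EtCoh.KilledBy n F) : n • 𝟙 F = 0 := by
  refine CategoryTheory.Sheaf.hom_ext (NatTrans.ext (funext fun W => ConcreteCategory.hom_ext _ _ fun (s : EtCoh.sect F W.unop) => ?_))
  exact hn W.unop s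

/-- If finite étale coverings have sections, finite locally constant sheaves have no `H¹`. -/
theorem subsingleton_H1_flc (hZ : FinEtSections Z) {F : EtCoh.Ab Z} (hF : EtCoh.IsFiniteLocallyConstant F)
    {n : ℕ} [NeZero n] (hn : EtCoh.KilledBy n F) : Subsingleton (EtCoh.H Z F 1) := by
  refine subsingleton_of_forall_eq 0 fun ξ => ?_
  let K := constantSheaf Z.smallEtaleTopology AddCommGrpCat.{u + 1}
  have hK : K.Additive := (Depth22.const_exact Z).1
  let A : AddCommGrpCat.{u + 1} := AddCommGrpCat.of (ULift.{u + 1} ℤ)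
  let B : AddCommGrpCat.{u + 1} := AddCommGrpCat.of (ULift.{u + 1} (ZMod n))
  let r : A ⟶ B := AddCommGrpCat.ofHom
    (AddEquiv.ulift.symm.toAddMonoidHom.comp ((Int.castAddHom (ZMod n)).comp AddEquiv.ulift.toAddMonoidHom))
  let T : ShortComplex AddCommGrpCat.{u + 1} := ShortComplex.mk (n • 𝟙 A) r (by
    refine ConcreteCategory.hom_ext _ _ fun a => ULift.ext _ _ ?_
    show (((n • a.down : ℤ)) : ZMod n) = 0
    simp)
  have hT : T.ShortExact := by
    refine ShortComplex.ShortExact.mk' ?_ ((AddCommGrpCat.mono_iff_injective _).2 fun a b h => ULift.ext _ _ ?_)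
      ((AddCommGrpCat.epi_iff_surjective _).2 fun b => ?_)
    · refine (ShortComplex.ab_exact_iff _).2 fun (a : ULift.{u + 1} ℤ) ha => ?_
      obtain ⟨k, hk⟩ := (ZMod.intCast_zmod_eq_zero_iff_dvd a.down n).1 (congrArg ULift.down ha)
      refine ⟨ULift.up k, ULift.ext _ _ ?_⟩
      show n • k = a.down
      rw [hk, nsmul_eq_mul]
    · have h' : n • a.down = n • b.down := congrArg ULift.down h
      exact (nsmul_right_injective (NeZero.ne n)) h'
    · exact ⟨ULift.up b.down.cast, ULift.ext _ _ (ZMod.intCast_zmod_cast _)⟩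
  have hKT : (T.map K).ShortExact := (Depth22.const_exact Z).2 T hT
  let fZ := K.map T.f
  have hfZ : fZ = n • 𝟙 (K.obj A) := by
    show K.map (n • 𝟙 A) = _
    rw [Functor.map_nsmul, CategoryTheory.Functor.map_id]
  have hm : Mono fZ := hKT.mono_f
  let S : ShortComplex (EtCoh.Ab Z) := ShortComplex.mk (Injective.ι F) (cokernel.π (Injective.ι F)) (cokernel.condition _)
  have hS : S.ShortExact := ShortComplex.ShortExact.mk' (ShortComplex.exact_cokernel _) inferInstance inferInstance
  have : Mono S.f := hS.mono_f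
  obtain ⟨x, rfl⟩ := Ext.covariant_sequence_exact₁ (K.obj A) hS ξ
    (Subsingleton.elim (h := Ext.subsingleton_of_injective _ (Injective.under F) 0) _ _) (zero_add 1)
  obtain ⟨s, rfl⟩ := (Ext.mk₀_bijective _ _).2 x
  have h0 : (Ext.mk₀ (fZ ≫ s)).comp hS.extClass (zero_add 1) = 0 := by
    rw [hfZ, Preadditive.nsmul_comp, Category.id_comp]
    calc _ = ((Ext.mk₀ s).comp hS.extClass (zero_add 1)).comp (Ext.mk₀ (n • 𝟙 F)) (add_zero 1) := by
          rw [mk₀_nsmul, mk₀_nsmul]
          show ((Ext.bilinearComp _ _ _ 0 1 1 (zero_add 1)).flip hS.extClass) (n • Ext.mk₀ s) =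
            (Ext.bilinearComp _ _ _ 1 0 1 (add_zero 1) ((Ext.mk₀ s).comp hS.extClass (zero_add 1))) (n • Ext.mk₀ (𝟙 F))
          rw [map_nsmul, map_nsmul]
          exact congrArg (n • ·) (Ext.comp_mk₀_id _).symm
      _ = 0 := by rw [nsmul_id_eq_zero hn, Ext.mk₀_zero, Ext.comp_zero]
  obtain ⟨y, hy⟩ := Ext.covariant_sequence_exact₃ (K.obj A) hS _ (zero_add 1) h0
  obtain ⟨l, rfl⟩ := (Ext.mk₀_bijective _ _).2 y
  rw [Ext.mk₀_comp_mk₀] at hy
  have hl : l ≫ S.g = fZ ≫ s := (Ext.mk₀_bijective _ _).1 hy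
  let l' : K.obj A ⟶ S.X₂ := Injective.factorThru l fZ
  have hl' : fZ ≫ (s - l' ≫ S.g) = 0 := by
    rw [Preadditive.comp_sub, Injective.comp_factorThru_assoc, hl, sub_self]
  have : Epi (T.map K).g := hKT.epi_g
  let s' : EtCore45.cst (X := Z) B ⟶ S.X₃ := hKT.exact.desc (s - l' ≫ S.g) hl'
  let q : pullback S.g s' ⟶ EtCore45.cst (X := Z) B := pullback.snd S.g s'
  let j : F ⟶ pullback S.g s' := pullback.lift S.f 0 (by rw [S.zero, zero_comp])
  let E : ShortComplex (EtCoh.Ab Z) := ShortComplex.mk j q (pullback.lift_snd _ _ _)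
  have : Epi S.g := hS.epi_g
  have hE : E.ShortExact := by
    have hmj : Mono E.f := (mono_of_mono_fac (pullback.lift_fst _ _ _) : Mono j)
    have : Epi E.g := (inferInstance : Epi (pullback.snd S.g s'))
    refine ShortComplex.ShortExact.mk' ?_ hmj this
    refine ShortComplex.exact_of_f_is_kernel _ (KernelFork.IsLimit.ofι' _ _ fun {W} k hk => ?_)
    have hk' : (k ≫ pullback.fst S.g s') ≫ S.g = 0 := by
      rw [Category.assoc, pullback.condition, ← Category.assoc, show k ≫ pullback.snd S.g s' = 0 from hk, zero_comp]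
    refine ⟨hS.exact.lift _ hk', pullback.hom_ext ?_ ?_⟩
    · rw [Category.assoc]
      show hS.exact.lift _ hk' ≫ j ≫ pullback.fst S.g s' = _
      rw [pullback.lift_fst, hS.exact.lift_f]
    · rw [Category.assoc]
      show hS.exact.lift _ hk' ≫ j ≫ pullback.snd S.g s' = _
      rw [pullback.lift_snd, comp_zero]
      exact hk.symm
  have : Epi q := hE.epi_g
  have hflc : EtCoh.IsFiniteLocallyConstant (pullback S.g s') :=
    (LocConst45.finiteLocallyConstant_iff _).2 (LocConst45.locTrivFin_extension hE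
      ((LocConst45.finiteLocallyConstant_iff _).1 hF) (EtCore45.locTrivFin_const B))
  let adj := constantSheafAdj Z.smallEtaleTopology AddCommGrpCat.{u + 1} (EtCore.topIsTerminal Z)
  let π : K.obj A ⟶ EtCore45.cst (X := Z) B := K.map r
  let p := adj.homEquiv _ _ π
  obtain ⟨e, he⟩ := exists_lift_of_finEtSections hZ hflc B q (p (ULift.up 1))
  let a : A ⟶ (pullback S.g s').obj.obj (op (EtCoh.top Z)) :=
    AddCommGrpCat.ofHom ((zmultiplesHom _ e).comp AddEquiv.ulift.toAddMonoidHom)
  let h : K.obj A ⟶ pullback S.g s' := (adj.homEquiv _ _).symm a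
  have hh : h ≫ q = π := (adj.homEquiv _ _).injective (by
    rw [adj.homEquiv_naturality_right, Equiv.apply_symm_apply]
    refine ConcreteCategory.hom_ext _ _ fun (x : ULift.{u + 1} ℤ) => ?_
    obtain ⟨m⟩ := x
    show q.hom.app (op (EtCoh.top Z)) (m • e) = p (ULift.up m)
    rw [map_zsmul, he, ← map_zsmul]
    congr 1
    exact ULift.ext _ _ (mul_one m))
  have hs : s = (h ≫ pullback.fst S.g s' + l') ≫ S.g := by
    rw [Preadditive.add_comp, Category.assoc, pullback.condition, ← Category.assoc, hh,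
      show π ≫ s' = _ from hKT.exact.g_desc _ _, sub_add_cancel]
  rw [hs, ← Ext.mk₀_comp_mk₀, Ext.comp_assoc_of_second_deg_zero, hS.comp_extClass, Ext.comp_zero]

end Groth.Agent.Cons51
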