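import Groth.Agent.Cons51.Descent
import Groth.Agent.EtStrat51.Decomp
import Groth.Agent.Unr55.Et.ClosedPush
import Groth.Agent.EtCore45.FiniteBC
import Mathlib.AlgebraicGeometry.Morphisms.FinitePresentation

/-!
Direct images of constructible sheaves along finite morphisms of finite presentation.
-/

set_option autoImplicit false
set_option backward.isDefEq.respectTransparency.types false
universe u

open CategoryTheory CategoryTheory.Limits AlgebraicGeometry Topology Opposite TensorProduct
open Groth.Agent.Unr55.EtSh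

namespace Groth.Agent.Cons51

/-- The unit of a surjective closed immersion is an isomorphism. -/
theorem isIso_unit_surjective_closed {Z P : Scheme.{u}} (i : Z ⟶ P) [IsClosedImmersion i] [Surjective i]
    (G : EtCoh.Ab P) : IsIso ((EtCoh.pullPushAdj i).unit.app G) := by
  refine isIso_of_stalks _ fun K _ _ η => ?_
  obtain ⟨ξ, rfl⟩ := exists_point_lift i η (i.surjective (η default))
  exact unit_stalk_bijective i ξ G (pushStalkMap_bijective_closed i ξ _)

theorem isConstructible_push_finite_affine {X Y : Scheme.{u}} [IsAffine Y] (f : X ⟶ Y) [IsFinite f]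
    [LocallyOfFinitePresentation f] {F : EtCoh.Ab X} (hF : EtPBC.IsConstructible F) :
    EtPBC.IsConstructible ((EtCoh.push f).obj F) := by
  have : IsAffine X := isAffine_of_isAffineHom f
  let A := Γ(Y, ⊤)
  let B := Γ(X, ⊤)
  let φ : A ⟶ B := f.appTop
  letI : Algebra A B := φ.hom.toAlgebra
  haveI : Module.Finite A B := f.finite_appTop
  haveI : Algebra.FinitePresentation A B :=
    (HasRingHomProperty.iff_of_isAffine (P := @LocallyOfFinitePresentation) (f := f)).1 inferInstance
  obtain ⟨R, _, _, Z, _, _, Ψ, hR, hZ1, hZ2, hΨs, hΨk⟩ := EtStrat51.exists_decomposition (A := A) (B := B)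
  let a : Spec (CommRingCat.of R) ⟶ Spec A := Spec.map (CommRingCat.ofHom (algebraMap A R))
  let b : Spec B ⟶ Spec A := Spec.map (CommRingCat.ofHom (algebraMap A B))
  let p₁ : Spec (CommRingCat.of (R ⊗[A] B)) ⟶ Spec (CommRingCat.of R) :=
    Spec.map (CommRingCat.ofHom Algebra.TensorProduct.includeLeftRingHom)
  let p₂ : Spec (CommRingCat.of (R ⊗[A] B)) ⟶ Spec B :=
    Spec.map (CommRingCat.ofHom (R := B) (S := R ⊗[A] B) Algebra.TensorProduct.includeRight.toRingHom)
  have h0 : IsPullback p₁ p₂ a b := by
    refine IsPullback.of_iso_pullback ⟨?_⟩ (pullbackSpecIso A R B).symm (pullbackSpecIso_inv_fst A R B)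
      (pullbackSpecIso_inv_snd A R B)
    show p₁ ≫ a = p₂ ≫ b
    rw [← pullbackSpecIso_inv_fst A R B |>.trans (rfl : _ = p₁),
      ← pullbackSpecIso_inv_snd A R B |>.trans (rfl : _ = p₂), Category.assoc, Category.assoc, pullback.condition]
  have h1 : IsPullback X.isoSpec.inv b f Y.isoSpec.inv :=
    IsPullback.of_horiz_isIso ⟨(Scheme.isoSpec_inv_naturality f).symm⟩
  have h := h0.flip.paste_horiz h1
  have : IsFinite p₁ := MorphismProperty.of_isPullback h (inferInstance : IsFinite f)
  have : Surjective (a ≫ Y.isoSpec.inv) := by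
    have : Surjective a := ⟨hR⟩
    infer_instance
  have hbc := EtCore45.isIso_baseChange0_finite f (a ≫ Y.isoSpec.inv) p₁ (p₂ ≫ X.isoSpec.inv) h F
  refine isConstructible_of_pull_affine (a ≫ Y.isoSpec.inv)
    (isConstructible_of_iso (asIso (EtCoh.baseChange0 f (a ≫ Y.isoSpec.inv) p₁ (p₂ ≫ X.isoSpec.inv) h.w F)).symm ?_)
  let i : Spec (CommRingCat.of Z) ⟶ Spec (CommRingCat.of (R ⊗[A] B)) := Spec.map (CommRingCat.ofHom Ψ.toRingHom)
  have : IsClosedImmersion i := IsClosedImmersion.spec_of_surjective _ hΨs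
  have : Surjective i := ⟨fun Q => by
    have hQ : Q ∈ Set.range (PrimeSpectrum.comap Ψ.toRingHom) := by
      rw [range_comap_of_surjective _ _ hΨs]
      exact hΨk Q.asIdeal Q.isPrime
    exact hQ⟩
  have he : i ≫ p₁ = Spec.map (CommRingCat.ofHom (algebraMap R Z)) := by
    rw [← Spec.map_comp]
    congr 1
    ext r
    exact Ψ.commutes r
  have : IsFinite (i ≫ p₁) := by rw [he, IsFinite.SpecMap_iff]; exact RingHom.finite_algebraMap.2 hZ1
  have : Etale (i ≫ p₁) := by
    rw [he, HasRingHomProperty.Spec_iff (P := @Etale)]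
    exact RingHom.etale_algebraMap.2 hZ2
  have := isIso_unit_surjective_closed i ((EtCoh.pull (p₂ ≫ X.isoSpec.inv)).obj F)
  exact isConstructible_of_iso ((EtCoh.push p₁).mapIso
      (asIso ((EtCoh.pullPushAdj i).unit.app ((EtCoh.pull (p₂ ≫ X.isoSpec.inv)).obj F))) ≪≫
        (EtCoh.pushComp p₁ i).app _).symm
    (isConstructible_push_fet (i ≫ p₁) (isConstructible_pull _ (isConstructible_pull _ hF)))

/-- Direct image along a finite morphism of finite presentation preserves constructibility. -/
theorem isConstructible_push_finite {X Y : Scheme.{u}} (f : X ⟶ Y) [IsFinite f] [LocallyOfFinitePresentation f]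
    {F : EtCoh.Ab X} (hF : EtPBC.IsConstructible F) : EtPBC.IsConstructible ((EtCoh.push f).obj F) := by
  refine isConstructible_of_open_cover _ (fun V : Y.affineOpens => V.1) (iSup_affineOpens_eq_top Y) fun V => ?_
  have : IsAffine V.1.toScheme := V.2
  have : IsFinite (f ∣_ V.1) := MorphismProperty.of_isPullback (isPullback_morphismRestrict f V.1).flip inferInstance
  have h := (isPullback_morphismRestrict f V.1).flip
  have := EtCore45.isIso_baseChange0_finite f V.1.ι (f ∣_ V.1) (f ⁻¹ᵁ V.1).ι h F
  exact isConstructible_of_iso (asIso (EtCoh.baseChange0 f V.1.ι (f ∣_ V.1) (f ⁻¹ᵁ V.1).ι h.w F)).symm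
    (isConstructible_push_finite_affine _ (isConstructible_pull _ hF))

end Groth.Agent.Cons51
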