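import Groth.Agent.Cons51.Compact
import Groth.Agent.EtCore45.Stalks
import Mathlib.CategoryTheory.InducedCategory

/-!
Torsion sheaves as filtered colimits of constructible sheaves.
-/

set_option autoImplicit false
set_option backward.isDefEq.respectTransparency.types false
universe u

open CategoryTheory CategoryTheory.Limits AlgebraicGeometry Topology Opposite
open Groth.Agent.Unr55.EtSh
open scoped ZeroObject

namespace Groth.Agent.Cons51

variable {X : Scheme.{u}}

/-- Data presenting a constructible sheaf. -/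
structure Datum (X : Scheme.{u}) : Type (u + 1) where
  /-- The order. -/
  n : ℕ
  /-- Number of relations. -/
  a : ℕ
  /-- Number of generators. -/
  b : ℕ
  /-- Relations. -/
  V : Fin a → X.Etale
  /-- Generators. -/
  U : Fin b → X.Etale
  /-- The presentation. -/
  φ : (⨁ fun j => EtPBC.extZeroConst (V j) (ZMod n)) ⟶ ⨁ fun i => EtPBC.extZeroConst (U i) (ZMod n)

/-- The presented sheaf. -/
noncomputable def Datum.sheaf (d : Datum X) : EtCoh.Ab X := cokernel d.φ

theorem exists_datum [CompactSpace X] [QuasiSeparatedSpace X] {G : EtCoh.Ab X} (hG : EtPBC.IsConstructible G) :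
    ∃ d : Datum X, Nonempty (G ≅ d.sheaf) := by
  obtain ⟨n, hn, hGn⟩ := exists_killedBy hG
  obtain ⟨a, b, V, U, -, -, φ, he⟩ := exists_presentation hn hG hGn
  exact ⟨⟨n, a, b, V, U, φ⟩, he⟩

variable (F : EtCoh.Ab X) (P : EtCoh.Ab X → Prop)

/-- Index: presented sheaves with property `P` over `F`. -/
structure Idx : Type (u + 1) where
  /-- The presentation. -/
  d : Datum X
  /-- The map. -/
  t : d.sheaf ⟶ F
  mem : P d.sheaf

/-- An index as an object over `F`. -/
noncomputable def Idx.toOver (o : Idx F P) : Over F := Over.mk o.t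

/-- The index category. -/
abbrev IdxCat := InducedCategory (Over F) (Idx.toOver F P)

/-- The diagram. -/
noncomputable def diag : IdxCat F P ⥤ EtCoh.Ab X := inducedFunctor (Idx.toOver F P) ⋙ Over.forget F

/-- The map to `F`. -/
noncomputable def lam {F : EtCoh.Ab X} {P : EtCoh.Ab X → Prop} (o : IdxCat F P) : (diag F P).obj o ⟶ F := o.t

theorem lam_w {F : EtCoh.Ab X} {P : EtCoh.Ab X → Prop} {o o' : IdxCat F P} (f : o ⟶ o') :
    (diag F P).map f ≫ lam o' = lam o :=
  Over.w ((inducedFunctor (Idx.toOver F P)).map f)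

/-- The tautological cocone. -/
noncomputable def diagCocone : Cocone (diag F P) where
  pt := F
  ι :=
    { app := fun o => lam o
      naturality := fun o o' f => (lam_w f).trans (Category.comp_id _).symm }

/-- Conditions on `P` ensuring that `F` is the filtered colimit. -/
structure Generating : Prop where
  cons : ∀ G, P G → EtPBC.IsConstructible G
  iso : ∀ G H, Nonempty (G ≅ H) → P G → P H
  zero : P 0
  sum : ∀ A B, P A → P B → P (A ⊞ B)
  quot : ∀ (A B : EtCoh.Ab X) (φ : A ⟶ B), EtPBC.IsConstructible A → P B → P (cokernel φ)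
  germ : ∀ (K : Type u) [Field K] [IsSepClosed K] (η : Spec (CommRingCat.of K) ⟶ X)
    (a : ((EtCoh.stalk η).obj F : AddCommGrpCat.{u + 1})),
    ∃ (G : EtCoh.Ab X) (_ : P G) (t : G ⟶ F), ∃ b, (EtCoh.stalk η).map t b = a

variable {F P}

theorem exists_obj [CompactSpace X] [QuasiSeparatedSpace X] (h : Generating F P) {G : EtCoh.Ab X} (hG : P G)
    (t : G ⟶ F) : ∃ (o : IdxCat F P) (e : G ≅ (diag F P).obj o), e.hom ≫ lam o = t := by
  obtain ⟨d, ⟨e⟩⟩ := exists_datum (h.cons G hG)
  exact ⟨⟨d, e.inv ≫ t, h.iso _ _ ⟨e⟩ hG⟩, e, e.hom_inv_id_assoc t⟩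

theorem mem_obj (o : IdxCat F P) : P ((diag F P).obj o) := o.mem

/-- Morphisms of the index category from maps over `F`. -/
noncomputable def mkHom {o o' : IdxCat F P} (q : (diag F P).obj o ⟶ (diag F P).obj o')
    (w : q ≫ lam o' = lam o) : o ⟶ o' :=
  InducedCategory.homMk (Over.homMk q w)

theorem map_mkHom {o o' : IdxCat F P} (q : (diag F P).obj o ⟶ (diag F P).obj o')
    (w : q ≫ lam o' = lam o) : (diag F P).map (mkHom q w) = q := rfl

theorem isFiltered_idx [CompactSpace X] [QuasiSeparatedSpace X] (h : Generating F P) : IsFiltered (IdxCat F P) := by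
  have hne : Nonempty (IdxCat F P) := ⟨(exists_obj h h.zero 0).choose⟩
  refine { cocone_objs := fun o o' => ?_, cocone_maps := fun o o' f f' => ?_ }
  · obtain ⟨m, e, he⟩ := exists_obj h (h.sum _ _ (mem_obj o) (mem_obj o'))
      (biprod.desc (lam o) (lam o'))
    exact ⟨m, mkHom (biprod.inl ≫ e.hom) (by rw [Category.assoc, he, biprod.inl_desc]),
      mkHom (biprod.inr ≫ e.hom) (by rw [Category.assoc, he, biprod.inr_desc]), trivial⟩
  · let D := (diag F P).map f - (diag F P).map f'
    have hD : D ≫ lam o' = 0 := by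
      rw [Preadditive.sub_comp, lam_w, lam_w, sub_self]
    obtain ⟨m, e, he⟩ := exists_obj h (h.quot _ _ D (h.cons _ (mem_obj o)) (mem_obj o'))
      (cokernel.desc D _ hD)
    refine ⟨m, mkHom (cokernel.π D ≫ e.hom) (by rw [Category.assoc, he, cokernel.π_desc]),
      InducedCategory.hom_ext (Over.OverMorphism.ext ?_)⟩
    show (diag F P).map f ≫ cokernel.π D ≫ e.hom = (diag F P).map f' ≫ cokernel.π D ≫ e.hom
    rw [← sub_eq_zero, ← Preadditive.sub_comp, ← Category.assoc]
    show (D ≫ cokernel.π D) ≫ e.hom = 0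
    rw [cokernel.condition, zero_comp]

/-- `F` is the colimit of the generating system. -/
theorem exists_isColimit [CompactSpace X] [QuasiSeparatedSpace X] (h : Generating F P) :
    ∃ (J : Type (u + 1)) (_ : SmallCategory J) (_ : IsFiltered J) (D : J ⥤ EtCoh.Ab X)
      (c : Cocone D) (_ : IsColimit c), Nonempty (c.pt ≅ F) ∧ ∀ j, P (D.obj j) := by
  have := isFiltered_idx h
  let c := colimit.cocone (diag F P)
  let q : c.pt ⟶ F := colimit.desc (diag F P) (diagCocone F P)
  have hq : ∀ o, colimit.ι (diag F P) o ≫ q = lam o := fun o => colimit.ι_desc _ _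
  suffices IsIso q by
    exact ⟨IdxCat F P, inferInstance, inferInstance, diag F P, c, colimit.isColimit _, ⟨asIso q⟩, mem_obj⟩
  refine isIso_of_stalks q fun K _ _ η => ⟨?_, fun a => ?_⟩
  · refine (injective_iff_map_eq_zero ((EtCoh.stalk η).map q).hom).2 fun z hz => ?_
    have : PreservesColimitsOfSize.{u + 1, u + 1} (EtCoh.stalk η) :=
      (Scheme.pointSmallEtale η).skyscraperSheafAdjunction.leftAdjoint_preservesColimits
    obtain ⟨o, w, rfl⟩ := Concrete.isColimit_exists_rep _
      (isColimitOfPreserves (EtCoh.stalk η) (colimit.isColimit (diag F P))) z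
    have hw : (EtCoh.stalk η).map (lam o) w = 0 := by
      rw [← hq o, Functor.map_comp, ConcreteCategory.comp_apply]
      exact hz
    obtain ⟨U, p, σ, rfl⟩ := exists_germ_eq η ((diag F P).obj o) w
    rw [stalk_map_germ] at hw
    obtain ⟨V, g, p', hp', hV⟩ := (germ_eq_zero_iff η F p _).1 hw
    obtain ⟨B, hB, htB, -⟩ :=
      exists_isAffineOpen_mem_and_subset (X := V.left) (x := hom η p' default) (U := ⊤) trivial
    let W := openSub V B
    let τ : EtCoh.sect ((diag F P).obj o) W :=
      ((diag F P).obj o).obj.map (openSubι V B).op (((diag F P).obj o).obj.map g.op σ)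
    obtain ⟨N, hN, hoN⟩ := exists_killedBy (h.cons _ (mem_obj o))
    have : NeZero N := ⟨hN.ne'⟩
    have : IsAffine W.left := hB
    obtain ⟨γ, -, hu⟩ := exists_universal W N
    obtain ⟨f, hf⟩ := (hu _).1 τ (hoN W τ)
    have hf0 : f ≫ lam o = 0 := by
      refine (hu F).2 ?_
      show (lam o).hom.app (op W) (f.hom.app (op W) γ) = (0 : EtCoh.sect F W)
      rw [hf]
      refine (NatTrans.naturality_apply (lam o).hom (openSubι V B).op _).trans ?_
      refine (congrArg (F.obj.map (openSubι V B).op)
        ((NatTrans.naturality_apply (lam o).hom g.op σ).trans hV)).trans ?_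
      exact map_zero _
    obtain ⟨m, e, he⟩ := exists_obj h (h.quot _ _ f (isConstructible_genObj W N) (mem_obj o))
      (cokernel.desc f _ hf0)
    let r : o ⟶ m := mkHom (cokernel.π f ≫ e.hom) (by rw [Category.assoc, he, cokernel.π_desc])
    show (EtCoh.stalk η).map (colimit.ι (diag F P) o) (germ η _ p σ) = 0
    have h1 : germ η _ p σ = germ η ((diag F P).obj o) (ptOpen B p' htB) τ := by
      refine Eq.symm ((germ_map η _ (openSubι V B) (ptOpen B p' htB) _).trans ?_)
      rw [map_ptOpen, germ_map, hp']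
    have hτ : (cokernel.π f ≫ e.hom).hom.app (op W) τ = 0 := by
      rw [← hf]
      show (f ≫ cokernel.π f ≫ e.hom).hom.app (op W) γ = 0
      rw [cokernel.condition_assoc, zero_comp]
      rfl
    rw [h1, ← colimit.w (diag F P) r, map_mkHom, Functor.map_comp, ConcreteCategory.comp_apply, stalk_map_germ, hτ, map_zero,
      map_zero]
  · obtain ⟨G, hG, t, b, rfl⟩ := h.germ K η a
    obtain ⟨o, e, he⟩ := exists_obj h hG t
    refine ⟨(EtCoh.stalk η).map (colimit.ι (diag F P) o) ((EtCoh.stalk η).map e.hom b), ?_⟩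
    rw [← ConcreteCategory.comp_apply, ← ConcreteCategory.comp_apply, ← Functor.map_comp, ← Functor.map_comp,
      hq, he]

/-- Torsion sheaves are filtered colimits of constructible sheaves. -/
theorem generating_of_isTorsion [CompactSpace X] [QuasiSeparatedSpace X] (hF : EtCoh.IsTorsion F) :
    Generating F EtPBC.IsConstructible where
  cons _ h := h
  iso _ _ h := isConstructible_of_iso h.some
  zero := isConstructible_zero
  sum _ _ := isConstructible_biprod
  quot _ _ φ hA hB := (isConstructible_kernel_cokernel φ hA hB).2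
  germ K _ _ η a := by
    obtain ⟨U, p, σ, rfl⟩ := exists_germ_eq η F a
    obtain ⟨V, g, ⟨v, hv⟩, hfin⟩ := hF U σ (hom η p default)
    obtain ⟨t, ht⟩ := LocConst45.exists_pt_over g p v hv
    obtain ⟨B, hB, htB, -⟩ :=
      exists_isAffineOpen_mem_and_subset (X := V.left) (x := hom η t default) (U := ⊤) trivial
    obtain ⟨n, hn, hnτ⟩ := (isOfFinAddOrder_iff_nsmul_eq_zero).1
      ((F.obj.map (openSubι V B).op).hom.isOfFinAddOrder hfin)
    have : NeZero n := ⟨hn.ne'⟩
    have : IsAffine (openSub V B).left := hB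
    obtain ⟨f, e, hfe⟩ := exists_genSect (openSub V B) n _ hnτ
    refine ⟨_, isConstructible_genObj (openSub V B) n, f, germ η _ (ptOpen B t htB) e, ?_⟩
    rw [stalk_map_germ]
    refine (congrArg (germ η F (ptOpen B t htB)) hfe).trans ?_
    refine (germ_map η F (openSubι V B) (ptOpen B t htB) _).trans ?_
    rw [map_ptOpen, germ_map, ht]

end Groth.Agent.Cons51
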