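import Groth.Agent.Cons51.Basic
import Groth.Agent.SchBasics.Reduced
import Mathlib.AlgebraicGeometry.Morphisms.ClosedImmersion

/-!
Reduced subschemes on locally closed subsets; independence of the scheme structure on strata.
-/

set_option autoImplicit false
set_option backward.isDefEq.respectTransparency.types false
universe u

open CategoryTheory CategoryTheory.Limits AlgebraicGeometry Topology

namespace Groth.Agent.Cons51

variable {X : Scheme.{u}}

/-- A morphism from a reduced scheme into the range of an immersion factors through it. -/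
theorem exists_lift {T S : Scheme.{u}} (f : S ⟶ X) [IsReduced S] (g : T ⟶ X) [IsImmersion g]
    (h : Set.range f ⊆ Set.range g) : ∃ l : S ⟶ T, l ≫ g = f := by
  have : IsImmersion (pullback.fst f g) := MorphismProperty.pullback_fst f g ‹_›
  have hr : Set.range (pullback.fst f g) = Set.univ := by
    rw [Scheme.Pullback.range_fst]
    exact Set.eq_univ_of_forall fun s => h ⟨s, rfl⟩
  have : Surjective (pullback.fst f g) := ⟨Set.range_eq_univ.1 hr⟩
  have : IsClosedImmersion (pullback.fst f g) :=
    .of_isPreimmersion _ (by rw [hr]; exact isClosed_univ)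
  have := isIso_of_isClosedImmersion_of_surjective (pullback.fst f g)
  refine ⟨inv (pullback.fst f g) ≫ pullback.snd f g, ?_⟩
  rw [Category.assoc, ← pullback.condition, IsIso.inv_hom_id_assoc]

/-- A locally closed subset carries a reduced subscheme. -/
theorem exists_reduced_immersion {Z : Set X} (hZ : IsLocallyClosed Z) :
    ∃ (T : Scheme.{u}) (g : T ⟶ X), IsImmersion g ∧ IsReduced T ∧ Set.range g = Z := by
  obtain ⟨O, C, hO, hC, rfl⟩ := hZ
  let O' : X.Opens := ⟨O, hO⟩
  let C' : TopologicalSpace.Closeds O'.toScheme := ⟨O'.ι ⁻¹' C, hC.preimage O'.ι.continuous⟩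
  let I := Scheme.IdealSheafData.vanishingIdeal C'
  refine ⟨I.subscheme, I.subschemeι ≫ O'.ι, inferInstance,
    SchBasics.isReduced_vanishingIdeal_subscheme C', ?_⟩
  rw [Scheme.Hom.comp_base, TopCat.coe_comp, Set.range_comp,
    Scheme.IdealSheafData.range_subschemeι, Scheme.IdealSheafData.coe_support_vanishingIdeal]
  show O'.ι '' (O'.ι ⁻¹' C) = O ∩ C
  rw [Set.image_preimage_eq_inter_range, Scheme.Opens.range_ι, Set.inter_comm]
  rfl

/-- Being finite locally constant along a set can be tested on any reduced subscheme of it. -/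
theorem FlcOn.pull_of_range_subset {F : EtCoh.Ab X} {E : Set X} (h : FlcOn F E) {S : Scheme.{u}}
    (f : S ⟶ X) [IsReduced S] (hf : Set.range f ⊆ E) :
    EtCoh.IsFiniteLocallyConstant ((EtCoh.pull f).obj F) := by
  obtain ⟨T, g, hg, rfl, hF⟩ := h
  obtain ⟨l, rfl⟩ := exists_lift f g hf
  exact flc_of_iso ((EtCore.pullComp l g).app F).symm (LocConst45.isFiniteLocallyConstant_pull l hF)

/-- Common refinement of two families of strata. -/
theorem StrataCover.inter {F G : EtCoh.Ab X} {S : Set X} (hF : StrataCover F S) (hG : StrataCover G S) :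
    ∃ (ι : Type) (_ : Finite ι) (E : ι → Set X), (∀ i, E i ⊆ S) ∧
      (∀ i, Topology.IsConstructible ((Subtype.val : S → X) ⁻¹' E i)) ∧ (S ⊆ ⋃ i, E i) ∧
      ∀ i, ∃ (T : Scheme.{u}) (g : T ⟶ X), IsImmersion g ∧ Set.range g = E i ∧
        EtCoh.IsFiniteLocallyConstant ((EtCoh.pull g).obj F) ∧
        EtCoh.IsFiniteLocallyConstant ((EtCoh.pull g).obj G) := by
  obtain ⟨ι, hι, E, hES, hEc, hcov, hflc⟩ := hF
  obtain ⟨κ, hκ, E', hES', hEc', hcov', hflc'⟩ := hG
  refine ⟨ι × κ, inferInstance, fun p => E p.1 ∩ E' p.2, fun p => Set.inter_subset_left.trans (hES _),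
    fun p => (hEc _).inter (hEc' _), fun x hx => ?_, fun p => ?_⟩
  · obtain ⟨i, hi⟩ := Set.mem_iUnion.1 (hcov hx)
    obtain ⟨j, hj⟩ := Set.mem_iUnion.1 (hcov' hx)
    exact Set.mem_iUnion.2 ⟨(i, j), hi, hj⟩
  · obtain ⟨T, g, hg, hT, hgr⟩ :=
      exists_reduced_immersion ((hflc p.1).isLocallyClosed.inter (hflc' p.2).isLocallyClosed)
    exact ⟨T, g, hg, hgr, (hflc p.1).pull_of_range_subset g (hgr.le.trans Set.inter_subset_left),
      (hflc' p.2).pull_of_range_subset g (hgr.le.trans Set.inter_subset_right)⟩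

end Groth.Agent.Cons51
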