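import Groth.Agent.Cons51.Rows
import Groth.Agent.Cons51.Reduced
import Groth.Agent.EtCore45.ExtZeroOpen
import Groth.Agent.EtCore45.CompEtale
import Groth.Agent.EtCore45.EtalePull

/-!
Filtrations of constructible sheaves by extensions by zero.
-/

set_option autoImplicit false
set_option backward.isDefEq.respectTransparency.types false
universe u

open CategoryTheory CategoryTheory.Limits AlgebraicGeometry Topology Opposite
open Groth.Agent.Unr55.EtSh Groth.Agent.EtCore45

namespace Groth.Agent.Cons51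

variable {X : Scheme.{u}}

/-- One step of a filtration. -/
def Step {A B : EtCoh.Ab X} (f : A ⟶ B) : Prop :=
  ∃ (U W : Scheme.{u}) (j : U ⟶ X) (_ : IsOpenImmersion j) (c : W ⟶ U)
    (_ : IsClosedImmersion c) (G : EtCoh.Ab W)
    (π : B ⟶ (EtShriek.extZero j).obj ((EtCoh.push c).obj G)) (hz : f ≫ π = 0),
    Topology.IsConstructible (Set.range (c ≫ j)) ∧ EtCoh.IsFiniteLocallyConstant G ∧
      (ShortComplex.mk f π hz).ShortExact

theorem Step.congr {A B A' B' : EtCoh.Ab X} {f : A ⟶ B} {f' : A' ⟶ B'} (h : Step f) (e₁ : A' ≅ A)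
    (e₂ : B' ≅ B) (w : f' ≫ e₂.hom = e₁.hom ≫ f) : Step f' := by
  obtain ⟨U, W, j, hj, c, hc, G, π, hz, h1, h2, h3⟩ := h
  have hz' : f' ≫ e₂.hom ≫ π = 0 := by rw [← Category.assoc, w, Category.assoc, hz, comp_zero]
  refine ⟨U, W, j, hj, c, hc, G, e₂.hom ≫ π, hz', h1, h2, ShortComplex.shortExact_of_iso
    (ShortComplex.isoMk (S₁ := ShortComplex.mk f π hz) (S₂ := ShortComplex.mk f' (e₂.hom ≫ π) hz')
      e₁.symm e₂.symm (Iso.refl _) ?_ ?_) h3⟩
  · show e₁.inv ≫ f' = f ≫ e₂.inv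
    rw [Iso.inv_comp_eq, ← Category.assoc, ← w, Category.assoc, e₂.hom_inv_id, Category.comp_id]
  · show e₂.inv ≫ e₂.hom ≫ π = π ≫ 𝟙 _
    rw [e₂.inv_hom_id_assoc, Category.comp_id]

/-- Having a finite filtration by steps. -/
def Filt (F : EtCoh.Ab X) : Prop :=
  ∃ (n : ℕ) (E : Fin (n + 1) → EtCoh.Ab X) (ι : ∀ k : Fin n, E k.castSucc ⟶ E k.succ),
    IsZero (E 0) ∧ Nonempty (E (Fin.last n) ≅ F) ∧ ∀ k : Fin n, Step (ι k)

theorem filt_of_isZero {F : EtCoh.Ab X} (h : IsZero F) : Filt F :=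
  ⟨0, fun _ => F, fun k => k.elim0, h, ⟨Iso.refl _⟩, fun k => k.elim0⟩

theorem Filt.extend {F F' : EtCoh.Ab X} (h : Filt F) (f : F ⟶ F') (hf : Step f) : Filt F' := by
  obtain ⟨n, E, ι, h0, ⟨e⟩, hs⟩ := h
  let E' : Fin (n + 1 + 1) → EtCoh.Ab X := Fin.snoc E F'
  let a : ∀ k : Fin (n + 1), E' k.castSucc ≅ E k := fun k => eqToIso (Fin.snoc_castSucc _ _ k)
  let b : E' (Fin.last (n + 1)) ≅ F' := eqToIso (Fin.snoc_last _ _)
  let c : ∀ k : Fin n, E' k.castSucc.succ ≅ E k.succ := fun k =>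
    eqToIso (congrArg E' (Fin.succ_castSucc k)) ≪≫ a k.succ
  let d : E' (Fin.last n).succ ≅ F' := eqToIso (congrArg E' (Fin.succ_last n)) ≪≫ b
  refine ⟨n + 1, E', fun k => Fin.lastCases ((a (Fin.last n)).hom ≫ e.hom ≫ f ≫ d.inv)
    (fun k => (a k.castSucc).hom ≫ ι k ≫ (c k).inv) k, h0.of_iso (a 0), ⟨b⟩, fun k => ?_⟩
  refine Fin.lastCases ?_ (fun k => ?_) k
  · simp only [Fin.lastCases_last]
    exact hf.congr (a (Fin.last n) ≪≫ e) d (by simp)
  · simp only [Fin.lastCases_castSucc]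
    exact (hs k).congr (a k.castSucc) (c k) (by simp)

/-- The restriction to an open, extended by zero. -/
noncomputable abbrev openPart (F : EtCoh.Ab X) (O : X.Opens) : EtCoh.Ab X :=
  (EtShriek.extZero O.ι).obj ((EtCoh.pull O.ι).obj F)

theorem isZero_openPart_bot (F : EtCoh.Ab X) : IsZero (openPart F ⊥) := by
  have : Mono (0 : openPart F ⊥ ⟶ openPart F ⊥) := by
    refine mono_of_stalks _ fun K _ _ η => ?_
    have := AddCommGrpCat.subsingleton_of_isZero (isZero_extZero_stalk (j := (⊥ : X.Opens).ι) (ξ := η)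
      ((EtCoh.pull (⊥ : X.Opens).ι).obj F) (isEmpty_above _ η (by simp)))
    exact Function.injective_of_subsingleton _
  exact IsZero.of_mono_eq_zero (0 : openPart F ⊥ ⟶ openPart F ⊥) rfl

theorem nonempty_openPart_top (F : EtCoh.Ab X) : Nonempty (F ≅ openPart F ⊤) :=
  nonempty_iso_extZero _ _ F ⟨((pullRestrIso (⊤ : X.Opens).ι).app F).symm⟩
    fun Ω _ _ ξ h => absurd (by simp) h

/-- The step from an open to a larger one. -/
theorem exists_step_open (F : EtCoh.Ab X) {O O' : X.Opens} (hle : O ≤ O') {E : Set X} (hE : FlcOn F E)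
    (hsub : (O' : Set X) \ O ⊆ E) (hc : Topology.IsConstructible ((O' : Set X) \ O)) :
    ∃ f : openPart F O ⟶ openPart F O', Step f := by
  let j0 : O.toScheme ⟶ O'.toScheme := X.homOfLE hle
  have hj0 : j0 ≫ O'.ι = O.ι := X.homOfLE_ι hle
  have hj0' : ∀ z, O'.ι (j0 z) = O.ι z := fun z => by rw [← Scheme.Hom.comp_apply, hj0]
  let C : TopologicalSpace.Closeds O'.toScheme :=
    ⟨O'.ι ⁻¹' (O : Set X)ᶜ, (O.2.isClosed_compl).preimage O'.ι.continuous⟩
  let I := Scheme.IdealSheafData.vanishingIdeal C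
  let c := I.subschemeι
  have : IsReduced I.subscheme := SchBasics.isReduced_vanishingIdeal_subscheme C
  have hr : Set.range c = O'.ι ⁻¹' (O : Set X)ᶜ := by
    rw [Scheme.IdealSheafData.range_subschemeι, Scheme.IdealSheafData.coe_support_vanishingIdeal]; rfl
  have hU : Set.range j0 = (Set.range c)ᶜ := by
    rw [hr]
    ext y
    simp only [Set.mem_compl_iff, Set.mem_preimage, not_not]
    constructor
    · rintro ⟨z, rfl⟩
      rw [hj0']
      exact O.range_ι.le ⟨z, rfl⟩
    · intro hy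
      obtain ⟨z, hz⟩ := O.range_ι.ge hy
      exact ⟨z, O'.ι.isOpenEmbedding.injective ((hj0' z).trans hz)⟩
  let F' := (EtCoh.pull O'.ι).obj F
  obtain ⟨w, hw⟩ := shortExact_open_closed c j0 hU F'
  let E0 := EtShriek.extZero O'.ι
  have := preservesFiniteLimits_extZero O'.ι
  have : PreservesFiniteColimits E0 :=
    have : PreservesColimitsOfSize.{0, 0} E0 := (EtShriek.extZeroAdj O'.ι).leftAdjoint_preservesColimits
    PreservesColimitsOfSize.preservesFiniteColimits _
  have hadd : E0.Additive :=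
    have := preservesBinaryBiproducts_of_preservesBinaryCoproducts E0
    Functor.additive_of_preservesBinaryBiproducts _
  have hS := hw.map_of_exact E0
  let H := (EtShriek.extZero j0).obj ((EtShriek.restrAlong j0).obj F')
  have := isIso_unit_extZero_of_mono O'.ι H
  have := isIso_unit_extZero_of_mono j0 ((EtShriek.restrAlong j0).obj F')
  have e : (EtShriek.restrAlong O.ι).obj (E0.obj H) ≅ (EtCoh.pull O.ι).obj F :=
    ((pullRestrIso O.ι).app _).symm ≪≫ (EtCore.pullCongr hj0.symm).app _ ≪≫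
      ((EtCore.pullComp j0 O'.ι).app _) ≪≫
      (EtCoh.pull j0).mapIso ((pullRestrIso O'.ι).app (E0.obj H) ≪≫
        (asIso ((EtShriek.extZeroAdj O'.ι).unit.app H)).symm) ≪≫
      (pullRestrIso j0).app H ≪≫
      (asIso ((EtShriek.extZeroAdj j0).unit.app ((EtShriek.restrAlong j0).obj F'))).symm ≪≫
      ((pullRestrIso j0).app F').symm ≪≫ ((EtCore.pullComp j0 O'.ι).app F).symm ≪≫
      (EtCore.pullCongr hj0).app F
  obtain ⟨e0⟩ := nonempty_iso_extZero O.ι ((EtCoh.pull O.ι).obj F) (E0.obj H) ⟨e⟩ fun Ω _ _ ξ hξ => by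
    by_cases h : ξ default ∈ Set.range O'.ι
    · obtain ⟨v, hv⟩ := exists_above O'.ι ξ h
      have h0 := isZero_extZero_stalk (j := j0) (ξ := v) ((EtShriek.restrAlong j0).obj F') (isEmpty_above j0 v (by
        rintro ⟨z, hz⟩
        exact hξ ⟨z, by rw [← hj0', hz, ← Scheme.Hom.comp_apply, hv]⟩))
      have := AddCommGrpCat.subsingleton_of_isZero h0
      have := (extZeroStalkMap_bijective_of_mono hv H).surjective.subsingleton
      exact AddCommGrpCat.isZero_of_subsingleton _
    · exact isZero_extZero_stalk _ (isEmpty_above _ ξ h)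
  refine ⟨e0.inv ≫ E0.map ((EtShriek.extZeroAdj j0).counit.app F'), Step.congr ?_ e0.symm (Iso.refl _)
    (Category.comp_id _)⟩
  refine ⟨O'.toScheme, I.subscheme, O'.ι, inferInstance, c, inferInstance, (EtCoh.pull c).obj F', _,
    (ShortComplex.mk _ _ w).map E0 |>.zero, ?_, ?_, hS⟩
  · rw [Scheme.Hom.comp_base, TopCat.coe_comp, Set.range_comp, hr, Set.image_preimage_eq_inter_range,
      Scheme.Opens.range_ι, Set.inter_comm]
    exact hc
  · refine flc_of_iso ((EtCore.pullComp c O'.ι).app F) (hE.pull_of_range_subset (c ≫ O'.ι) ?_)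
    rw [Scheme.Hom.comp_base, TopCat.coe_comp, Set.range_comp, hr, Set.image_preimage_eq_inter_range,
      Scheme.Opens.range_ι, Set.inter_comm]
    exact hsub

theorem exists_opens_determining [CompactSpace X] [QuasiSeparatedSpace X] {E : Set X}
    (hE : Topology.IsConstructible E) :
    ∃ A : Finset (Set X), (∀ a ∈ A, IsOpen a ∧ IsCompact a) ∧
      ∀ x y : X, (∀ a ∈ A, (x ∈ a ↔ y ∈ a)) → (x ∈ E ↔ y ∈ E) := by
  classical
  induction hE using Topology.IsConstructible.empty_union_induction with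
  | open_retrocompact U ho hc =>
    refine ⟨{U}, fun a ha => ?_, fun x y h => h U (Finset.mem_singleton_self U)⟩
    rw [Finset.mem_singleton.1 ha]
    exact ⟨ho, hc.isCompact⟩
  | union s hs t ht h1 h2 =>
    obtain ⟨A, hA, hA'⟩ := h1
    obtain ⟨B, hB, hB'⟩ := h2
    exact ⟨A ∪ B, fun a ha => (Finset.mem_union.1 ha).elim (hA a) (hB a), fun x y h => or_congr
      (hA' x y fun a ha => h a (Finset.mem_union_left _ ha))
      (hB' x y fun a ha => h a (Finset.mem_union_right _ ha))⟩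
  | compl s hs h1 =>
    obtain ⟨A, hA, hA'⟩ := h1
    exact ⟨A, hA, fun x y h => not_congr (hA' x y h)⟩

/-- Constructible sheaves have finite filtrations by extensions by zero. -/
theorem filt_of_isConstructible [CompactSpace X] [QuasiSeparatedSpace X] {F : EtCoh.Ab X}
    (hF : EtPBC.IsConstructible F) : Filt F := by
  classical
  obtain ⟨κ, hκ, E, -, hEc, hcov, hflc⟩ := strataCover_of_adapted ((isConstructible_iff_adapted_univ F).1 hF)
  choose A hA hA' using fun k => exists_opens_determining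
    ((isConstructible_preimage_iff_of_isOpenEmbedding isOpen_univ.isOpenEmbedding_subtypeVal
      (by simp) (by simp)).1 (hEc k))
  have := Fintype.ofFinite κ
  let B := Finset.univ.biUnion A
  have hB : ∀ a ∈ B, IsOpen a ∧ IsCompact a := fun a ha => by
    obtain ⟨k, -, hk⟩ := Finset.mem_biUnion.1 ha; exact hA k a hk
  let P : Finset (Set X) → Set X := fun S => ⋂ a ∈ S, a
  let pat : X → Finset (Set X) := fun x => B.filter (x ∈ ·)
  have hmemP : ∀ S, S ⊆ B → ∀ x, x ∈ P S ↔ S ⊆ pat x := fun S hS x => by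
    simp only [P, pat, Set.mem_iInter₂]
    exact ⟨fun h a ha => Finset.mem_filter.2 ⟨hS ha, h a ha⟩, fun h a ha => (Finset.mem_filter.1 (h ha)).2⟩
  have hPo : ∀ S, S ⊆ B → IsOpen (P S) ∧ IsCompact (P S) := by
    intro S
    induction S using Finset.induction with
    | empty => intro _; simp [P, isCompact_univ]
    | insert a S _ ih =>
      intro hS
      have ha := hB a (hS (Finset.mem_insert_self a S))
      have h2 := ih fun b hb => hS (Finset.mem_insert_of_mem hb)
      simp only [P, Finset.set_biInter_insert]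
      exact ⟨ha.1.inter h2.1, QuasiSeparatedSpace.inter_isCompact _ _ ha.1 ha.2 h2.1 h2.2⟩
  have key : ∀ T : Finset (Finset (Set X)), T ⊆ B.powerset → (∀ S ∈ T, ∀ S' ∈ B.powerset, S ⊆ S' → S' ∈ T) →
      ∀ O : X.Opens, (O : Set X) = {x | pat x ∈ T} → Filt (openPart F O) := by
    intro T
    induction T using Finset.strongInduction with
    | H T ih =>
    intro hTB hup O hO
    rcases T.eq_empty_or_nonempty with rfl | hne
    · obtain rfl : O = ⊥ := SetLike.coe_injective (by rw [hO]; simp)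
      exact filt_of_isZero (isZero_openPart_bot F)
    obtain ⟨S, hS, hmin⟩ := T.exists_minimal hne
    have hup' : ∀ S₁ ∈ T.erase S, ∀ S' ∈ B.powerset, S₁ ⊆ S' → S' ∈ T.erase S := fun S₁ h₁ S' hS' hsub =>
      Finset.mem_erase.2 ⟨fun e => (Finset.mem_erase.1 h₁).1
        (Finset.Subset.antisymm (e ▸ hsub) (hmin (Finset.mem_of_mem_erase h₁) (e ▸ hsub))),
        hup S₁ (Finset.mem_of_mem_erase h₁) S' hS' hsub⟩
    have hset : {x | pat x ∈ T.erase S} = ⋃ S' ∈ T.erase S, P S' := by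
      ext x
      simp only [Set.mem_setOf_eq, Set.mem_iUnion]
      constructor
      · exact fun h => ⟨pat x, h, (hmemP _ (Finset.filter_subset _ _) x).2 subset_rfl⟩
      · rintro ⟨S', hS', hx⟩
        exact hup' S' hS' _ (Finset.mem_powerset.2 (Finset.filter_subset _ _))
          ((hmemP S' (Finset.mem_powerset.1 (hTB (Finset.mem_of_mem_erase hS'))) x).1 hx)
    have hcO : ∀ T' ⊆ T, IsOpen (⋃ S' ∈ T', P S') ∧ IsCompact (⋃ S' ∈ T', P S') := fun T' hT' =>
      ⟨isOpen_biUnion fun S' h => (hPo S' (Finset.mem_powerset.1 (hTB (hT' h)))).1,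
        T'.isCompact_biUnion fun S' h => (hPo S' (Finset.mem_powerset.1 (hTB (hT' h)))).2⟩
    let O₀ : X.Opens := ⟨{x | pat x ∈ T.erase S}, by rw [hset]; exact (hcO _ (T.erase_subset S)).1⟩
    have h0 : Filt (openPart F O₀) :=
      ih _ (Finset.erase_ssubset hS) ((T.erase_subset S).trans hTB) hup' O₀ rfl
    have hle : O₀ ≤ O := fun x hx => show x ∈ (O : Set X) from hO ▸ Finset.mem_of_mem_erase (hx : pat x ∈ _)
    have hsd : ∀ x ∈ (O : Set X) \ O₀, pat x = S := fun x ⟨hx, hx'⟩ => by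
      by_contra hne
      exact hx' (Finset.mem_erase.2 ⟨hne, (hO ▸ hx :)⟩)
    by_cases hemp : (O : Set X) \ O₀ = ∅
    · obtain rfl : O = O₀ := le_antisymm (Set.sdiff_eq_empty.1 hemp) hle
      exact h0
    obtain ⟨x₀, hx₀⟩ := Set.nonempty_iff_ne_empty.2 hemp
    obtain ⟨k, hk⟩ := Set.mem_iUnion.1 (hcov (Set.mem_univ x₀))
    have hsub : (O : Set X) \ O₀ ⊆ E k := fun x hx => (hA' k x₀ x fun a ha => by
      have haB : a ∈ B := Finset.mem_biUnion.2 ⟨k, Finset.mem_univ k, ha⟩
      have e := (hsd x₀ hx₀).trans (hsd x hx).symm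
      have := Finset.ext_iff.1 e a
      simpa [pat, haB] using this).1 hk
    have hOc : Topology.IsConstructible ((O : Set X) \ O₀) := by
      have h1 : (O : Set X) = ⋃ S' ∈ T, P S' := by
        rw [hO]
        ext x
        simp only [Set.mem_setOf_eq, Set.mem_iUnion]
        exact ⟨fun h => ⟨pat x, h, (hmemP _ (Finset.filter_subset _ _) x).2 subset_rfl⟩, fun ⟨S', hS', hx⟩ =>
          hup S' hS' _ (Finset.mem_powerset.2 (Finset.filter_subset _ _))
            ((hmemP S' (Finset.mem_powerset.1 (hTB hS')) x).1 hx)⟩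
      have h2 : (O₀ : Set X) = ⋃ S' ∈ T.erase S, P S' := hset
      rw [h1, h2]
      exact ((hcO T subset_rfl).2.isConstructible (hcO T subset_rfl).1).sdiff
        ((hcO _ (T.erase_subset S)).2.isConstructible (hcO _ (T.erase_subset S)).1)
    obtain ⟨f, hf⟩ := exists_step_open F hle (hflc k) hsub hOc
    exact h0.extend f hf
  obtain ⟨e⟩ := nonempty_openPart_top F
  obtain ⟨n, E', ι, h0, ⟨e'⟩, hs⟩ := key B.powerset subset_rfl (fun _ _ S' hS' _ => hS') ⊤ (by
    ext x; simp [pat, Finset.filter_subset])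
  exact ⟨n, E', ι, h0, ⟨e' ≪≫ e.symm⟩, hs⟩

end Groth.Agent.Cons51
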