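import Groth.Agent.Cons51.Sub

/-!
Subsheaves and quotients of constructible sheaves on Noetherian schemes.
-/

set_option autoImplicit false
set_option backward.isDefEq.respectTransparency.types false
universe u

open CategoryTheory CategoryTheory.Limits AlgebraicGeometry Topology Opposite
open Groth.Agent.Unr55.EtSh

namespace Groth.Agent.Cons51

variable {X : Scheme.{u}}

/-- The closure criterion, packaged with the generic point. -/
theorem exists_generic_piece [IsLocallyNoetherian X] {F : EtCoh.Ab X} (hF : EtPBC.IsConstructible F) (x : X) :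
    ∃ (V : X.Opens) (T : Scheme.{u}) (g : T ⟶ X) (_ : IrreducibleSpace T), IsImmersion g ∧ x ∈ V ∧
      Set.range g = (V : Set X) ∩ closure {x} ∧ g (genericPoint T) = x ∧
      EtCoh.IsFiniteLocallyConstant ((EtCoh.pull g).obj F) := by
  obtain ⟨V, T, g, hg, hxV, hgr, hF'⟩ := (isConstructible_iff_closures F).1 hF x
  obtain ⟨t₀, ht₀⟩ : x ∈ Set.range g := hgr.ge ⟨hxV, subset_closure rfl⟩
  have hgen : ∀ t : T, t₀ ⤳ t := fun t => by
    refine g.isEmbedding.isInducing.specializes_iff.1 ?_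
    rw [ht₀]
    exact specializes_iff_mem_closure.2 (hgr.le ⟨t, rfl⟩).2
  have : IrreducibleSpace T := by
    have h := (isIrreducible_singleton (x := t₀)).closure
    rw [Set.eq_univ_of_forall fun t => specializes_iff_mem_closure.1 (hgen t)] at h
    exact irreducibleSpace_def _ |>.2 h
  refine ⟨V, T, g, this, hg, hxV, hgr, ?_, hF'⟩
  rw [← ht₀]
  congr 1
  exact (genericPoint_spec T).eq (isGenericPoint_iff_specializes.2 fun t => by simp [hgen t])

/-- Subsheaves of constructible sheaves are constructible. -/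
theorem isConstructible_of_mono [IsLocallyNoetherian X] {F G : EtCoh.Ab X} (i : G ⟶ F) [Mono i]
    (hF : EtPBC.IsConstructible F) : EtPBC.IsConstructible G := by
  refine (isConstructible_iff_closures G).2 fun x => ?_
  obtain ⟨V, T, g, _, hg, hxV, hgr, hgen, hF'⟩ := exists_generic_piece hF x
  have := Unr55.EtSh.preservesFiniteLimits_pull g
  obtain ⟨O, hO, hG⟩ := exists_open_flc_sub hF' ((EtCoh.pull g).map i)
  obtain ⟨W, hW, hOW⟩ := g.isEmbedding.isInducing.isOpen_iff.1 O.2
  refine ⟨V ⊓ ⟨W, hW⟩, O.toScheme, O.ι ≫ g, inferInstance, ⟨hxV, ?_⟩, ?_,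
    flc_of_iso ((EtCore.pullComp O.ι g).app G).symm hG⟩
  · show x ∈ W
    rw [← hgen]
    exact hOW.ge hO
  · rw [Scheme.Hom.comp_base, TopCat.coe_comp, Set.range_comp, Scheme.Opens.range_ι]
    ext y
    constructor
    · rintro ⟨t, ht, rfl⟩
      have := hgr.le ⟨t, rfl⟩
      exact ⟨⟨this.1, hOW.ge ht⟩, this.2⟩
    · rintro ⟨⟨hyV, hyW⟩, hy⟩
      obtain ⟨t, rfl⟩ := hgr.ge ⟨hyV, hy⟩
      exact ⟨t, hOW.le hyW, rfl⟩

/-- Quotients of constructible sheaves are constructible. -/
theorem isConstructible_of_epi [IsLocallyNoetherian X] {F Q : EtCoh.Ab X} (p : F ⟶ Q) [Epi p]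
    (hF : EtPBC.IsConstructible F) : EtPBC.IsConstructible Q := by
  have h := (isConstructible_kernel_cokernel (kernel.ι p) (isConstructible_of_mono (kernel.ι p) hF) hF).2
  refine isConstructible_of_iso' ?_ h
  exact (cokernelIsCokernel (kernel.ι p)).coconePointUniqueUpToIso (Abelian.epiIsCokernelOfKernel (KernelFork.ofι (kernel.ι p) (kernel.condition p)) (kernelIsKernel p))
where
  isConstructible_of_iso' {A B : EtCoh.Ab X} (e : A ≅ B) (h : EtPBC.IsConstructible A) :
      EtPBC.IsConstructible B := fun U hU => by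
    obtain ⟨n, T, g, h1, h2, h3, h4, h5⟩ := h U hU
    exact ⟨n, T, g, h1, h2, h3, h4, fun i => flc_of_iso ((EtCoh.pull (g i)).mapIso e) (h5 i)⟩

theorem stalk_map_pull {T : Scheme.{u}} (g : T ⟶ X) {A B : EtCoh.Ab X} (φ : A ⟶ B) {Ω : Type u} [Field Ω]
    [IsSepClosed Ω] (ξ : Spec (CommRingCat.of Ω) ⟶ T)
    (h : Function.Surjective ((EtCoh.stalk ξ).map ((EtCoh.pull g).map φ))) :
    Function.Surjective ((EtCoh.stalk (ξ ≫ g)).map φ) := by
  intro b
  obtain ⟨a', ha'⟩ := h ((stalkPullIso g ξ).inv.app B b)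
  refine ⟨(stalkPullIso g ξ).hom.app A a', ?_⟩
  have := ConcreteCategory.congr_hom ((stalkPullIso g ξ).hom.naturality φ) a'
  refine this.symm.trans ?_
  show (stalkPullIso g ξ).hom.app B ((EtCoh.stalk ξ).map ((EtCoh.pull g).map φ) a') = b
  rw [ha', ← ConcreteCategory.comp_apply, Iso.inv_hom_id_app]
  rfl

/-- Increasing sequences of subsheaves of a constructible sheaf are stationary. -/
theorem acc [IsNoetherian X] {F : EtCoh.Ab X} (hF : EtPBC.IsConstructible F) (c : ℕ →o Subobject F) :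
    ∃ N, ∀ m, N ≤ m → c m = c N := by
  classical
  let G : ℕ → EtCoh.Ab X := fun n => (c n : EtCoh.Ab X)
  let t : ∀ n m, n ≤ m → (G n ⟶ G m) := fun n m h => Subobject.ofLE (c n) (c m) (c.monotone h)
  have piece : ∀ x : X, ∃ (N : ℕ) (W : Set X), IsOpen W ∧ x ∈ W ∧ ∀ m (h : N ≤ m) (Ω : Type u) [Field Ω]
      [IsSepClosed Ω] (ξ : Spec (CommRingCat.of Ω) ⟶ X), ξ default ∈ W ∩ closure {x} →
        Function.Surjective ((EtCoh.stalk ξ).map (t N m h)) := by
    intro x
    obtain ⟨V, T, g, _, hg, hxV, hgr, hgen, hF'⟩ := exists_generic_piece hF x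
    have := Unr55.EtSh.preservesFiniteLimits_pull g
    have hm : ∀ n, Mono ((EtCoh.pull g).map (c n).arrow) := fun n => inferInstance
    obtain ⟨N, O, hO, hst⟩ := exists_open_stable hF' (fun n => (EtCoh.pull g).obj (G n))
      (fun n => (EtCoh.pull g).map (c n).arrow) (fun n m h => (EtCoh.pull g).map (t n m h))
      (fun n m h => by rw [← Functor.map_comp, Subobject.ofLE_arrow])
    obtain ⟨W, hW, hOW⟩ := g.isEmbedding.isInducing.isOpen_iff.1 O.2
    refine ⟨N, W ∩ V, hW.inter V.2, ⟨by rw [← hgen]; exact hOW.ge hO, hxV⟩, fun m h Ω _ _ ξ hξ => ?_⟩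
    obtain ⟨ζ, rfl⟩ := exists_lift ξ g (by
      rintro _ ⟨a, rfl⟩
      rw [default_eq a]
      exact hgr.ge ⟨hξ.1.2, hξ.2⟩)
    exact stalk_map_pull g _ ζ (hst m h Ω ζ (hOW.le hξ.1.1))
  choose N W hW hxW hN using piece
  have hcons : ∀ A : Set X, IsLocallyClosed A → Topology.IsConstructible A := by
    rintro A ⟨O, C, hO, hC, rfl⟩
    exact ((TopologicalSpace.NoetherianSpace.isCompact O).isConstructible hO).inter
      (isConstructible_compl.1 ((TopologicalSpace.NoetherianSpace.isCompact Cᶜ).isConstructible hC.isOpen_compl))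
  have : SpectralSpace X := { }
  obtain ⟨L, hL⟩ := (isCompact_univ (X := WithConstructibleTopology X)).elim_finite_subcover
    (fun x : X => WithTopology.ofTopology ⁻¹' (W x ∩ closure {x}))
    (fun x => WithConstructibleTopology.isOpen_iff.mpr
      (Groth.Agent.FlatMor66.isClopen_constructibleTopology_of_isConstructible
        (hcons _ ((hW x).isLocallyClosed.inter isClosed_closure.isLocallyClosed))).1)
    (fun z _ => Set.mem_iUnion.2 ⟨WithTopology.ofTopology z, hxW _, subset_closure rfl⟩)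
  refine ⟨L.sup N, fun m hm => ?_⟩
  have hle : c (L.sup N) ≤ c m := c.monotone hm
  have : Epi (t (L.sup N) m hm) := epi_of_stalks _ fun K _ _ η s => by
    obtain ⟨x, hx, hxη⟩ := Set.mem_iUnion₂.1 (hL (Set.mem_univ (WithTopology.toTopology _ (η default))))
    obtain ⟨a, rfl⟩ := hN x m ((Finset.le_sup hx).trans hm) K η hxη s
    refine ⟨(EtCoh.stalk η).map (t (N x) (L.sup N) (Finset.le_sup hx)) a, ?_⟩
    rw [← ConcreteCategory.comp_apply, ← Functor.map_comp, Subobject.ofLE_comp_ofLE]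
  have : Mono (t (L.sup N) m hm) := inferInstanceAs (Mono (Subobject.ofLE _ _ hle))
  have : IsIso (t (L.sup N) m hm) := isIso_of_mono_of_epi _
  exact (Subobject.eq_of_comm (asIso (t (L.sup N) m hm)) (Subobject.ofLE_arrow hle)).symm

/-- The locus of surjectivity on stalks. -/
theorem surjective_locus [CompactSpace X] [QuasiSeparatedSpace X] {F G : EtCoh.Ab X} (φ : F ⟶ G)
    (hF : EtPBC.IsConstructible F) (hG : EtPBC.IsConstructible G) :
    Topology.IsConstructible {x : X | ∀ (Ω : Type u) [Field Ω] [IsSepClosed Ω]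
      (ξ : Spec (CommRingCat.of Ω) ⟶ X), Set.range ξ = {x} →
        Function.Surjective ((EtCoh.stalk ξ).map φ)} := by
  have h := (isLocallyConstructible_supp (cokernel φ) (isConstructible_kernel_cokernel φ hF hG).2).isConstructible
  convert h.compl using 1
  ext x
  have key : ∀ (Ω : Type u) [Field Ω] [IsSepClosed Ω] (ξ : Spec (CommRingCat.of Ω) ⟶ X),
      IsZero ((EtCoh.stalk ξ).obj (cokernel φ)) ↔ Function.Surjective ((EtCoh.stalk ξ).map φ) := by
    intro Ω _ _ ξ
    have e := PreservesCokernel.iso (EtCoh.stalk ξ) φ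
    rw [← AddCommGrpCat.epi_iff_surjective]
    constructor
    · intro hz
      exact Abelian.epi_of_cokernel_π_eq_zero _ ((hz.of_iso e.symm).eq_of_tgt _ _)
    · intro _
      exact (isZero_cokernel_of_epi ((EtCoh.stalk ξ).map φ)).of_iso e
  constructor
  · intro hx ⟨Ω, _, _, ξ, hξ, hne⟩
    exact hne ((key Ω ξ).2 (hx Ω ξ hξ))
  · intro hx Ω _ _ ξ hξ
    by_contra hc
    exact hx ⟨Ω, inferInstance, inferInstance, ξ, hξ, fun hz => hc ((key Ω ξ).1 hz)⟩

end Groth.Agent.Cons51
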