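import Groth.Agent.Cons51.Rows
import Groth.Agent.EtCore45.RingSupp
import Groth.Agent.Unr55.Et.Unit

/-!
Supports of constructible sheaves.
-/

set_option autoImplicit false
set_option backward.isDefEq.respectTransparency.types false
universe u

open CategoryTheory CategoryTheory.Limits AlgebraicGeometry Topology Opposite
open Groth.Agent.Unr55.EtSh
open Groth.Agent.FlatMor66 (isClopen_constructibleTopology_of_isConstructible)

namespace Groth.Agent.Cons51

variable {X : Scheme.{u}}

theorem range_eq_singleton {Ω : Type u} [Field Ω] (ξ : Spec (CommRingCat.of Ω) ⟶ X) (x : X) :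
    Set.range ξ = {x} ↔ ξ default = x := by
  refine ⟨fun h => Set.mem_singleton_iff.1 (h.le ⟨default, rfl⟩), fun h => ?_⟩
  refine Set.eq_singleton_iff_unique_mem.2 ⟨⟨default, h⟩, ?_⟩
  rintro _ ⟨a, rfl⟩
  rw [default_eq a, h]

/-- Supports and inverse images along immersions. -/
theorem supp_pull_immersion {T : Scheme.{u}} (g : T ⟶ X) [IsImmersion g] (F : EtCoh.Ab X) :
    EtPBC.supp ((EtCoh.pull g).obj F) = g ⁻¹' EtPBC.supp F := by
  ext t
  constructor
  · rintro ⟨Ω, _, _, ξ, hξ, hne⟩
    refine ⟨Ω, inferInstance, inferInstance, ξ ≫ g, ?_, fun hz => hne ?_⟩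
    · rw [range_eq_singleton, Scheme.Hom.comp_apply, (range_eq_singleton ξ t).1 hξ]
    · have := AddCommGrpCat.subsingleton_of_isZero hz
      refine @AddCommGrpCat.isZero_of_subsingleton _ ?_
      exact (theta_bijective g ξ F).surjective.subsingleton
  · rintro ⟨Ω, _, _, η, hη, hne⟩
    have hη' := (range_eq_singleton η _).1 hη
    obtain ⟨ξ, rfl⟩ := exists_lift η g (hη.le.trans (Set.singleton_subset_iff.2 ⟨t, rfl⟩))
    refine ⟨Ω, inferInstance, inferInstance, ξ, (range_eq_singleton ξ t).2 (g.isEmbedding.injective hη'),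
      fun hz => hne ?_⟩
    have := AddCommGrpCat.subsingleton_of_isZero hz
    refine @AddCommGrpCat.isZero_of_subsingleton _ ?_
    exact (theta_bijective g ξ F).injective.subsingleton

/-- The support of a finite locally constant sheaf is open and closed. -/
theorem isClopen_supp {G : EtCoh.Ab X} (h : EtCoh.IsFiniteLocallyConstant G) : IsClopen (EtPBC.supp G) := by
  have key : ∀ x : X, ∃ (O : Set X) (p : Prop), IsOpen O ∧ x ∈ O ∧ ∀ y ∈ O, y ∈ EtPBC.supp G ↔ p := by
    intro x
    obtain ⟨U, u, M, _, _, σ, hu, hσ⟩ := (LocConst45.finiteLocallyConstant_iff G).1 h x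
    have : Etale U.hom := U.prop
    refine ⟨Set.range U.hom, Nontrivial M, U.hom.isOpenMap.isOpen_range, ⟨u, hu⟩, fun y hy => ⟨?_, ?_⟩⟩
    · rintro ⟨Ω, _, _, η, hη, hne⟩
      by_contra hM
      rw [not_nontrivial_iff_subsingleton] at hM
      refine hne ((isZero_stalk_iff η G).2 fun V t s => (germ_eq_zero_iff η G t s).1 ?_)
      have hη' := (range_eq_singleton η y).1 hη
      obtain ⟨p⟩ := EtCore45.exists_pt U η (hη' ▸ hy)
      obtain ⟨⟨W, w⟩, a, b, -⟩ := IsCofiltered.toIsCofilteredOrEmpty.cone_objs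
        (C := (Scheme.pointSmallEtale η).fiber.Elements) ⟨U, p⟩ ⟨V, t⟩
      obtain ⟨V', g, v, m, hv, hm⟩ := hσ.surj W a.val (G.obj.map b.val.op s) (hom η w default)
      obtain ⟨w', hw'⟩ := LocConst45.exists_pt_over g w v hv
      have e := congrArg (germ η G w') hm
      rw [Subsingleton.elim m 0, map_zero, map_zero, map_zero, germ_map, germ_map, hw', b.property] at e
      exact e
    · intro hM
      obtain ⟨u', hu'⟩ := hy
      obtain ⟨K, _, _, η, t, ht⟩ := point_over U u'
      obtain ⟨m, hm⟩ := exists_ne (0 : M)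
      have hy' : η default = y := by
        rw [← hu', ← ht, ← Scheme.Hom.comp_apply]
        exact congrArg (fun q : Spec (CommRingCat.of K) ⟶ X => q default) (Over.w t).symm
      refine ⟨K, inferInstance, inferInstance, η, (range_eq_singleton η y).2 hy', fun hz => ?_⟩
      have := AddCommGrpCat.subsingleton_of_isZero hz
      obtain ⟨V, g, t', -, h0⟩ := (germ_eq_zero_iff η G t (σ m)).1 (Subsingleton.elim _ _)
      exact hm (hσ.inj V g m ⟨hom η t' default⟩ h0)
  refine ⟨⟨isOpen_iff_forall_mem_open.2 fun x hx => ?_⟩, isOpen_iff_forall_mem_open.2 fun x hx => ?_⟩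
  · obtain ⟨O, p, hO, hxO, hp⟩ := key x
    exact ⟨O, fun y hy hys => hx ((hp x hxO).2 ((hp y hy).1 hys)), hO, hxO⟩
  · obtain ⟨O, p, hO, hxO, hp⟩ := key x
    exact ⟨O, fun y hy => (hp y hy).2 ((hp x hxO).1 hx), hO, hxO⟩

theorem isLocallyConstructible_supp (F : EtCoh.Ab X) (hF : EtPBC.IsConstructible F) :
    Topology.IsLocallyConstructible (EtPBC.supp F) := by
  intro x
  obtain ⟨U, hU, hxU, -⟩ := exists_isAffineOpen_mem_and_subset (X := X) (x := x) (U := ⊤) trivial
  obtain ⟨n, T, g, hg, hc, -, hcov, hflc⟩ := hF U hU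
  refine ⟨(U : Set X), U.2.mem_nhds hxU, U.2, ?_⟩
  have : IsAffine U.toScheme := hU
  have : CompactSpace ↥(U : Set X) := isCompact_iff_compactSpace.1 hU.isCompact
  have : QuasiSeparatedSpace ↥(U : Set X) := quasiSeparatedSpace_of_affine hU
  have : PrespectralSpace ↥(U : Set X) := inferInstanceAs (PrespectralSpace U.toScheme)
  have : QuasiSober ↥(U : Set X) := inferInstanceAs (QuasiSober U.toScheme)
  have : SpectralSpace ↥(U : Set X) := { }
  have key : ((Subtype.val : ↥(U : Set X) → X) ⁻¹' EtPBC.supp F) =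
      ⋃ i, (Set.codRestrict (g i) (U : Set X) fun t => hcov.le (Set.mem_iUnion.2 ⟨i, t, rfl⟩)) ''
        EtPBC.supp ((EtCoh.pull (g i)).obj F) := by
    ext z
    simp only [Set.mem_iUnion, Set.mem_image, Set.mem_preimage]
    constructor
    · intro hz
      obtain ⟨i, t, ht⟩ := Set.mem_iUnion.1 (hcov.ge z.2)
      refine ⟨i, t, ?_, Subtype.ext ht⟩
      rw [supp_pull_immersion]
      exact (ht ▸ hz :)
    · rintro ⟨i, t, ht, rfl⟩
      rw [supp_pull_immersion] at ht
      exact ht
  show Topology.IsConstructible ((Subtype.val : ↥(U : Set X) → X) ⁻¹' EtPBC.supp F)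
  rw [key]
  refine Topology.IsConstructible.iUnion fun i => ?_
  let f := Set.codRestrict (g i) (U : Set X) fun t => hcov.le (Set.mem_iUnion.2 ⟨i, t, rfl⟩)
  have hf : IsEmbedding f := (g i).isEmbedding.codRestrict _ _
  have hr : Set.range f = (Subtype.val : ↥(U : Set X) → X) ⁻¹' Set.range (g i) := by
    ext z
    exact ⟨fun ⟨t, ht⟩ => ⟨t, congrArg Subtype.val ht⟩, fun ⟨t, ht⟩ => ⟨t, Subtype.ext ht⟩⟩
  have hrc : IsCompact (Set.range f) :=
    SpecSp50.isCompact_of_compact_of_le SpecSp50.cons_le SpecSp50.compactSpace_cons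
      ((@isOpen_compl_iff _ (Set.range f) (constructibleTopology ↥(U : Set X))).1
        (isClopen_constructibleTopology_of_isConstructible (hr ▸ hc i)).2)
  have : CompactSpace (T i) := ⟨hf.isInducing.isCompact_iff.2 (by rwa [Set.image_univ])⟩
  have hclop := isClopen_supp (hflc i)
  have : QuasiSeparatedSpace (T i) := by
    have := hg i
    let l : T i ⟶ U.toScheme := IsOpenImmersion.lift U.ι (g i) (by
      rintro _ ⟨t, rfl⟩
      rw [Scheme.Opens.range_ι]
      exact hcov.le (Set.mem_iUnion.2 ⟨i, t, rfl⟩))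
    have : IsImmersion (l ≫ U.ι) := by rw [IsOpenImmersion.lift_fac]; infer_instance
    have : IsImmersion l := IsImmersion.of_comp l U.ι
    exact quasiSeparatedSpace_of_quasiSeparated l
  exact isConstructible_image hf (hr ▸ hc i)
    ((hclop.1.isCompact.isRetrocompact hclop.2).isConstructible hclop.2)

end Groth.Agent.Cons51
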