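import Groth.Agent.Cons51.Count

/-!
Stalks do not depend on the separably closed field of the geometric point.
-/

set_option autoImplicit false
set_option backward.isDefEq.respectTransparency.types false
universe u

open CategoryTheory CategoryTheory.Limits AlgebraicGeometry Opposite
open Groth.Agent.Unr55.EtSh Groth.Agent.LocConst45

namespace Groth.Agent.Cons51

variable {X : Scheme.{u}} {Ω Ω' : Type u} [Field Ω] [IsSepClosed Ω] [Field Ω'] [IsSepClosed Ω']
  (c : Spec (CommRingCat.of Ω') ⟶ Spec (CommRingCat.of Ω)) (η : Spec (CommRingCat.of Ω) ⟶ X)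

/-- A point over the larger field. -/
noncomputable def ptExt {V : X.Etale} (t : Pt η V) : Pt (c ≫ η) V :=
  mkPt _ (c ≫ hom η t) ((Category.assoc _ _ _).trans (congrArg (c ≫ ·) (Over.w t)))

theorem ptExt_map {V W : X.Etale} (g : V ⟶ W) (t : Pt η V) :
    ptExt c η ((Scheme.pointSmallEtale η).fiber.map g t) =
      (Scheme.pointSmallEtale (c ≫ η)).fiber.map g (ptExt c η t) :=
  Over.OverMorphism.ext (Category.assoc c (hom η t) g.left).symm

theorem ptExt_default {V : X.Etale} (t : Pt η V) :
    hom (c ≫ η) (ptExt c η t) default = hom η t default :=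
  congrArg (hom η t) (Subsingleton.elim (c default) default)

/-- Every point over the larger field comes from one over the smaller field. -/
theorem exists_ptExt_eq {V : X.Etale} (t : Pt (c ≫ η) V) : ∃ p : Pt η V, ptExt c η p = t := by
  have : Etale V.hom := V.prop
  have hw : hom (c ≫ η) t ≫ V.hom = c ≫ η := Over.w t
  let P : (Spec (CommRingCat.of Ω)).Etale := Scheme.Etale.mk (pullback.snd V.hom η)
  let l : Spec (CommRingCat.of Ω') ⟶ pullback V.hom η := pullback.lift (hom (c ≫ η) t) c hw
  obtain ⟨q, hq⟩ := exists_pt_at P (𝟙 _) (l default) ((default_eq _).trans (default_eq _).symm)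
  let s : Spec (CommRingCat.of Ω) ⟶ pullback V.hom η := hom (𝟙 (Spec (CommRingCat.of Ω))) q
  have hs : s ≫ pullback.snd V.hom η = 𝟙 _ := Over.w q
  have : Etale (s ≫ pullback.snd V.hom η) := by rw [hs]; infer_instance
  have : Etale s := Etale.of_comp s (pullback.snd V.hom η)
  have : Mono (s ≫ pullback.snd V.hom η) := by rw [hs]; infer_instance
  have : Mono s := mono_of_mono s (pullback.snd V.hom η)
  have : IsOpenImmersion s := IsOpenImmersion.of_flat_of_mono s
  have hr : Set.range l ⊆ Set.range s := by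
    rintro _ ⟨a, rfl⟩
    exact ⟨default, hq.trans (congrArg l (Subsingleton.elim _ _))⟩
  have hfac := IsOpenImmersion.lift_fac s l hr
  have hc : IsOpenImmersion.lift s l hr = c := by
    have := congrArg (· ≫ pullback.snd V.hom η) hfac
    simp only [Category.assoc, hs, Category.comp_id, l, pullback.lift_snd] at this
    exact this
  refine ⟨mkPt _ (s ≫ pullback.fst V.hom η) ?_, Over.OverMorphism.ext ?_⟩
  · show (s ≫ pullback.fst V.hom η) ≫ V.hom = η
    rw [Category.assoc, pullback.condition, ← Category.assoc, hs, Category.id_comp]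
  · show c ≫ s ≫ pullback.fst V.hom η = hom (c ≫ η) t
    rw [← Category.assoc]
    conv_lhs => rw [← hc, hfac]
    exact pullback.lift_fst _ _ _

/-- The comparison of stalks. -/
noncomputable def stalkExt (F : EtCoh.Ab X) : (EtCoh.stalk η).obj F ⟶ (EtCoh.stalk (c ≫ η)).obj F :=
  (Scheme.pointSmallEtale η).presheafFiberDesc (P := F.obj)
    (fun V s => (Scheme.pointSmallEtale (c ≫ η)).toPresheafFiber V (ptExt c η s) F.obj)
    (fun V W g s => by
      refine ((Scheme.pointSmallEtale (c ≫ η)).toPresheafFiber_w g (ptExt c η s) F.obj).trans ?_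
      rw [ptExt_map])

theorem stalkExt_germ (F : EtCoh.Ab X) {V : X.Etale} (s : Pt η V) (σ : EtCoh.sect F V) :
    stalkExt c η F (germ η F s σ) = germ (c ≫ η) F (ptExt c η s) σ :=
  ConcreteCategory.congr_hom ((Scheme.pointSmallEtale η).toPresheafFiber_presheafFiberDesc
    (P := F.obj) (fun V s => (Scheme.pointSmallEtale (c ≫ η)).toPresheafFiber V (ptExt c η s) F.obj) _ V s) σ

theorem stalkExt_bijective (F : EtCoh.Ab X) : Function.Bijective (stalkExt c η F) := by
  constructor
  · refine (injective_iff_map_eq_zero (stalkExt c η F).hom).2 fun a ha => ?_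
    obtain ⟨V, s, σ, rfl⟩ := exists_germ_eq η F a
    obtain ⟨W, g, t, h1, h2⟩ := (germ_eq_zero_iff (c ≫ η) F (ptExt c η s) σ).1
      ((stalkExt_germ c η F s σ).symm.trans ha)
    obtain ⟨t', ht'⟩ := exists_pt_over g s (hom (c ≫ η) t default)
      ((congrArg (fun q => hom (c ≫ η) q default) h1).trans (ptExt_default c η s))
    exact (germ_eq_zero_iff η F s σ).2 ⟨W, g, t', ht', h2⟩
  · intro a
    obtain ⟨V, t, σ, rfl⟩ := exists_germ_eq (c ≫ η) F a
    obtain ⟨p, rfl⟩ := exists_ptExt_eq c η t
    exact ⟨germ η F p σ, stalkExt_germ c η F p σ⟩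

theorem stalkExt_natural {F G : EtCoh.Ab X} (φ : F ⟶ G) (a : ((EtCoh.stalk η).obj F : AddCommGrpCat.{u + 1})) :
    (EtCoh.stalk (c ≫ η)).map φ (stalkExt c η F a) = stalkExt c η G ((EtCoh.stalk η).map φ a) := by
  obtain ⟨V, s, σ, rfl⟩ := exists_germ_eq η F a
  rw [stalkExt_germ, stalk_map_germ, stalk_map_germ, stalkExt_germ]

/-- Bijectivity on a stalk depends only on the point. -/
theorem bijective_stalk_of_eq {F G : EtCoh.Ab X} (φ : F ⟶ G) (η : Spec (CommRingCat.of Ω) ⟶ X)
    (η' : Spec (CommRingCat.of Ω') ⟶ X) (h : η default = η' default)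
    (hb : Function.Bijective ((EtCoh.stalk η).map φ)) : Function.Bijective ((EtCoh.stalk η').map φ) := by
  obtain ⟨z, -, -⟩ := Scheme.Pullback.exists_preimage_pullback (f := η) (g := η') default default h
  let K := AlgebraicClosure ((pullback η η').residueField z)
  let k : Spec (CommRingCat.of K) ⟶ pullback η η' :=
    Spec.map (CommRingCat.ofHom (algebraMap ((pullback η η').residueField z) K)) ≫
      (pullback η η').fromSpecResidueField z
  have hk : (k ≫ pullback.fst η η') ≫ η = (k ≫ pullback.snd η η') ≫ η' := by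
    simp only [Category.assoc, pullback.condition]
  have key : ∀ {A : Type u} [Field A] [IsSepClosed A] (d : Spec (CommRingCat.of K) ⟶ Spec (CommRingCat.of A))
      (ζ : Spec (CommRingCat.of A) ⟶ X),
      Function.Bijective ((EtCoh.stalk ζ).map φ) ↔ Function.Bijective ((EtCoh.stalk (d ≫ ζ)).map φ) := by
    intro A _ _ d ζ
    have e : ⇑((EtCoh.stalk (d ≫ ζ)).map φ) ∘ ⇑(stalkExt d ζ F) =
        ⇑(stalkExt d ζ G) ∘ ⇑((EtCoh.stalk ζ).map φ) := funext (stalkExt_natural d ζ φ)
    rw [← (stalkExt_bijective d ζ G).of_comp_iff' ⇑((EtCoh.stalk ζ).map φ), ← e,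
      Function.Bijective.of_comp_iff _ (stalkExt_bijective d ζ F)]
  have h1 := (key (k ≫ pullback.fst η η') η).1 hb
  rw [hk] at h1
  exact (key (k ≫ pullback.snd η η') η').2 h1

end Groth.Agent.Cons51
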