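import Groth.Agent.Cons51.Sub
import Groth.Agent.Cons51.Noeth
import Groth.Agent.EtStrat51.Finite

/-!
Cardinalities of stalks and constructibility.
-/

set_option autoImplicit false
set_option backward.isDefEq.respectTransparency.types false
universe u

open CategoryTheory CategoryTheory.Limits AlgebraicGeometry Topology Opposite
open Groth.Agent.Unr55.EtSh Groth.Agent.LocConst45
open Groth.Agent.FlatMor66 (isClopen_constructibleTopology_of_isConstructible)

namespace Groth.Agent.Cons51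

variable {X : Scheme.{u}}

/-- The value group is the stalk at each point above. -/
theorem bijective_germ_of_triv {F : EtCoh.Ab X} {U : X.Etale} {M : Type (u + 1)} [AddCommGroup M]
    {σ : M →+ EtCoh.sect F U} (h : IsTriv F U σ) {Ω : Type u} [Field Ω] [IsSepClosed Ω]
    {η : Spec (CommRingCat.of Ω) ⟶ X} (p : Pt η U) :
    Function.Bijective fun m => germ η F p (σ m) := by
  refine ⟨fun m m' hm => ?_, fun s => ?_⟩
  · obtain ⟨V, g, t, -, h0⟩ := (germ_eq_zero_iff η F p (σ (m - m'))).1 (by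
      rw [map_sub, map_sub, sub_eq_zero]; exact hm)
    exact sub_eq_zero.1 (h.inj V g _ ⟨hom η t default⟩ h0)
  · obtain ⟨V, t, σ', rfl⟩ := exists_germ_eq η F s
    obtain ⟨⟨W, w⟩, a, b, -⟩ := IsCofiltered.toIsCofilteredOrEmpty.cone_objs
      (C := (Scheme.pointSmallEtale η).fiber.Elements) ⟨U, p⟩ ⟨V, t⟩
    obtain ⟨V', g, v, m, hv, hm⟩ := h.surj W a.val (F.obj.map b.val.op σ') (hom η w default)
    obtain ⟨w', hw'⟩ := exists_pt_over g w v hv
    refine ⟨m, ?_⟩
    have e := congrArg (germ η F w') hm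
    rw [germ_map, germ_map, hw', b.property, map_comp', germ_map, hw', germ_map, a.property] at e
    exact e.symm

theorem exists_lift_at {W : Scheme.{u}} (f : W ⟶ X) [Etale f] {Ω : Type u} [Field Ω] [IsSepClosed Ω]
    (y : W) (a : X.residueField (f y) ⟶ CommRingCat.of Ω) :
    ∃ l : Spec (CommRingCat.of Ω) ⟶ W, l ≫ f = Spec.map a ≫ X.fromSpecResidueField (f y) ∧ l default = y := by
  let : Algebra (X.residueField (f y)) (W.residueField y) := (f.residueFieldMap y).hom.toAlgebra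
  let : Algebra (X.residueField (f y)) Ω := a.hom.toAlgebra
  have : Algebra.IsSeparable (X.residueField (f y)) (W.residueField y) := inferInstance
  let b : W.residueField y →ₐ[X.residueField (f y)] Ω := IsSepClosed.lift
  refine ⟨Spec.map (CommRingCat.ofHom b.toRingHom) ≫ W.fromSpecResidueField y, ?_,
    W.fromSpecResidueField_apply y _⟩
  rw [Category.assoc, ← f.SpecMap_residueFieldMap_fromSpecResidueField, ← Category.assoc, ← Spec.map_comp]
  congr 2
  ext z
  exact b.commutes z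

/-- A geometric point lifts to any point of an etale neighbourhood over it. -/
theorem exists_pt_at (U : X.Etale) {Ω : Type u} [Field Ω] [IsSepClosed Ω]
    (ξ : Spec (CommRingCat.of Ω) ⟶ X) (y : U.left) (h : U.hom y = ξ default) :
    ∃ p : Pt ξ U, hom ξ p default = y := by
  have : Etale U.hom := U.prop
  obtain ⟨⟨x, a⟩, rfl⟩ := (Scheme.SpecToEquivOfField Ω X).symm.surjective ξ
  obtain rfl : U.hom y = x := h.trans (X.fromSpecResidueField_apply x _)
  obtain ⟨l, hl, hly⟩ := exists_lift_at (W := U.left) U.hom y a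
  exact ⟨mkPt _ l hl, hly⟩

/-- The points over which some stalk has `n` elements. -/
def countLocus (F : EtCoh.Ab X) (n : ℕ) : Set X :=
  {x : X | ∃ (Ω : Type u) (_ : Field Ω) (_ : IsSepClosed Ω) (ξ : Spec (CommRingCat.of Ω) ⟶ X),
    Set.range ξ = {x} ∧ Nat.card ((EtCoh.stalk ξ).obj F) = n}

theorem isClopen_countLocus_pull {T : Scheme.{u}} (g : T ⟶ X) [IsImmersion g] {F : EtCoh.Ab X}
    (h : EtCoh.IsFiniteLocallyConstant ((EtCoh.pull g).obj F)) (n : ℕ) : IsClopen (g ⁻¹' countLocus F n) := by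
  have key : ∀ x : T, ∃ (O : Set T) (k : ℕ), IsOpen O ∧ x ∈ O ∧ ∀ y ∈ O, y ∈ g ⁻¹' countLocus F n ↔ k = n := by
    intro x
    obtain ⟨U, u, M, _, _, σ, hu, hσ⟩ := (finiteLocallyConstant_iff _).1 h x
    have : Etale U.hom := U.prop
    refine ⟨Set.range U.hom, Nat.card M, U.hom.isOpenMap.isOpen_range, ⟨u, hu⟩, fun y hy => ?_⟩
    have hcard : ∀ {Ω : Type u} [Field Ω] [IsSepClosed Ω] (ζ : Spec (CommRingCat.of Ω) ⟶ T), ζ default = y →
        Nat.card ((EtCoh.stalk (ζ ≫ g)).obj F) = Nat.card M := fun {Ω} _ _ ζ hζ => by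
      obtain ⟨p⟩ := EtCore45.exists_pt U ζ (hζ ▸ hy)
      exact (Nat.card_congr (Equiv.ofBijective _ (theta_bijective g ζ F))).trans
        (Nat.card_congr (Equiv.ofBijective _ (bijective_germ_of_triv hσ p))).symm
    constructor
    · rintro ⟨Ω, _, _, ξ, hξ, hn⟩
      have hξ' := (range_eq_singleton ξ _).1 hξ
      obtain ⟨ζ, rfl⟩ := exists_lift ξ g (hξ.le.trans (Set.singleton_subset_iff.2 ⟨y, rfl⟩))
      rw [← hn, hcard ζ (g.isEmbedding.injective hξ')]
    · intro hk
      obtain ⟨K, _, _, η, t, ht⟩ := point_over (EtCoh.top T) y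
      have hy' : η default = y := by
        have : hom η t = η := (Category.comp_id _).symm.trans (Over.w t)
        rwa [this] at ht
      exact ⟨K, inferInstance, inferInstance, η ≫ g, (range_eq_singleton _ _).2 (congrArg g hy'),
        (hcard η hy').trans hk⟩
  refine ⟨⟨isOpen_iff_forall_mem_open.2 fun x hx => ?_⟩, isOpen_iff_forall_mem_open.2 fun x hx => ?_⟩
  · obtain ⟨O, p, hO, hxO, hp⟩ := key x
    exact ⟨O, fun y hy hys => hx ((hp x hxO).2 ((hp y hy).1 hys)), hO, hxO⟩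
  · obtain ⟨O, p, hO, hxO, hp⟩ := key x
    exact ⟨O, fun y hy => (hp y hy).2 ((hp x hxO).1 hx), hO, hxO⟩

/-- A set meeting each stratum in a clopen set is locally constructible. -/
theorem isLocallyConstructible_of_strata {F : EtCoh.Ab X} (hF : EtPBC.IsConstructible F) (S : Set X)
    (hS : ∀ (T : Scheme.{u}) (g : T ⟶ X), IsImmersion g → EtCoh.IsFiniteLocallyConstant ((EtCoh.pull g).obj F) →
      IsClopen (g ⁻¹' S)) : Topology.IsLocallyConstructible S := by
  intro x
  obtain ⟨U, hU, hxU, -⟩ := exists_isAffineOpen_mem_and_subset (X := X) (x := x) (U := ⊤) trivial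
  obtain ⟨n, T, g, hg, hc, -, hcov, hflc⟩ := hF U hU
  refine ⟨(U : Set X), U.2.mem_nhds hxU, U.2, ?_⟩
  have : IsAffine U.toScheme := hU
  have : CompactSpace ↥(U : Set X) := isCompact_iff_compactSpace.1 hU.isCompact
  have : QuasiSeparatedSpace ↥(U : Set X) := quasiSeparatedSpace_of_affine hU
  have : PrespectralSpace ↥(U : Set X) := inferInstanceAs (PrespectralSpace U.toScheme)
  have : QuasiSober ↥(U : Set X) := inferInstanceAs (QuasiSober U.toScheme)
  have : SpectralSpace ↥(U : Set X) := { }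
  have key : ((Subtype.val : ↥(U : Set X) → X) ⁻¹' S) =
      ⋃ i, (Set.codRestrict (g i) (U : Set X) fun t => hcov.le (Set.mem_iUnion.2 ⟨i, t, rfl⟩)) ''
        (g i ⁻¹' S) := by
    ext z
    simp only [Set.mem_iUnion, Set.mem_image, Set.mem_preimage]
    constructor
    · intro hz
      obtain ⟨i, t, ht⟩ := Set.mem_iUnion.1 (hcov.ge z.2)
      refine ⟨i, t, ?_, Subtype.ext ht⟩
      show g i t ∈ S
      rw [ht]
      exact hz
    · rintro ⟨i, t, ht, rfl⟩
      exact ht
  show Topology.IsConstructible ((Subtype.val : ↥(U : Set X) → X) ⁻¹' S)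
  rw [key]
  refine Topology.IsConstructible.iUnion fun i => ?_
  let f := Set.codRestrict (g i) (U : Set X) fun t => hcov.le (Set.mem_iUnion.2 ⟨i, t, rfl⟩)
  have hf : IsEmbedding f := (g i).isEmbedding.codRestrict _ _
  have hr : Set.range f = (Subtype.val : ↥(U : Set X) → X) ⁻¹' Set.range (g i) := by
    ext z
    exact ⟨fun ⟨t, ht⟩ => ⟨t, congrArg Subtype.val ht⟩, fun ⟨t, ht⟩ => ⟨t, Subtype.ext ht⟩⟩
  have hrc : IsCompact (Set.range f) :=
    SpecSp50.isCompact_of_compact_of_le SpecSp50.cons_le SpecSp50.compactSpace_cons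
      ((@isOpen_compl_iff _ (Set.range f) (constructibleTopology ↥(U : Set X))).1
        (isClopen_constructibleTopology_of_isConstructible (hr ▸ hc i)).2)
  have : CompactSpace (T i) := ⟨hf.isInducing.isCompact_iff.2 (by rwa [Set.image_univ])⟩
  have hclop := hS _ (g i) (hg i) (hflc i)
  have : QuasiSeparatedSpace (T i) := by
    have := hg i
    let l : T i ⟶ U.toScheme := IsOpenImmersion.lift U.ι (g i) (by
      rintro _ ⟨t, rfl⟩
      rw [Scheme.Opens.range_ι]
      exact hcov.le (Set.mem_iUnion.2 ⟨i, t, rfl⟩))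
    have : IsImmersion (l ≫ U.ι) := by rw [IsOpenImmersion.lift_fac]; infer_instance
    have : IsImmersion l := IsImmersion.of_comp l U.ι
    exact quasiSeparatedSpace_of_quasiSeparated l
  exact isConstructible_image hf (hr ▸ hc i)
    ((hclop.1.isCompact.isRetrocompact hclop.2).isConstructible hclop.2)


theorem isLocallyConstructible_countLocus {F : EtCoh.Ab X} (hF : EtPBC.IsConstructible F) (n : ℕ) :
    Topology.IsLocallyConstructible (countLocus F n) :=
  isLocallyConstructible_of_strata hF _ fun _ g _ h => isClopen_countLocus_pull g h n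

/-- An etale neighbourhood of a point over the generic point, with a single point over it. -/
theorem exists_open_specializes {T : Scheme.{u}} [IrreducibleSpace T] (U : T.Etale) (u : U.left)
    (hu : U.hom u = genericPoint T) : ∃ O : U.left.Opens, u ∈ O ∧ ∀ y ∈ O, u ⤳ y := by
  have : Etale U.hom := U.prop
  have : LocallyQuasiFinite U.hom := Unr55.locallyQuasiFinite_of_formallyUnramified U.hom
  obtain ⟨A, hA, huA, -⟩ := exists_isAffineOpen_mem_and_subset (X := T) (x := genericPoint T) (U := ⊤) trivial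
  obtain ⟨B, hB, huB, hBA⟩ := exists_isAffineOpen_mem_and_subset (X := U.left) (x := u) (U := U.hom ⁻¹ᵁ A)
    (show U.hom u ∈ A from hu ▸ huA)
  have hfin : ((B : Set U.left) ∩ U.hom ⁻¹' {genericPoint T}).Finite := by
    have : IsAffine B.toScheme := hB
    have : IsAffine A.toScheme := hA
    have hf := (U.hom.resLE A B hBA).finite_preimage_singleton ⟨genericPoint T, huA⟩
    refine (hf.image B.ι).subset ?_
    rintro a ⟨haB, ha⟩
    refine ⟨⟨a, haB⟩, A.ι.isOpenEmbedding.injective ?_, rfl⟩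
    rw [← Scheme.Hom.comp_apply, Scheme.Hom.resLE_comp_ι]
    exact ha
  let R : Set U.left := ⋃ z ∈ ((B : Set U.left) ∩ U.hom ⁻¹' {genericPoint T}) \ {u}, closure {z}
  have hR : IsClosed R := (hfin.subset Set.sdiff_subset).isClosed_biUnion fun _ _ => isClosed_closure
  refine ⟨⟨(B : Set U.left) \ R, B.2.sdiff hR⟩, ⟨huB, fun hR' => ?_⟩, fun y hy => ?_⟩
  · obtain ⟨z, ⟨⟨-, hz⟩, hne⟩, hzu⟩ := Set.mem_iUnion₂.1 hR'
    obtain ⟨V, hV, hVu⟩ := isDiscrete_iff_forall_mem_exists_isOpen.1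
      (U.hom.isDiscrete_preimage_singleton (genericPoint T)) u hu
    exact hne (hVu.le ⟨(specializes_iff_mem_closure.2 hzu).mem_open hV (hVu.ge rfl).1, hz⟩)
  · have : IrreducibleSpace ↥((Functor.fromPUnit T).obj U.right) := ‹IrreducibleSpace T›
    obtain ⟨z, hz, hgz⟩ := Flat.generalizingMap U.hom (genericPoint_specializes (U.hom y))
    have hzO : z ∈ B ∧ z ∉ R := hz.mem_open (B.2.sdiff hR) hy
    have hzu : z = u := by
      by_contra hne
      exact hzO.2 (Set.mem_biUnion (x := z) ⟨⟨hzO.1, hgz⟩, hne⟩ (subset_closure rfl))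
    exact hzu ▸ hz

/-- A finite stalk is realised by a group of sections near the point. -/
theorem exists_stalk_realisation (F : EtCoh.Ab X) {Ω : Type u} [Field Ω] [IsSepClosed Ω]
    (η : Spec (CommRingCat.of Ω) ⟶ X) [Finite ((EtCoh.stalk η).obj F)] :
    ∃ (U : X.Etale) (p : Pt η U) (σ : ((EtCoh.stalk η).obj F : AddCommGrpCat.{u + 1}) →+ EtCoh.sect F U),
      ∀ m, germ η F p (σ m) = m := by
  classical
  let M := ((EtCoh.stalk η).obj F : AddCommGrpCat.{u + 1})
  have := Fintype.ofFinite M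
  have h1 : ∀ S : Finset M, ∃ (U : X.Etale) (p : Pt η U) (s : M → EtCoh.sect F U),
      ∀ m ∈ S, germ η F p (s m) = m := by
    intro S
    induction S using Finset.induction with
    | empty =>
      obtain ⟨U, p, s, -⟩ := exists_germ_eq η F 0
      exact ⟨U, p, fun _ => s, fun m hm => absurd hm (Finset.notMem_empty m)⟩
    | insert a S _ ih =>
      obtain ⟨U, p, s, hs⟩ := ih
      obtain ⟨V, q, τ, hτ⟩ := exists_germ_eq η F a
      obtain ⟨⟨W, w⟩, i, j, -⟩ := IsCofiltered.toIsCofilteredOrEmpty.cone_objs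
        (C := (Scheme.pointSmallEtale η).fiber.Elements) ⟨U, p⟩ ⟨V, q⟩
      refine ⟨W, w, fun m => if m = a then F.obj.map j.val.op τ else F.obj.map i.val.op (s m), fun m hm => ?_⟩
      dsimp only
      split_ifs with h
      · rw [germ_map, j.property, hτ, h]
      · rw [germ_map, i.property, hs m ((Finset.mem_insert.1 hm).resolve_left h)]
  obtain ⟨U, p, s, hs⟩ := h1 Finset.univ
  have h2 : ∀ S : Finset (M × M), ∃ (V : X.Etale) (g : V ⟶ U) (q : Pt η V),
      (Scheme.pointSmallEtale η).fiber.map g q = p ∧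
        ∀ ab ∈ S, F.obj.map g.op (s (ab.1 + ab.2)) = F.obj.map g.op (s ab.1 + s ab.2) := by
    intro S
    induction S using Finset.induction with
    | empty => exact ⟨U, 𝟙 U, p, by simp, fun ab h => absurd h (Finset.notMem_empty ab)⟩
    | insert ab S _ ih =>
      obtain ⟨V, g, q, hq, hS⟩ := ih
      obtain ⟨W, k, r, hr, h0⟩ := (germ_eq_zero_iff η F q
          (F.obj.map g.op (s (ab.1 + ab.2) - (s ab.1 + s ab.2)))).1 (by
        rw [germ_map, hq, map_sub, map_add, hs _ (Finset.mem_univ _), hs _ (Finset.mem_univ _),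
          hs _ (Finset.mem_univ _), sub_self])
      refine ⟨W, k ≫ g, r, by rw [FunctorToTypes.map_comp_apply, hr, hq], fun c hc => ?_⟩
      rw [map_comp' F k g, map_comp' F k g]
      rcases Finset.mem_insert.1 hc with rfl | hc
      · rw [map_sub, map_sub, sub_eq_zero] at h0
        exact h0
      · rw [hS c hc]
  obtain ⟨V, g, q, hq, hadd⟩ := h2 Finset.univ
  exact ⟨V, q, AddMonoidHom.mk' (fun m => F.obj.map g.op (s m))
    fun a b => (hadd (a, b) (Finset.mem_univ _)).trans (map_add _ _ _),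
    fun m => by show germ η F q (F.obj.map g.op (s m)) = m; rw [germ_map, hq, hs m (Finset.mem_univ m)]⟩

/-- Constant cardinality of the stalks gives finite local constancy on a dense open. -/
theorem exists_open_flc_of_count {T : Scheme.{u}} [IrreducibleSpace T] {F : EtCoh.Ab T} {Ω₀ : Type u} [Field Ω₀]
    [IsSepClosed Ω₀] (η₀ : Spec (CommRingCat.of Ω₀) ⟶ T) (hη₀ : η₀ default = genericPoint T)
    [Finite ((EtCoh.stalk η₀).obj F)]
    (hfin : ∀ (Ω : Type u) [Field Ω] [IsSepClosed Ω] (ξ : Spec (CommRingCat.of Ω) ⟶ T),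
      Finite ((EtCoh.stalk ξ).obj F))
    (hn : ∀ y : T, ∃ (Ω : Type u) (_ : Field Ω) (_ : IsSepClosed Ω) (ξ : Spec (CommRingCat.of Ω) ⟶ T),
      ξ default = y ∧ Nat.card ((EtCoh.stalk ξ).obj F) ≤ Nat.card ((EtCoh.stalk η₀).obj F)) :
    ∃ O : T.Opens, genericPoint T ∈ O ∧ EtCoh.IsFiniteLocallyConstant ((EtCoh.pull O.ι).obj F) := by
  obtain ⟨U₀, p₀, σ₀, hσ₀⟩ := exists_stalk_realisation F η₀
  have hp₀ : U₀.hom (hom η₀ p₀ default) = genericPoint T := by
    rw [← hη₀, ← Scheme.Hom.comp_apply]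
    exact congrArg (fun q : Spec (CommRingCat.of Ω₀) ⟶ T => q default) (Over.w p₀)
  obtain ⟨B, hB, hBs⟩ := exists_open_specializes U₀ _ hp₀
  let U := openSub U₀ B
  let σ := (F.obj.map (openSubι U₀ B).op).hom.comp σ₀
  have : Etale U.hom := U.prop
  have hinj : ∀ (V : T.Etale) (a : V ⟶ U) (m : ((EtCoh.stalk η₀).obj F : AddCommGrpCat.{u + 1})),
      Nonempty V.left → F.obj.map a.op (σ m) = 0 → m = 0 := by
    rintro V a m ⟨v⟩ hm
    have hk : ((a ≫ openSubι U₀ B).left v) ∈ B := B.range_ι.le ⟨a.left v, rfl⟩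
    have := etale_left (a ≫ openSubι U₀ B)
    obtain ⟨v', hv'⟩ : hom η₀ p₀ default ∈ Set.range (a ≫ openSubι U₀ B).left :=
      (hBs _ hk).mem_open (isOpen_range_left _) ⟨v, rfl⟩
    obtain ⟨t, ht⟩ := exists_pt_over (a ≫ openSubι U₀ B) p₀ v' hv'
    rw [← hσ₀ m, ← ht, ← germ_map, map_comp']
    exact (congrArg (germ η₀ F t) hm).trans (map_zero _)
  have htriv : IsTriv F U σ := by
    refine ⟨hinj, fun W a s w => ?_⟩
    obtain ⟨Ω, _, _, η, hη, hc⟩ := hn (W.hom w)
    obtain ⟨t, ht⟩ := exists_pt_at W η w hη.symm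
    have := hfin Ω η
    have hbij : Function.Bijective fun m => germ η F t (F.obj.map a.op (σ m)) := by
      refine ((injective_iff_map_eq_zero ((germ η F t).comp ((F.obj.map a.op).hom.comp σ))).2
        fun m hm => ?_).bijective_of_nat_card_le hc
      obtain ⟨V, g, t', -, h0⟩ := (germ_eq_zero_iff η F t (F.obj.map a.op (σ m))).1 hm
      exact hinj V (g ≫ a) m ⟨hom η t' default⟩ ((map_comp' F g a _).trans h0)
    obtain ⟨m, hm⟩ := hbij.2 (germ η F t s)
    obtain ⟨V, g, t', ht', h0⟩ := (germ_eq_zero_iff η F t (s - F.obj.map a.op (σ m))).1 (by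
      rw [map_sub, sub_eq_zero]; exact hm.symm)
    rw [map_sub, sub_eq_zero, ← map_comp'] at h0
    exact ⟨V, g, hom η t' default, m, (congrArg (fun q => hom η q default) ht').trans ht, h0⟩
  refine ⟨⟨Set.range U.hom, U.hom.isOpenMap.isOpen_range⟩, ⟨(⟨_, hB⟩ : B.toScheme), hp₀⟩,
    (finiteLocallyConstant_iff _).2 fun x => ?_⟩
  obtain ⟨v, hv⟩ := x.2
  obtain ⟨w, hw⟩ := exists_pull_pt (Scheme.Opens.ι ⟨Set.range U.hom, U.hom.isOpenMap.isOpen_range⟩) x v hv
  obtain ⟨κ', hκ'⟩ := pull_triv (Scheme.Opens.ι ⟨Set.range U.hom, U.hom.isOpenMap.isOpen_range⟩) htriv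
  exact ⟨_, w, _, inferInstance, inferInstance, κ', hw, hκ'⟩

/-- A sheaf with finite stalks is constructible if the loci of given stalk cardinality are locally
constructible. -/
theorem isConstructible_of_countLocus [IsLocallyNoetherian X] {F : EtCoh.Ab X}
    (hfin : ∀ (Ω : Type u) [Field Ω] [IsSepClosed Ω] (ξ : Spec (CommRingCat.of Ω) ⟶ X),
      Finite ((EtCoh.stalk ξ).obj F))
    (h : ∀ n, Topology.IsLocallyConstructible (countLocus F n)) : EtPBC.IsConstructible F := by
  refine (isConstructible_iff_closures F).2 fun x => ?_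
  obtain ⟨Ω, _, _, η, t, ht⟩ := point_over (EtCoh.top X) x
  have hx : η default = x := by
    have : hom η t = η := (Category.comp_id _).symm.trans (Over.w t)
    rwa [this] at ht
  set n := Nat.card ((EtCoh.stalk η).obj F) with hn
  have hxL : x ∈ countLocus F n := ⟨Ω, inferInstance, inferInstance, η, (range_eq_singleton η x).2 hx, rfl⟩
  obtain ⟨W, hW, hxW, hWL⟩ : ∃ W : Set X, IsOpen W ∧ x ∈ W ∧ W ∩ closure {x} ⊆ countLocus F n := by
    obtain ⟨N, hN, hNo, hc⟩ := h n x
    obtain ⟨κ, _, A, hA, -, hAu⟩ := exists_partition hc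
    obtain ⟨k, hk⟩ := Set.mem_iUnion.1 (hAu.ge (show (⟨x, mem_of_mem_nhds hN⟩ : N) ∈ _ from hxL))
    obtain ⟨O, C, hO, hC, hOC⟩ := (hA k).1
    obtain ⟨O', hO', rfl⟩ := hO
    obtain ⟨C', hC', rfl⟩ := isClosed_induced_iff.1 hC
    rw [hOC] at hk
    refine ⟨O' ∩ N, hO'.inter hNo, ⟨hk.1, mem_of_mem_nhds hN⟩, fun y hy => ?_⟩
    have : (⟨y, hy.1.2⟩ : N) ∈ A k := hOC.ge ⟨hy.1.1,
      hC'.closure_subset_iff.2 (Set.singleton_subset_iff.2 hk.2) hy.2⟩
    exact hAu.le (Set.mem_iUnion.2 ⟨k, this⟩)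
  obtain ⟨T, g, hg, hgr⟩ := EtStrat51.exists_immersion (hW.isLocallyClosed.inter (isClosed_closure (s := {x})).isLocallyClosed)
  obtain ⟨t₀, ht₀⟩ : x ∈ Set.range g := hgr.ge ⟨hxW, subset_closure rfl⟩
  have hgen : ∀ t : T, t₀ ⤳ t := fun t => g.isEmbedding.isInducing.specializes_iff.1
    (ht₀.symm ▸ specializes_iff_mem_closure.2 (hgr.le ⟨t, rfl⟩).2)
  have : IrreducibleSpace T := by
    have h := (isIrreducible_singleton (x := t₀)).closure
    rw [Set.eq_univ_of_forall fun t => specializes_iff_mem_closure.1 (hgen t)] at h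
    exact irreducibleSpace_def _ |>.2 h
  have htg : genericPoint T = t₀ :=
    (genericPoint_spec T).eq (isGenericPoint_iff_specializes.2 fun t => by simp [hgen t])
  obtain ⟨ζ, hζ⟩ := exists_lift η g ((range_eq_singleton η x).2 hx ▸ Set.singleton_subset_iff.2 ⟨t₀, ht₀⟩)
  subst hζ
  have hfin' : ∀ (K : Type u) [Field K] [IsSepClosed K] (ξ : Spec (CommRingCat.of K) ⟶ T),
      Finite ((EtCoh.stalk ξ).obj ((EtCoh.pull g).obj F)) := fun K _ _ ξ =>
    have := hfin K (ξ ≫ g)
    Finite.of_surjective _ (theta_bijective g ξ F).surjective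
  have := hfin' Ω ζ
  have hnT : ∀ y : T, y ∈ countLocus ((EtCoh.pull g).obj F) (Nat.card ((EtCoh.stalk ζ).obj ((EtCoh.pull g).obj F))) := by
    intro y
    obtain ⟨K, _, _, ξ, hξ, hc⟩ := hWL (hgr.le ⟨y, rfl⟩)
    have hξ' := (range_eq_singleton ξ _).1 hξ
    obtain ⟨ξ', rfl⟩ := exists_lift ξ g (hξ.le.trans (Set.singleton_subset_iff.2 ⟨y, rfl⟩))
    refine ⟨K, inferInstance, inferInstance, ξ', (range_eq_singleton ξ' y).2 (g.isEmbedding.injective hξ'), ?_⟩
    rw [← Nat.card_congr (Equiv.ofBijective _ (theta_bijective g ξ' F)),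
      ← Nat.card_congr (Equiv.ofBijective _ (theta_bijective g ζ F))]
    exact hc.trans hn
  obtain ⟨O, hO, hflc⟩ := exists_open_flc_of_count ζ
    (by rw [htg]; exact g.isEmbedding.injective (hx.trans ht₀.symm)) hfin' fun y => by
      obtain ⟨K, iK, iK', ξ, hξ, hc⟩ := hnT y
      exact ⟨K, iK, iK', ξ, (range_eq_singleton ξ y).1 hξ, hc.le⟩
  obtain ⟨W', hW', hOW⟩ := g.isEmbedding.isInducing.isOpen_iff.1 O.2
  refine ⟨⟨W ∩ W', hW.inter hW'⟩, O.toScheme, O.ι ≫ g, inferInstance, ⟨hxW, ?_⟩, ?_,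
    flc_of_iso ((EtCore.pullComp O.ι g).app F).symm hflc⟩
  · rw [← ht₀]
    exact hOW.ge (htg ▸ hO)
  · rw [Scheme.Hom.comp_base, TopCat.coe_comp, Set.range_comp, Scheme.Opens.range_ι]
    ext y
    constructor
    · rintro ⟨t, ht, rfl⟩
      have := hgr.le ⟨t, rfl⟩
      exact ⟨⟨this.1, hOW.ge ht⟩, this.2⟩
    · rintro ⟨⟨hyW, hyW'⟩, hy⟩
      obtain ⟨t, rfl⟩ := hgr.ge ⟨hyW, hy⟩
      exact ⟨t, hOW.le hyW', rfl⟩

end Groth.Agent.Cons51
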