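import Groth.Agent.Cons51.ExtZero
import Groth.Agent.Cons51.Noeth

/-!
Torsion sheaves are generated by constructible ones; Noetherian objects.
-/

set_option autoImplicit false
set_option backward.isDefEq.respectTransparency.types false
universe u

open CategoryTheory CategoryTheory.Limits AlgebraicGeometry Topology Opposite
open Groth.Agent.Unr55.EtSh
open scoped ZeroObject

namespace Groth.Agent.Cons51

variable {X : Scheme.{u}} {F : EtCoh.Ab X}

/-- A section killed by `n` comes from `j_! ℤ/n`. -/
theorem exists_genSect (U : X.Etale) (n : ℕ) (σ : EtCoh.sect F U) (hσ : n • σ = 0) :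
    ∃ (f : EtPBC.extZeroConst U (ZMod n) ⟶ F) (g : EtCoh.sect (EtPBC.extZeroConst U (ZMod n)) U),
      f.hom.app (op U) g = σ := by
  let k : ZMod n →+ EtCoh.sect F U := ZMod.lift n ⟨zmultiplesHom _ σ, by simpa using hσ⟩
  let a : AddCommGrpCat.of (ULift.{u + 1} (ZMod n)) ⟶ F.obj.obj (op U) :=
    AddCommGrpCat.ofHom (k.comp AddEquiv.ulift.toAddMonoidHom)
  obtain ⟨A⟩ := (⟨(constantSheafAdj (X.smallEtaleTopology.over U) AddCommGrpCat.{u + 1} Over.mkIdTerminal).comp
    (EtPBC.extZeroAdj U)⟩ : Nonempty (constantSheaf (X.smallEtaleTopology.over U) AddCommGrpCat.{u + 1} ⋙ EtPBC.extZero U ⊣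
      X.smallEtaleTopology.overPullback AddCommGrpCat.{u + 1} U ⋙
        (sheafSections (X.smallEtaleTopology.over U) AddCommGrpCat.{u + 1}).obj (op (Over.mk (𝟙 U)))))
  let e := A.homEquiv (AddCommGrpCat.of (ULift.{u + 1} (ZMod n))) F
  obtain ⟨f, hf⟩ := e.surjective a
  rw [Adjunction.homEquiv_unit] at hf
  have h1 := ConcreteCategory.congr_hom hf (⟨1⟩ : ULift.{u + 1} (ZMod n))
  rw [ConcreteCategory.comp_apply] at h1
  refine ⟨f, A.unit.app (AddCommGrpCat.of (ULift.{u + 1} (ZMod n))) ⟨1⟩, h1.trans ?_⟩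
  show k 1 = σ
  simp only [k, ← Int.cast_one (R := ZMod n), ZMod.lift_coe]
  exact one_zsmul σ

theorem isConstructible_biprod {A B : EtCoh.Ab X} (hA : EtPBC.IsConstructible A) (hB : EtPBC.IsConstructible B) :
    EtPBC.IsConstructible (A ⊞ B) :=
  isConstructible_extension (ShortComplex.mk biprod.inl biprod.snd biprod.inl_snd)
    (ShortComplex.Splitting.ofHasBinaryBiproduct A B).shortExact hA hB

theorem isConstructible_zero : EtPBC.IsConstructible (0 : EtCoh.Ab X) := by
  refine isConstructible_of_iso (IsZero.iso ?_ (isZero_zero _))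
    (isConstructible_of_flc (flc_const (X := X) PUnit.{1}))
  exact (constantSheaf X.smallEtaleTopology AddCommGrpCat.{u + 1}).map_isZero
    (AddCommGrpCat.isZero_of_subsingleton (AddCommGrpCat.of (ULift.{u + 1} PUnit.{1})))

/-- A torsion sheaf which is a Noetherian object is constructible. -/
theorem isConstructible_of_isNoetherianObject [IsNoetherian X] (hF : EtCoh.IsTorsion F)
    [IsNoetherianObject F] : EtPBC.IsConstructible F := by
  let S : Set (Subobject F) := {G | EtPBC.IsConstructible (G : EtCoh.Ab X)}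
  have hbot : (⊥ : Subobject F) ∈ S := isConstructible_of_iso Subobject.botCoeIsoZero.symm isConstructible_zero
  obtain ⟨G, hG, hmax⟩ := (wellFounded_gt (α := Subobject F)).has_min S ⟨⊥, hbot⟩
  suffices Epi G.arrow by
    have := isIso_of_mono_of_epi G.arrow
    exact isConstructible_of_iso (asIso G.arrow) hG
  refine epi_of_stalks _ fun K _ _ η a => ?_
  obtain ⟨U, p, σ, rfl⟩ := exists_germ_eq η F a
  obtain ⟨V, g, ⟨v, hv⟩, hfin⟩ := hF U σ (hom η p default)
  obtain ⟨t, ht⟩ := LocConst45.exists_pt_over g p v hv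
  obtain ⟨B, hB, htB, -⟩ := exists_isAffineOpen_mem_and_subset (X := V.left) (x := hom η t default) (U := ⊤) trivial
  let W := openSub V B
  let τ := F.obj.map (openSubι V B).op (F.obj.map g.op σ)
  have hτ : IsOfFinAddOrder τ := (F.obj.map (openSubι V B).op).hom.isOfFinAddOrder hfin
  obtain ⟨n, hn, hnτ⟩ := (isOfFinAddOrder_iff_nsmul_eq_zero).1 hτ
  have : NeZero n := ⟨hn.ne'⟩
  obtain ⟨f, e, hfe⟩ := exists_genSect W n τ hnτ
  have : Etale W.hom := W.prop
  have hE : EtPBC.IsConstructible (EtPBC.extZeroConst W (ZMod n)) := by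
    have : IsAffine W.left := hB
    have : CompactSpace ↥((Functor.fromPUnit X).obj W.right) := inferInstanceAs (CompactSpace X)
    have : QuasiSeparatedSpace ↥((Functor.fromPUnit X).obj W.right) := inferInstanceAs (QuasiSeparatedSpace X)
    have : IsAffine ((𝟭 Scheme.{u}).obj W.left) := hB
    exact isConstructible_of_iso (nonempty_extZeroConst W (ZMod n)).some.symm
      (isConstructible_extZero W.hom (flc_const (ZMod n)))
  let P := biprod.desc G.arrow f
  let G' := imageSubobject P
  have hG' : G' ∈ S := isConstructible_of_epi (factorThruImageSubobject P) (isConstructible_biprod hG hE)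
  have hle : G ≤ G' := Subobject.le_of_comm (biprod.inl ≫ factorThruImageSubobject P) (by
    rw [Category.assoc, imageSubobject_arrow_comp, biprod.inl_desc])
  have hle' : G' ≤ G := (hle.lt_or_eq.resolve_left (hmax G' hG')).ge
  let l : EtPBC.extZeroConst W (ZMod n) ⟶ (G : EtCoh.Ab X) :=
    biprod.inr ≫ factorThruImageSubobject P ≫ Subobject.ofLE G' G hle'
  have hl : l ≫ G.arrow = f := by
    simp only [l, Category.assoc, Subobject.ofLE_arrow, imageSubobject_arrow_comp, P, G', biprod.inr_desc]
  refine ⟨germ η (G : EtCoh.Ab X) (ptOpen B t htB) (l.hom.app (op W) e), ?_⟩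
  rw [stalk_map_germ]
  refine Eq.trans ?_ ((germ_map η F g t σ).trans (congrArg (fun q => germ η F q σ) ht))
  refine Eq.trans ?_ ((germ_map η F (openSubι V B) (ptOpen B t htB) (F.obj.map g.op σ)).trans
    (congrArg (fun q => germ η F q (F.obj.map g.op σ)) (map_ptOpen B t htB)))
  refine congrArg (germ η F (ptOpen B t htB)) ?_
  exact (congrArg (fun q : EtPBC.extZeroConst W (ZMod n) ⟶ F => q.hom.app (op W) e) hl).trans hfe

end Groth.Agent.Cons51
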