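import Groth.Agent.Cons51.TorsionCoh
import Mathlib.CategoryTheory.Functor.OfSequence
import Mathlib.Data.Nat.Factorial.Basic

/-!
Torsion parts of injective sheaves are acyclic.
-/

set_option autoImplicit false
set_option backward.isDefEq.respectTransparency.types false
universe u

open CategoryTheory CategoryTheory.Limits CategoryTheory.Abelian AlgebraicGeometry Opposite
open Groth.Agent.Unr55.EtSh

namespace Groth.Agent.Cons51

variable {X : Scheme.{u}}

/-- Global sections of an injective sheaf are divisible. -/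
theorem exists_nsmul_eq {G : EtCoh.Ab X} [Injective G] {N : ℕ} (hN : 0 < N)
    (φ : EtCoh.const X ℤ ⟶ G) : ∃ ψ : EtCoh.const X ℤ ⟶ G, N • ψ = φ := by
  let Φ := constantSheaf X.smallEtaleTopology AddCommGrpCat.{u + 1}
  have : PreservesColimitsOfSize.{0, 0} Φ := (constantSheafAdj X.smallEtaleTopology AddCommGrpCat.{u + 1}
    (isTerminalTop X)).leftAdjoint_preservesColimits
  have := preservesBinaryBiproducts_of_preservesBinaryCoproducts Φ
  have : Φ.Additive := Functor.additive_of_preservesBinaryBiproducts Φ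
  let z := AddCommGrpCat.of (ULift.{u + 1} ℤ)
  have : Mono (N • 𝟙 z) := (AddCommGrpCat.mono_iff_injective _).2 fun a b h => by
    have h' : (N • a).down = (N • b).down := congrArg ULift.down h
    exact ULift.ext _ _ (smul_right_injective ℤ hN.ne' h')
  have : Mono ((Functor.const X.Etaleᵒᵖ).map (N • 𝟙 z)) := by
    rw [NatTrans.mono_iff_mono_app]
    exact fun _ => ‹Mono (N • 𝟙 z)›
  have : Mono (Φ.map (N • 𝟙 z)) :=
    inferInstanceAs (Mono ((presheafToSheaf X.smallEtaleTopology AddCommGrpCat.{u + 1}).map ((Functor.const X.Etaleᵒᵖ).map (N • 𝟙 z))))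
  obtain ⟨ψ, hψ⟩ : ∃ ψ, Φ.map (N • 𝟙 z) ≫ ψ = φ := ⟨Injective.factorThru φ _, Injective.comp_factorThru _ _⟩
  refine ⟨ψ, Eq.trans ?_ hψ⟩
  rw [Functor.map_nsmul, Φ.map_id, Preadditive.nsmul_comp, Category.id_comp]

/-- Sections of an injective sheaf are divisible. -/
theorem exists_nsmul_sect (G : EtCoh.Ab X) [Injective G] {N : ℕ} (hN : 0 < N) (W : X.Etale) (σ : EtCoh.sect G W) :
    ∃ τ, N • τ = σ := by
  have : Etale W.hom := W.prop
  have := EtCore45.injective_pull W.hom G
  obtain ⟨ψ, hψ⟩ := exists_nsmul_eq hN ((EtCore45.secPull W G).symm σ)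
  exact ⟨EtCore45.secPull W G ψ, by rw [← map_nsmul, hψ, AddEquiv.apply_symm_apply]⟩

theorem exists_nsmul_stalk (G : EtCoh.Ab X) [Injective G] {N : ℕ} (hN : 0 < N) {K : Type u} [Field K]
    [IsSepClosed K] (η : Spec (CommRingCat.of K) ⟶ X) (a : ((EtCoh.stalk η).obj G : AddCommGrpCat.{u + 1})) :
    ∃ b : ((EtCoh.stalk η).obj G : AddCommGrpCat.{u + 1}), N • b = a := by
  obtain ⟨V, t, σ, rfl⟩ := exists_germ_eq η G a
  obtain ⟨τ, rfl⟩ := exists_nsmul_sect G hN V σ
  exact ⟨germ η G t τ, (map_nsmul _ _ _).symm⟩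

/-- The system `G → G → …` of multiplications by `1, 2, …`. -/
noncomputable def factSeq (G : EtCoh.Ab X) : AsSmall.{u + 1} ℕ ⥤ EtCoh.Ab X :=
  AsSmall.down ⋙ Functor.ofSequence (X := fun _ => G) (fun i => (i + 1) • 𝟙 G)

theorem nsmul_id_comp (G : EtCoh.Ab X) (a b : ℕ) : (a • 𝟙 G) ≫ (b • 𝟙 G) = (b * a) • 𝟙 G := by
  rw [Preadditive.comp_nsmul, Category.comp_id, ← mul_nsmul']

theorem factSeq_map (G : EtCoh.Ab X) : ∀ k : ℕ,
    (Functor.ofSequence (X := fun _ => G) (fun i => (i + 1) • 𝟙 G)).map (homOfLE (Nat.zero_le k)) = k.factorial • 𝟙 G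
  | 0 => (CategoryTheory.Functor.map_id (Functor.ofSequence (X := fun _ => G) (fun i => (i + 1) • 𝟙 G)) (0 : ℕ)).trans
      (one_nsmul (𝟙 G)).symm
  | k + 1 => (congrArg (Functor.ofSequence (X := fun _ => G) (fun i => (i + 1) • 𝟙 G)).map
      (homOfLE_comp (Nat.zero_le k) (Nat.le_succ k)).symm).trans ((Functor.map_comp _ _ _).trans
        ((congrArg₂ (fun (x y : G ⟶ G) => x ≫ y) (factSeq_map G k) (Functor.ofSequence_map_homOfLE_succ _ k)).trans
          (nsmul_id_comp G k.factorial (k + 1))))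

/-- The stage `0`. -/
abbrev stage (k : ℕ) : AsSmall.{u + 1} ℕ := AsSmall.up.obj k

theorem exists_torsion_acyclic [CompactSpace X] [QuasiSeparatedSpace X] {F : EtCoh.Ab X} (hF : EtCoh.IsTorsion F) :
    ∃ (T : EtCoh.Ab X) (v : F ⟶ T), Mono v ∧ EtCoh.IsTorsion T ∧ ∀ q, 1 ≤ q → Subsingleton (EtCoh.H X T q) := by
  let I := Injective.under F
  let D := factSeq I
  let R := colimit D
  let ιk : ℕ → (I ⟶ R) := fun k => colimit.ι D (stage k)
  let r : I ⟶ R := ιk 0
  have : IsFiltered (AsSmall.{u + 1} ℕ) := IsFiltered.of_equivalence (AsSmall.equiv (C := ℕ))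
  let e0 : ∀ k, stage.{u} 0 ⟶ stage k := fun k => AsSmall.up.map (homOfLE (Nat.zero_le k))
  have hmap : ∀ k, (D.map (e0 k) : I ⟶ I) = k.factorial • 𝟙 I := fun k => factSeq_map I k
  have hr : ∀ k, k.factorial • ιk k = r := fun k => by
    refine Eq.trans ?_ ((congrArg (fun g : I ⟶ I => g ≫ ιk k) (hmap k)).symm.trans (colimit.w D (e0 k)))
    rw [Preadditive.nsmul_comp, Category.id_comp]
  have hstalk : ∀ {K : Type u} [Field K] [IsSepClosed K] (η : Spec (CommRingCat.of K) ⟶ X) (k : ℕ)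
      (b : ((EtCoh.stalk η).obj I : AddCommGrpCat.{u + 1})),
      (EtCoh.stalk η).map (ιk k) (k.factorial • b) = (EtCoh.stalk η).map r b := by
    intro K _ _ η k b
    rw [← hr k, Functor.map_nsmul, map_nsmul]
    rfl
  have hepi : Epi r := epi_of_stalks r fun K _ _ η a => by
    have : PreservesColimitsOfSize.{u + 1, u + 1} (EtCoh.stalk η) :=
      (Scheme.pointSmallEtale η).skyscraperSheafAdjunction.leftAdjoint_preservesColimits
    obtain ⟨j, b, rfl⟩ := Concrete.isColimit_exists_rep _ (isColimitOfPreserves (EtCoh.stalk η) (colimit.isColimit D)) a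
    let b' : ((EtCoh.stalk η).obj I : AddCommGrpCat.{u + 1}) := b
    obtain ⟨y, hy⟩ := exists_nsmul_stalk I (Nat.factorial_pos (AsSmall.down.obj j)) η b'
    refine ⟨y, (hstalk η (AsSmall.down.obj j) y).symm.trans ?_⟩
    rw [hy]
    rfl
  let S : ShortComplex (EtCoh.Ab X) := ShortComplex.mk (kernel.ι r) r (kernel.condition r)
  have hS : S.ShortExact := ShortComplex.ShortExact.mk' (ShortComplex.exact_of_f_is_kernel _ (kernelIsKernel r))
    inferInstance hepi
  have hTt : EtCoh.IsTorsion (kernel r) := by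
    refine (isTorsion_iff_stalks _).2 fun K _ _ η a => ?_
    have : PreservesColimitsOfSize.{u + 1, u + 1} (EtCoh.stalk η) :=
      (Scheme.pointSmallEtale η).skyscraperSheafAdjunction.leftAdjoint_preservesColimits
    let b := (EtCoh.stalk η).map (kernel.ι r) a
    have hb : (EtCoh.stalk η).map r b = 0 := by
      rw [← ConcreteCategory.comp_apply, ← Functor.map_comp, kernel.condition, Functor.map_zero]
      rfl
    let hcS := isColimitOfPreserves (EtCoh.stalk η ⋙ forget AddCommGrpCat.{u + 1}) (colimit.isColimit D)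
    let b0 : ((EtCoh.stalk η).obj I : AddCommGrpCat.{u + 1}) := 0
    obtain ⟨j, f, hf⟩ := (Types.FilteredColimit.isColimit_eq_iff' (i := stage 0) hcS b b0).1
      (hb.trans (map_zero ((EtCoh.stalk η).map r).hom).symm)
    have hfe : f = e0 (AsSmall.down.obj j) := ULift.ext _ _ (Subsingleton.elim _ _)
    subst hfe
    let g : I ⟶ I := D.map (e0 (AsSmall.down.obj j))
    have hg : g = (AsSmall.down.obj j).factorial • 𝟙 I := hmap _
    have h2' : (EtCoh.stalk η).map g b = (EtCoh.stalk η).map g b0 := hf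
    have h2 : (EtCoh.stalk η).map g b = 0 := h2'.trans (map_zero ((EtCoh.stalk η).map g).hom)
    rw [hg, Functor.map_nsmul, (EtCoh.stalk η).map_id] at h2
    refine isOfFinAddOrder_iff_nsmul_eq_zero.2 ⟨(AsSmall.down.obj j).factorial, Nat.factorial_pos _, ?_⟩
    refine (AddCommGrpCat.mono_iff_injective ((EtCoh.stalk η).map (kernel.ι r))).1 inferInstance ?_
    rw [map_nsmul, map_zero]
    exact h2
  have hFr : Injective.ι F ≫ r = 0 := by
    refine ObjectProperty.hom_ext _ (NatTrans.ext (funext fun U => ConcreteCategory.hom_ext _ _ fun σ => ?_))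
    refine sect_eq_zero_of_germ R _ fun K _ _ η p => ?_
    let a := (EtCoh.stalk η).map (Injective.ι F) (germ η F p σ)
    obtain ⟨N, hN, h0⟩ := isOfFinAddOrder_iff_nsmul_eq_zero.1 ((isTorsion_iff_stalks F).1 hF K η (germ η F p σ))
    obtain ⟨c, hc⟩ := Nat.dvd_factorial hN le_rfl
    have ha : N.factorial • a = 0 := by
      rw [hc, mul_comm, mul_nsmul']
      show c • N • (EtCoh.stalk η).map (Injective.ι F) (germ η F p σ) = 0
      rw [← map_nsmul, h0, map_zero, smul_zero]
    refine (stalk_map_germ η (Injective.ι F ≫ r) p σ).symm.trans ?_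
    rw [Functor.map_comp, ConcreteCategory.comp_apply]
    exact (hstalk η N a).symm.trans ((congrArg _ ha).trans (map_zero _))
  refine ⟨kernel r, kernel.lift r (Injective.ι F) hFr, ?_, hTt, fun q hq => ?_⟩
  · have : Mono (kernel.lift r (Injective.ι F) hFr ≫ kernel.ι r) := by rw [kernel.lift_ι]; infer_instance
    exact mono_of_mono _ (kernel.ι r)
  refine subsingleton_of_forall_eq 0 fun x => ?_
  obtain ⟨q, rfl⟩ := Nat.exists_eq_add_one.2 hq
  obtain ⟨x₃, rfl⟩ := Ext.covariant_sequence_exact₁ (EtCoh.const X ℤ) hS x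
    (Ext.eq_zero_of_injective (I := I) _) (rfl : q + 1 = q + 1)
  rcases Nat.eq_zero_or_pos q with rfl | hq0
  · have := Unr55.HColim.preservesColimitsOfShape_HF (X := X) (AsSmall.{u + 1} ℕ) 0
    obtain ⟨j, w, hw⟩ := Concrete.isColimit_exists_rep _ (isColimitOfPreserves (EtCoh.HF X 0) (colimit.isColimit D)) x₃
    obtain ⟨φ, rfl⟩ := Ext.addEquiv₀.symm.surjective w
    obtain ⟨ψ, hψ⟩ := exists_nsmul_eq (G := I) (Nat.factorial_pos (AsSmall.down.obj j)) φ
    have e : ψ ≫ r = φ ≫ colimit.ι D j := by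
      rw [← hr (AsSmall.down.obj j), Preadditive.comp_nsmul, ← Preadditive.nsmul_comp, hψ]
      rfl
    have hx : x₃ = (Ext.mk₀ ψ).comp (Ext.mk₀ r) (add_zero 0) := by
      rw [← hw, Ext.mk₀_comp_mk₀, e, ← Ext.mk₀_comp_mk₀]
      rfl
    rw [hx, Ext.comp_assoc_of_second_deg_zero]
    exact (congrArg ((Ext.mk₀ ψ).comp · (zero_add 1)) hS.comp_extClass).trans (Ext.comp_zero _ _ _ _ _)
  · obtain ⟨p, rfl⟩ := Nat.exists_eq_add_one.2 hq0
    have := Unr55.HColim.subsingleton_H_colimit (X := X) (AsSmall.{u + 1} ℕ) D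
      (fun _ => inferInstanceAs (Injective I)) p
    rw [show x₃ = 0 from Subsingleton.elim (α := EtCoh.H X R (p + 1)) _ _]
    exact Ext.zero_comp _ _ _ _ _

/-- Effacement by constructible sheaves. -/
theorem exists_constructible_effacement [CompactSpace X] [QuasiSeparatedSpace X] {F : EtCoh.Ab X}
    (hF : EtPBC.IsConstructible F) {q : ℕ} (hq : 1 ≤ q) (α : EtCoh.H X F q) :
    ∃ (G : EtCoh.Ab X) (v : F ⟶ G), EtPBC.IsConstructible G ∧ Mono v ∧ (EtCoh.HF X q).map v α = 0 := by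
  obtain ⟨N, hN, hk⟩ := exists_killedBy hF
  have hFt : EtCoh.IsTorsion F := fun U s x =>
    ⟨U, 𝟙 U, ⟨x, rfl⟩, isOfFinAddOrder_iff_nsmul_eq_zero.2 ⟨N, hN, by
      rw [← map_nsmul, hk U s, map_zero]⟩⟩
  obtain ⟨T, v, hv, hTt, hT⟩ := exists_torsion_acyclic hFt
  obtain ⟨J, _, _, D, c, hc, ⟨e⟩, hD⟩ := exists_isColimit (generating_of_isTorsion hTt)
  have := preservesColimitsOfShape_coyoneda hF J
  obtain ⟨j, s, hs⟩ := Types.jointly_surjective_of_isColimit (isColimitOfPreserves (coyoneda.obj (op F)) hc) (v ≫ e.inv)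
  have hs' : s ≫ c.ι.app j = v ≫ e.inv := hs
  have := Unr55.HColim.preservesColimitsOfShape_HF (X := X) J q
  let hH := isColimitOfPreserves (EtCoh.HF X q ⋙ forget AddCommGrpCat.{u + 1}) hc
  have h0 : (EtCoh.HF X q).map (c.ι.app j) ((EtCoh.HF X q).map s α) = 0 := by
    rw [← ConcreteCategory.comp_apply, ← Functor.map_comp, hs', Functor.map_comp, ConcreteCategory.comp_apply,
      show (EtCoh.HF X q).map v α = 0 from @Subsingleton.elim _ (hT q hq) _ _, map_zero]
  let z0 : EtCoh.H X (D.obj j) q := 0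
  obtain ⟨k, f, hf⟩ := (Types.FilteredColimit.isColimit_eq_iff' (i := j) hH ((EtCoh.HF X q).map s α) z0).1
    (h0.trans (map_zero ((EtCoh.HF X q).map (c.ι.app j)).hom).symm)
  have hf' : (EtCoh.HF X q).map (D.map f) ((EtCoh.HF X q).map s α) = (EtCoh.HF X q).map (D.map f) z0 := hf
  refine ⟨D.obj k, s ≫ D.map f, hD k, ?_, ?_⟩
  · have : Mono ((s ≫ D.map f) ≫ c.ι.app k ≫ e.hom) := by
      rw [Category.assoc, c.w_assoc, ← Category.assoc, hs', Category.assoc, e.inv_hom_id, Category.comp_id]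
      exact hv
    exact mono_of_mono _ (c.ι.app k ≫ e.hom)
  · rw [Functor.map_comp, ConcreteCategory.comp_apply]
    exact hf'.trans (map_zero ((EtCoh.HF X q).map (D.map f)).hom)

end Groth.Agent.Cons51
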