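import Groth.Agent.LimTop61.HasRoots
import Mathlib.AlgebraicGeometry.Normalization
import Mathlib.AlgebraicGeometry.ResidueField
import Mathlib.FieldTheory.IsAlgClosed.AlgebraicClosure
import Mathlib.FieldTheory.IsSepClosed

/-!
Absolutely integrally closed integral schemes over the closure of a point.
-/

set_option autoImplicit false
set_option backward.isDefEq.respectTransparency.types false
universe u v

open CategoryTheory CategoryTheory.Limits AlgebraicGeometry Polynomial
open Groth.Agent.LimTop61

namespace Groth.Agent.Cons51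

theorem hasRoots_of_ringEquiv {A B : Type u} [CommRing A] [CommRing B] (e : A ≃+* B) (h : HasRoots A) :
    HasRoots B := by
  intro P hP h0
  obtain ⟨a, ha⟩ := h (P.map (e.symm : B →+* A)) (hP.map _) (by
    rw [natDegree_map_eq_of_injective e.symm.injective]; exact h0)
  refine ⟨e a, e.symm.injective ?_⟩
  rw [map_zero, ← ha, Polynomial.eval_map, ← RingEquiv.coe_toRingHom, ← eval₂_at_apply, RingEquiv.coe_toRingHom,
    RingEquiv.symm_apply_apply]

theorem hasRoots_integralClosure {A : Type u} {K : Type u} [CommRing A] [Field K] [IsAlgClosed K] [Algebra A K] :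
    HasRoots (integralClosure A K) := by
  intro P hP h0
  let C := integralClosure A K
  obtain ⟨a, ha⟩ := IsAlgClosed.exists_root (P.map (algebraMap C K))
    (degree_ne_of_natDegree_ne (n := 0) (by rw [hP.natDegree_map]; exact h0))
  have hC : IsIntegral C a := ⟨P, hP, (Polynomial.eval_map _ _).symm.trans ha⟩
  refine ⟨⟨a, isIntegral_trans (R := A) (A := C) a hC⟩, Subtype.ext ?_⟩
  have e := (eval₂_at_apply (algebraMap C K) ⟨a, isIntegral_trans (R := A) (A := C) a hC⟩ (p := P))
  exact e.symm.trans ((Polynomial.eval_map _ _).symm.trans ha)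

theorem isIntegrallyClosed_of_hasRoots {L : Type u} [CommRing L] [IsDomain L] (h : HasRoots L) :
    IsIntegrallyClosed L :=
  (isIntegrallyClosed_iff (FractionRing L)).2 fun {_} hx => h.mem_range_of_isIntegral hx

theorem isSepClosed_residue_of_hasRoots {L : Type u} [CommRing L] [IsLocalRing L] (h : HasRoots L) :
    IsSepClosed (IsLocalRing.ResidueField L) := by
  refine IsSepClosed.of_exists_root _ fun p hp hirr _ => ?_
  obtain ⟨q, hq, hqd, hqm⟩ := lifts_and_natDegree_eq_and_monic (f := IsLocalRing.residue L) (p := p)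
    (map_surjective _ IsLocalRing.residue_surjective p) hp
  obtain ⟨a, ha⟩ := h q hqm (by rw [hqd]; exact hirr.natDegree_pos.ne')
  refine ⟨IsLocalRing.residue L a, ?_⟩
  rw [← hq, Polynomial.eval_map, eval₂_at_apply, ha, map_zero]

variable {X : Scheme.{u}}

/-- An absolutely integrally closed integral scheme, integral over `X`, with generic point over `x`. -/
theorem exists_abs_point [QuasiSeparatedSpace X] (x : X) :
    ∃ (Y : Scheme.{u}) (g : Y ⟶ X) (_ : IsIntegral Y) (_ : IsIntegralHom g), g (genericPoint Y) = x ∧
      (∀ y : Y, IsIntegrallyClosed (Y.presheaf.stalk y)) ∧ IsSepClosed (Y.residueField (genericPoint Y)) := by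
  let Ω := CommRingCat.of (AlgebraicClosure (X.residueField x))
  let f : Spec Ω ⟶ X :=
    Spec.map (CommRingCat.ofHom (algebraMap (X.residueField x) (AlgebraicClosure (X.residueField x)))) ≫
      X.fromSpecResidueField x
  have : QuasiCompact f := quasiCompact_of_compactSpace f
  have hsub : Subsingleton (Spec Ω) := inferInstanceAs (Subsingleton (PrimeSpectrum (AlgebraicClosure (X.residueField x))))
  have key : ∀ y : f.normalization, HasRoots (f.normalization.presheaf.stalk y) ∧
      IsDomain (f.normalization.presheaf.stalk y) := by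
    intro y
    obtain ⟨U, z, rfl⟩ := f.normalizationOpenCover.exists_eq y
    let := (f.app U.1).hom.toAlgebra
    let R := integralClosure Γ(X, U.1) Γ(Spec Ω, f ⁻¹ᵁ U.1)
    let z' : PrimeSpectrum R := z
    have hne : Nonempty (f ⁻¹ᵁ U.1) := by
      by_contra hne
      have hbot : f ⁻¹ᵁ U.1 = ⊥ := TopologicalSpace.Opens.ext (Set.eq_empty_of_forall_notMem fun t ht => hne ⟨⟨t, ht⟩⟩)
      have : Subsingleton Γ(Spec Ω, f ⁻¹ᵁ U.1) := by rw [hbot]; exact CommRingCat.subsingleton_of_isTerminal (Spec Ω).sheaf.isTerminalOfEmpty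
      have : Subsingleton R := Subtype.val_injective.subsingleton
      exact z'.isPrime.ne_top (Subsingleton.elim _ _)
    have htop : f ⁻¹ᵁ U.1 = ⊤ := TopologicalSpace.Opens.ext (Set.eq_univ_of_forall fun t => by
      obtain ⟨⟨s, hs⟩⟩ := hne
      exact hsub.elim s t ▸ hs)
    let e : Γ(Spec Ω, f ⁻¹ᵁ U.1) ≃+* AlgebraicClosure (X.residueField x) :=
      ((Spec Ω).presheaf.mapIso (eqToIso htop).symm.op ≪≫ Scheme.ΓSpecIso Ω).commRingCatIsoToRingEquiv
    have hF : IsField Γ(Spec Ω, f ⁻¹ᵁ U.1) := e.toMulEquiv.isField (Field.toIsField _)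
    let := hF.toField
    have : IsAlgClosed Γ(Spec Ω, f ⁻¹ᵁ U.1) := IsAlgClosed.of_ringEquiv _ _ e.symm
    have : IsDomain R := Subalgebra.isDomain _
    have hR : HasRoots R := hasRoots_integralClosure
    let i : Localization.AtPrime z'.asIdeal ≃+* f.normalization.presheaf.stalk (f.normalizationOpenCover.f U z) :=
      ((Spec.stalkIso (CommRingCat.of R) z').symm ≪≫
        (asIso ((f.normalizationOpenCover.f U).stalkMap z)).symm).commRingCatIsoToRingEquiv
    exact ⟨hasRoots_of_ringEquiv i (hR.localization z'.asIdeal.primeCompl _),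
      have := IsLocalization.isDomain_of_atPrime (Localization.AtPrime z'.asIdeal) z'.asIdeal
      i.symm.toMulEquiv.isDomain _⟩
  have hgen : f.toNormalization default = genericPoint f.normalization := by
    refine ((genericPoint_spec f.normalization).eq ?_).symm
    have hr : Set.range f.toNormalization = {f.toNormalization default} :=
      Set.eq_singleton_iff_unique_mem.2 ⟨⟨_, rfl⟩, by rintro _ ⟨t, rfl⟩; rw [hsub.elim t default]⟩
    have := f.toNormalization.denseRange.closure_range
    rw [hr] at this
    exact this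
  refine ⟨f.normalization, f.fromNormalization, inferInstance, inferInstance, ?_, fun y => ?_, ?_⟩
  · rw [← hgen, ← Scheme.Hom.comp_apply, Scheme.Hom.toNormalization_fromNormalization]
    exact (Scheme.Hom.comp_apply _ _ _).trans (X.fromSpecResidueField_apply x _)
  · have := (key y).2
    exact isIntegrallyClosed_of_hasRoots (key y).1
  · exact isSepClosed_residue_of_hasRoots (key _).1

end Groth.Agent.Cons51
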