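import Groth.Agent.Cons51.SectFinEt
import Groth.Agent.EtCore45.GabberH1
import Groth.Agent.EtCore45.SepClNormal
import Groth.Agent.LimTop61.ShQuot

/-!
Closed subschemes of affine normal integral schemes with separably closed function field are acyclic
for finite locally constant torsion sheaves.
-/

set_option autoImplicit false
set_option backward.isDefEq.respectTransparency.types false
set_option linter.style.haveILetI false
universe u

open CategoryTheory CategoryTheory.Limits CategoryTheory.Abelian AlgebraicGeometry Opposite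

namespace Groth.Agent.Cons51

variable {X : Scheme.{u}}

theorem finEtSections_of_closed [IsAffine X] [IsIntegral X] (hN : ∀ x : X, IsIntegrallyClosed (X.presheaf.stalk x))
    [IsSepClosed X.functionField] {Z : Scheme.{u}} (i : Z ⟶ X) [IsClosedImmersion i] : FinEtSections Z :=
  fun φ _ _ _ => EtCore45.exists_section_finiteEtale hN i φ

theorem finEtSections_of_isEmpty {Z : Scheme.{u}} [IsEmpty Z] : FinEtSections Z := fun {V} φ _ _ _ =>
  ⟨(isInitialOfIsEmpty (X := Z)).to V, (isInitialOfIsEmpty (X := Z)).hom_ext _ _⟩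

theorem isIntegrallyClosed_stalk_open (hN : ∀ x : X, IsIntegrallyClosed (X.presheaf.stalk x)) (U : X.Opens)
    (x : U.toScheme) : IsIntegrallyClosed (U.toScheme.presheaf.stalk x) :=
  have := hN (U.ι x)
  IsIntegrallyClosed.of_equiv (asIso (U.ι.stalkMap x)).commRingCatIsoToRingEquiv

theorem isSepClosed_functionField_open [IsIntegral X] [IsSepClosed X.functionField] (U : X.Opens)
    [Nonempty U.toScheme] : IsSepClosed U.toScheme.functionField := by
  have e : U.ι (genericPoint U.toScheme) = genericPoint X := genericPoint_eq_of_isOpenImmersion U.ι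
  exact LimTop61.isSepClosed_of_ringEquiv
    ((X.presheaf.stalkCongr (.of_eq e.symm)) ≪≫ asIso (U.ι.stalkMap (genericPoint U.toScheme))).commRingCatIsoToRingEquiv

variable {Z : Scheme.{u}}

theorem strictHens_closed (hX : ∀ x : X, EtCoh.IsStrictlyHenselianLocalRing (X.presheaf.stalk x))
    (i : Z ⟶ X) [IsClosedImmersion i] (z : Z) : EtCoh.IsStrictlyHenselianLocalRing (Z.presheaf.stalk z) :=
  EtCore45.strictHens_of_surjective (i.stalkMap z).hom (i.stalkMap_surjective z) (hX (i z))

theorem killedBy_of_nsmul_id {F : EtCoh.Ab Z} {n : ℕ} (h : n • 𝟙 F = 0) : EtCoh.KilledBy n F := fun W s =>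
  ConcreteCategory.congr_hom (congrArg (fun k : F ⟶ F => k.hom.app (op W)) h) s

theorem killedBy_pull {W : Scheme.{u}} (g : W ⟶ Z) {F : EtCoh.Ab Z} {n : ℕ} (hn : EtCoh.KilledBy n F) :
    EtCoh.KilledBy n ((EtCoh.pull g).obj F) := by
  have : (EtCoh.pull g).Additive := (EtCoh.pullPushAdj g).left_adjoint_additive
  refine killedBy_of_nsmul_id ?_
  rw [← CategoryTheory.Functor.map_id, ← Functor.map_nsmul, nsmul_id_eq_zero hn, Functor.map_zero]

variable [IsAffine X] [IsIntegral X] [IsSepClosed X.functionField]
  (hN : ∀ x : X, IsIntegrallyClosed (X.presheaf.stalk x)) (i : Z ⟶ X) [IsClosedImmersion i]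

include hN i in
theorem finEtSections_basicOpen (h : Γ(Z, ⊤)) : FinEtSections (Z.basicOpen h).toScheme := by
  obtain ⟨a, rfl⟩ := (IsClosedImmersion.isAffine_surjective_of_isAffine i).2 h
  have e : Z.basicOpen (i.appTop a) = i ⁻¹ᵁ X.basicOpen a := (Scheme.preimage_basicOpen_top i a).symm
  rw [e]
  intro V φ _ _ _
  by_cases hne : Nonempty (X.basicOpen a).toScheme
  · have : IsAffine (X.basicOpen a).toScheme := (isAffineOpen_top X).basicOpen a
    have := isSepClosed_functionField_open (X.basicOpen a)
    exact finEtSections_of_closed (isIntegrallyClosed_stalk_open hN _) (i ∣_ X.basicOpen a) φ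
  · have : IsEmpty (i ⁻¹ᵁ X.basicOpen a).toScheme := ⟨fun z => hne ⟨(i ∣_ X.basicOpen a) z⟩⟩
    exact finEtSections_of_isEmpty φ

include hN i in
/-- Theorem A. -/
theorem subsingleton_H_closed {F : EtCoh.Ab Z} (hF : EtCoh.IsFiniteLocallyConstant F) {n : ℕ} [NeZero n]
    (hn : EtCoh.KilledBy n F) (q : ℕ) : Subsingleton (EtCoh.H Z F (q + 1)) := by
  have : IsAffine Z := (IsClosedImmersion.isAffine_surjective_of_isAffine i).1
  refine EtCore45.MV.subsingleton_H_of_inj1
    (fun z => strictHens_closed (EtCore45.strictHens_stalk_normal hN) i z) F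
    (EtCore45.MV.inj1_of_hker F fun f g ξ _ _ => ?_) q
  have := subsingleton_H1_flc (finEtSections_basicOpen hN i (f + g))
    (LocConst45.isFiniteLocallyConstant_pull (Z.basicOpen (f + g)).ι hF) (killedBy_pull _ hn)
  exact this.elim _ _

include hN i in
theorem subsingleton_H_closed_const (M : Type) [AddCommGroup M] [Finite M] (q : ℕ) :
    Subsingleton (EtCoh.H Z (EtCoh.const Z M) (q + 1)) := by
  have : NeZero (Nat.card M) := ⟨Nat.card_pos.ne'⟩
  have := (Depth22.const_exact Z).1
  refine subsingleton_H_closed hN i (flc_const M) (n := Nat.card M) (killedBy_of_nsmul_id ?_) q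
  rw [← CategoryTheory.Functor.map_id, ← Functor.map_nsmul]
  refine (congrArg _ ?_).trans (Functor.map_zero _ _ _)
  exact ConcreteCategory.hom_ext _ _ fun m => ULift.ext _ _ (card_nsmul_eq_zero' (G := M))

end Groth.Agent.Cons51
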