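import Groth.Agent.Cons51.TorsionCoh
import Groth.Agent.Cons51.Supp
import Groth.Agent.EtCore45.Recoll
import Groth.Agent.EtCore45.ExtAdjoint
import Groth.Agent.Unr55.GeomCount
import Groth.Agent.Unr55.Et.ZeroDim
import Groth.Agent.Unr55.Et.FinitePushExact
import Groth.Prelude.Def_DCoh2
import Mathlib.FieldTheory.PurelyInseparable.Basic
import Mathlib.CategoryTheory.Limits.Constructions.Filtered
import Mathlib.AlgebraicGeometry.Noetherian

/-!
Sheaves supported on closed points of a scheme of finite type over a separably closed field.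
-/

set_option autoImplicit false
set_option backward.isDefEq.respectTransparency.types false
universe u

open CategoryTheory CategoryTheory.Limits CategoryTheory.Abelian AlgebraicGeometry Topology TopologicalSpace Opposite
open Groth.Agent.Unr55.EtSh Groth.Agent.EtCore45

namespace Groth.Agent.Cons51

variable {X : Scheme.{u}}

theorem finite_of_closed_points {W : Type*} [TopologicalSpace W] [NoetherianSpace W] [QuasiSober W] {C : Set W}
    (hC : IsClosed C) (h : ∀ w ∈ C, IsClosed ({w} : Set W)) : C.Finite := by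
  obtain ⟨S, hS, hcl, hirr, rfl⟩ := NoetherianSpace.exists_finite_set_isClosed_irreducible hC
  refine hS.sUnion fun t ht => ?_
  have hg := (hirr t ht).isGenericPoint_genericPoint (hcl t ht)
  have e : t = {(hirr t ht).genericPoint} := by
    rw [← (h _ ⟨t, ht, hg.mem⟩).closure_eq]
    exact hg.def.symm
  rw [e]
  exact Set.finite_singleton _

theorem isClosed_singleton_etale {W : Scheme.{u}} (g : W ⟶ X) [Etale g] (w : W)
    (h : IsClosed ({g w} : Set X)) : IsClosed ({w} : Set W) := by
  rw [← closure_subset_iff_isClosed]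
  intro y hy
  have hs : w ⤳ y := specializes_iff_mem_closure.2 hy
  have he : g w = g y := by
    have := specializes_iff_mem_closure.1 (hs.map g.continuous)
    rw [h.closure_eq] at this
    exact this.symm
  have := Groth.Agent.Unr55.locallyQuasiFinite_of_formallyUnramified g
  obtain ⟨V, hV, hVb⟩ := isDiscrete_iff_forall_mem_exists_isOpen.1 (g.isDiscrete_preimage_singleton (g y)) y rfl
  exact Set.mem_singleton_iff.2 (hVb.le ⟨hs.mem_open hV (hVb.ge rfl).1, he⟩).symm

theorem isSepClosed_residueField_closed {K : Type u} [Field K] [IsSepClosed K]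
    (a : X ⟶ Spec (CommRingCat.of K)) [LocallyOfFiniteType a] {x : X} (hx : IsClosed ({x} : Set X)) :
    IsSepClosed (X.residueField x) := by
  have : IsClosedImmersion (X.fromSpecResidueField x) := (isClosed_singleton_iff_isClosedImmersion (x := x)).1 hx
  let φ := Spec.preimage (X.fromSpecResidueField x ≫ a)
  have h2 : IsFinite (Spec.map φ) := by
    rw [Spec.map_preimage, isFinite_iff_locallyOfFiniteType_of_jacobsonSpace]
    infer_instance
  have h3 : φ.hom.Finite := (IsFinite.SpecMap_iff φ).1 h2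
  let : Algebra K (X.residueField x) := φ.hom.toAlgebra
  have : Module.Finite K (X.residueField x) := h3
  exact Algebra.IsAlgebraic.isSepClosed (F := K) (E := X.residueField x)

theorem exists_point_scheme {K : Type u} [Field K] [IsSepClosed K]
    (a : X ⟶ Spec (CommRingCat.of K)) [LocallyOfFiniteType a] {x : X} (hx : IsClosed ({x} : Set X)) :
    ∃ (Z : Scheme.{u}) (i : Z ⟶ X) (_ : IsClosedImmersion i), Set.range i = {x} ∧
      ∀ (G : EtCoh.Ab Z) (q : ℕ), 1 ≤ q → Subsingleton (EtCoh.H Z G q) := by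
  let I := Scheme.IdealSheafData.vanishingIdeal ⟨{x}, hx⟩
  have hr : Set.range I.subschemeι = {x} := by
    rw [Scheme.IdealSheafData.range_subschemeι, Scheme.IdealSheafData.coe_support_vanishingIdeal]; rfl
  refine ⟨I.subscheme, I.subschemeι, inferInstance, hr, fun G q hq => ?_⟩
  have hsub : Subsingleton I.subscheme := ⟨fun s t => I.subschemeι.isEmbedding.injective
    ((hr.le ⟨s, rfl⟩ : I.subschemeι s = x).trans (hr.le ⟨t, rfl⟩ : I.subschemeι t = x).symm)⟩
  obtain ⟨z, -⟩ : x ∈ Set.range I.subschemeι := hr.ge rfl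
  obtain ⟨W, hW, hzW, -⟩ := exists_isAffineOpen_mem_and_subset (X := I.subscheme) (x := z) (U := ⊤) trivial
  have hWt : W = ⊤ := TopologicalSpace.Opens.ext (Set.eq_univ_of_forall fun t => hsub.elim t z ▸ hzW)
  subst hWt
  have : IsAffine (⊤ : I.subscheme.Opens).toScheme := hW
  have : IsAffine I.subscheme := IsAffine.of_isIso I.subscheme.topIso.inv
  have hcl : ∀ s : I.subscheme, IsClosed ({s} : Set I.subscheme) := fun s => by
    rw [Set.eq_univ_of_forall fun t => Set.mem_singleton_iff.2 (hsub.elim t s)]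
    exact isClosed_univ
  exact H_subsingleton_zeroDim I.subscheme hcl
    (fun s => isSepClosed_residueField_closed (I.subschemeι ≫ a) (hcl s)) G q hq

/-- The open complement of a closed point. -/
def comp1 {x : X} (hx : IsClosed ({x} : Set X)) : X.Opens := ⟨({x} : Set X)ᶜ, hx.isOpen_compl⟩

/-- The sections supported at a closed point. -/
noncomputable abbrev sub1 (F : EtCoh.Ab X) {x : X} (hx : IsClosed ({x} : Set X)) : EtCoh.Ab X :=
  kernel ((EtCoh.pullPushAdj (comp1 hx).ι).unit.app F)

theorem isZero_pull_sub1 (F : EtCoh.Ab X) {x : X} (hx : IsClosed ({x} : Set X)) :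
    IsZero ((EtCoh.pull (comp1 hx).ι).obj (sub1 F hx)) := by
  let j := (comp1 hx).ι
  have := preservesFiniteLimits_pull j
  have := (EtCoh.pullPushAdj j).left_adjoint_additive
  have := isIso_pull_unit_open j F
  have h0 : (EtCoh.pull j).map (kernel.ι ((EtCoh.pullPushAdj j).unit.app F)) = 0 := by
    rw [← cancel_mono ((EtCoh.pull j).map ((EtCoh.pullPushAdj j).unit.app F)), ← Functor.map_comp,
      kernel.condition, zero_comp, Functor.map_zero]
  exact IsZero.of_mono_eq_zero _ h0

theorem isZero_stalk_sub1 (F : EtCoh.Ab X) {x : X} (hx : IsClosed ({x} : Set X)) {Ω : Type u} [Field Ω]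
    [IsSepClosed Ω] (η : Spec (CommRingCat.of Ω) ⟶ X) (h : η default ≠ x) :
    IsZero ((EtCoh.stalk η).obj (sub1 F hx)) := by
  obtain ⟨v, rfl⟩ := exists_above (comp1 hx).ι η (by rw [Scheme.Opens.range_ι]; exact h)
  have := AddCommGrpCat.subsingleton_of_isZero ((EtCoh.stalk v).map_isZero (isZero_pull_sub1 F hx))
  exact @AddCommGrpCat.isZero_of_subsingleton _ (theta_bijective (comp1 hx).ι v _).injective.subsingleton

theorem subsingleton_H_sub1 {K : Type u} [Field K] [IsSepClosed K] (a : X ⟶ Spec (CommRingCat.of K))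
    [LocallyOfFiniteType a] (F : EtCoh.Ab X) {x : X} (hx : IsClosed ({x} : Set X)) (q : ℕ) (hq : 1 ≤ q) :
    IsZero ((EtCoh.HF X q).obj (sub1 F hx)) := by
  obtain ⟨Z, i, hi, hr, hH⟩ := exists_point_scheme a hx
  let j := (comp1 hx).ι
  let A := sub1 F hx
  have hZU : Set.range j = (Set.range i)ᶜ := by rw [hr, Scheme.Opens.range_ι]; rfl
  have := isIso_pull_unit_closed i A
  have : IsIso ((EtCoh.pull j).map ((EtCoh.pullPushAdj i).unit.app A)) :=
    isIso_of_source_target_iso_zero _ (isZero_pull_sub1 F hx).isoZero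
      (isZero_pull_push i j hZU _).isoZero
  have := isIso_of_pulls i j hZU ((EtCoh.pullPushAdj i).unit.app A)
  refine IsZero.of_iso ?_ ((EtCoh.HF X q).mapIso (asIso ((EtCoh.pullPushAdj i).unit.app A)))
  have := hH ((EtCoh.pull i).obj A) q hq
  have := preservesFiniteLimits_pull i
  have hb := adjTransfer_bijective.{u + 1} (EtCoh.pullPushAdj i) (EtCore.pullConst i ℤ).inv q
    ((EtCoh.pull i).obj A) (fun p hp => isZero_Rpush_of_finite i _ p hp)
  exact @AddCommGrpCat.isZero_of_subsingleton _ hb.1.subsingleton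

theorem isClosed_singleton_of_notMem_vanishing {F : EtCoh.Ab X} (hF : ∀ x ∈ EtPBC.supp F, IsClosed ({x} : Set X))
    {W : X.Etale} (σ : EtCoh.sect F W) {w : W.left} (h : w ∉ vanishing F σ) : IsClosed ({w} : Set W.left) := by
  have : Etale W.hom := W.prop
  refine isClosed_singleton_etale W.hom w (hF _ ?_)
  obtain ⟨K', _, _, η', t', ht'⟩ := point_over W w
  have hy : η' default = W.hom w := by
    have e : hom η' t' ≫ W.hom = η' := Over.w t'
    rw [← e, Scheme.Hom.comp_apply, ht']
  refine ⟨K', inferInstance, inferInstance, η', (range_eq_singleton η' _).2 hy, fun hz => h ?_⟩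
  have := AddCommGrpCat.subsingleton_of_isZero hz
  obtain ⟨V, g, t, h1, h2⟩ := (germ_eq_zero_iff η' F t' σ).1 (Subsingleton.elim _ _)
  refine range_le_vanishing F σ g h2 ⟨hom η' t default, ?_⟩
  rw [← ht', ← h1]
  rfl

theorem exists_sub1_germ [IsLocallyNoetherian X] {F : EtCoh.Ab X}
    (hF : ∀ x ∈ EtPBC.supp F, IsClosed ({x} : Set X)) {x : X} (hx : IsClosed ({x} : Set X)) {Ω : Type u} [Field Ω]
    [IsSepClosed Ω] (η : Spec (CommRingCat.of Ω) ⟶ X) (h : η default = x)
    (a : ((EtCoh.stalk η).obj F : AddCommGrpCat.{u + 1})) :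
    ∃ b, (EtCoh.stalk η).map (kernel.ι ((EtCoh.pullPushAdj (comp1 hx).ι).unit.app F)) b = a := by
  let j := (comp1 hx).ι
  let u : F ⟶ (EtCoh.push j).obj ((EtCoh.pull j).obj F) := (EtCoh.pullPushAdj j).unit.app F
  obtain ⟨W, hW, p, σ, rfl⟩ := exists_germ_affine η F a
  have : Etale W.hom := W.prop
  let wh : W.left ⟶ X := W.hom
  have : Etale wh := W.prop
  have : IsLocallyNoetherian W.left := LocallyOfFiniteType.isLocallyNoetherian wh
  have : IsNoetherian W.left := { }
  have hfin : (((vanishing F σ : Set W.left))ᶜ).Finite :=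
    finite_of_closed_points (vanishing F σ).2.isClosed_compl fun w hw => isClosed_singleton_of_notMem_vanishing hF σ hw
  let D : Set W.left := {w | w ∉ vanishing F σ ∧ W.hom w ≠ x}
  have hD : IsClosed D := by
    rw [← Set.biUnion_of_singleton D]
    exact (hfin.subset fun w hw => hw.1).isClosed_biUnion fun w hw =>
      isClosed_singleton_of_notMem_vanishing hF σ hw.1
  let O : W.left.Opens := ⟨Dᶜ, hD.isOpen_compl⟩
  have hp : hom η p default ∈ O := fun hd => hd.2 (by
    have e : hom η p ≫ W.hom = η := Over.w p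
    rw [← Scheme.Hom.comp_apply, e, h])
  let B := openSub W O
  let s : EtCoh.sect F B := F.obj.map (openSubι W O).op σ
  have hs : u.hom.app (op B) s = 0 := by
    refine sect_eq_zero_of_germ ((EtCoh.pull j).obj F) (U := (EtCoh.bc j).obj B) (u.hom.app (op B) s) fun K _ _ η' t => ?_
    rw [← ptUp_ptDown j η' t, ← theta_germ]
    refine (congrArg (theta j η' F) ?_).trans (map_zero _)
    let s0 := ptDown j η' t
    refine (germ_map (η' ≫ j) F (openSubι W O) s0 σ).trans (germ_eq_zero_of_mem_vanishing F _ _ σ ?_)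
    by_contra hv
    let w : O.toScheme := hom (η' ≫ j) s0 default
    refine w.2 ⟨hv, ?_⟩
    have e : hom (η' ≫ j) s0 ≫ B.hom = η' ≫ j := Over.w s0
    have e' : B.hom (hom (η' ≫ j) s0 default) = j (η' default) := by
      rw [← Scheme.Hom.comp_apply, e, Scheme.Hom.comp_apply]
    show B.hom (hom (η' ≫ j) s0 default) ≠ x
    rw [e']
    exact (η' default).2
  have hex := (ShortComplex.ab_exact_iff _).1
    ((ShortComplex.exact_of_f_is_kernel (ShortComplex.mk (kernel.ι u) u (kernel.condition u))
      (kernelIsKernel u)).map (EtCoh.stalk η))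
  obtain ⟨b, hb⟩ := hex (germ η F (ptOpen O p hp) s) (by
    show (EtCoh.stalk η).map u (germ η F (ptOpen O p hp) s) = 0
    refine (stalk_map_germ η u (ptOpen O p hp) s).trans ?_
    rw [hs]
    exact map_zero _)
  refine ⟨b, hb.trans ?_⟩
  refine (germ_map η F (openSubι W O) (ptOpen O p hp) σ).trans ?_
  rw [map_ptOpen]

theorem subsingleton_H_of_supp_closed_points {K : Type u} [Field K] [IsSepClosed K]
    (a : X ⟶ Spec (CommRingCat.of K)) [LocallyOfFiniteType a] [QuasiCompact a] (F : EtCoh.Ab X)
    (hF : ∀ x ∈ EtPBC.supp F, IsClosed ({x} : Set X)) (q : ℕ) (hq : 1 ≤ q) :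
    Subsingleton (EtCoh.H X F q) := by
  have : IsLocallyNoetherian X := LocallyOfFiniteType.isLocallyNoetherian a
  have : CompactSpace X := QuasiCompact.compactSpace_of_compactSpace a
  let α : Type (u + 1) := ULift.{u + 1} (EtPBC.supp F)
  let hc : ∀ x : α, IsClosed ({x.down.1} : Set X) := fun x => hF x.down.1 x.down.2
  let A : α → EtCoh.Ab X := fun x => sub1 F (hc x)
  let p : ∐ A ⟶ F := Sigma.desc fun x => kernel.ι ((EtCoh.pullPushAdj (comp1 (hc x)).ι).unit.app F)
  have : IsIso p := by
    refine isIso_of_stalks p fun Ω _ _ η => ?_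
    have : PreservesColimitsOfSize.{u + 1, u + 1} (EtCoh.stalk η) :=
      (Scheme.pointSmallEtale η).skyscraperSheafAdjunction.leftAdjoint_preservesColimits
    let hcs := isColimitOfPreserves (EtCoh.stalk η) (coproductIsCoproduct A)
    by_cases hx0 : η default ∈ EtPBC.supp F
    · let x0 : α := ⟨⟨η default, hx0⟩⟩
      have hepi : Epi ((EtCoh.stalk η).map (Sigma.ι A x0)) := ⟨fun g h hgh => hcs.hom_ext fun ⟨x⟩ => by
        by_cases hxx : x = x0
        · subst hxx; exact hgh
        · exact (isZero_stalk_sub1 F (hc x) η (fun e => hxx (ULift.ext _ _ (Subtype.ext e.symm)))).eq_of_src _ _⟩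
      have hsur := (AddCommGrpCat.epi_iff_surjective _).1 hepi
      have hcomp : ∀ w, (EtCoh.stalk η).map p ((EtCoh.stalk η).map (Sigma.ι A x0) w) =
          (EtCoh.stalk η).map (kernel.ι ((EtCoh.pullPushAdj (comp1 (hc x0)).ι).unit.app F)) w := fun w => by
        rw [← ConcreteCategory.comp_apply, ← Functor.map_comp, Sigma.ι_desc]
      refine ⟨fun z z' hz => ?_, fun t => ?_⟩
      · obtain ⟨w, rfl⟩ := hsur z
        obtain ⟨w', rfl⟩ := hsur z'
        rw [hcomp, hcomp] at hz
        exact congrArg _ ((AddCommGrpCat.mono_iff_injective _).1 inferInstance hz)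
      · obtain ⟨b, hb⟩ := exists_sub1_germ hF (hc x0) η rfl t
        exact ⟨_, (hcomp b).trans hb⟩
    · have hzF : IsZero ((EtCoh.stalk η).obj F) := by
        by_contra hne
        exact hx0 ⟨Ω, inferInstance, inferInstance, η, (range_eq_singleton η _).2 rfl, hne⟩
      have hzA : IsZero ((EtCoh.stalk η).obj (∐ A)) := (IsZero.iff_id_eq_zero _).2 (hcs.hom_ext fun ⟨x⟩ =>
        (isZero_stalk_sub1 F (hc x) η (fun e => hx0 (e ▸ x.down.2))).eq_of_src _ _)
      have := AddCommGrpCat.subsingleton_of_isZero hzF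
      have := AddCommGrpCat.subsingleton_of_isZero hzA
      exact ⟨fun z z' _ => Subsingleton.elim _ _, fun t => ⟨0, Subsingleton.elim _ _⟩⟩
  suffices IsZero ((EtCoh.HF X q).obj (∐ A)) from
    AddCommGrpCat.subsingleton_of_isZero (this.of_iso ((EtCoh.HF X q).mapIso (asIso p).symm))
  have := Unr55.HColim.preservesColimitsOfShape_HF (X := X) (Finset (Discrete α)) q
  let hcH := isColimitOfPreserves (EtCoh.HF X q) (CoproductsFromFiniteFiltered.isColimitFiniteSubproductsCocone A)
  refine (IsZero.iff_id_eq_zero _).2 (hcH.hom_ext fun S => ?_)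
  refine IsZero.eq_of_src ?_ _ _
  have := DCoh.additive_HF (X := X) q
  have : PreservesFiniteCoproducts (EtCoh.HF X q) := inferInstance
  have : PreservesColimitsOfShape (Discrete (Fin (Nat.card (S : Finset (Discrete α))))) (EtCoh.HF X q) :=
    PreservesFiniteCoproducts.preserves _
  have : PreservesColimitsOfShape (Discrete (S : Finset (Discrete α))) (EtCoh.HF X q) :=
    preservesColimitsOfShape_of_equiv (Discrete.equivalence (Finite.equivFin (S : Finset (Discrete α))).symm) _
  let hS := isColimitOfPreserves (EtCoh.HF X q) (colimit.isColimit (Discrete.functor fun y : S => A y.1.as))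
  exact (IsZero.iff_id_eq_zero _).2 (hS.hom_ext fun ⟨y⟩ => (subsingleton_H_sub1 a F (hc y.1.as) q hq).eq_of_src _ _)

end Groth.Agent.Cons51
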