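import Groth.Agent.Cons51.Colim
import Groth.Agent.Cons51.Supp

/-!
Filtered systems of constructible sheaves with prescribed supports.
-/

set_option autoImplicit false
set_option backward.isDefEq.respectTransparency.types false
universe u

open CategoryTheory CategoryTheory.Limits AlgebraicGeometry Topology Opposite
open Groth.Agent.Unr55.EtSh
open scoped ZeroObject
open Groth.Agent.FlatMor66 (isClopen_constructibleTopology_of_isConstructible)

namespace Groth.Agent.Cons51

variable {X : Scheme.{u}}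

theorem supp_subset_of_epi {A B : EtCoh.Ab X} (p : A ⟶ B) [Epi p] : EtPBC.supp B ⊆ EtPBC.supp A := by
  rintro x ⟨Ω, _, _, ξ, hξ, hne⟩
  refine ⟨Ω, inferInstance, inferInstance, ξ, hξ, fun hz => hne ?_⟩
  exact hz.of_epi ((EtCoh.stalk ξ).map p)

theorem supp_subset_of_mono {A B : EtCoh.Ab X} (i : A ⟶ B) [Mono i] : EtPBC.supp A ⊆ EtPBC.supp B := by
  rintro x ⟨Ω, _, _, ξ, hξ, hne⟩
  refine ⟨Ω, inferInstance, inferInstance, ξ, hξ, fun hz => hne ?_⟩
  exact hz.of_mono ((EtCoh.stalk ξ).map i)

theorem supp_biprod {A B : EtCoh.Ab X} : EtPBC.supp (A ⊞ B) ⊆ EtPBC.supp A ∪ EtPBC.supp B := by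
  rintro x ⟨Ω, _, _, ξ, hξ, hne⟩
  by_contra hx
  simp only [Set.mem_union, not_or] at hx
  have hA : IsZero ((EtCoh.stalk ξ).obj A) := by
    by_contra h; exact hx.1 ⟨Ω, inferInstance, inferInstance, ξ, hξ, h⟩
  have hB : IsZero ((EtCoh.stalk ξ).obj B) := by
    by_contra h; exact hx.2 ⟨Ω, inferInstance, inferInstance, ξ, hξ, h⟩
  refine hne ((IsZero.iff_id_eq_zero _).2 ?_)
  rw [← (EtCoh.stalk ξ).map_id, ← biprod.total, Functor.map_add, Functor.map_comp, Functor.map_comp,
    hA.eq_of_tgt ((EtCoh.stalk ξ).map biprod.fst) 0, hB.eq_of_tgt ((EtCoh.stalk ξ).map biprod.snd) 0,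
    zero_comp, zero_comp, add_zero]

theorem supp_zero : EtPBC.supp (0 : EtCoh.Ab X) = ∅ :=
  Set.eq_empty_iff_forall_notMem.2 fun _ ⟨_, _, _, ξ, _, hne⟩ => hne ((EtCoh.stalk ξ).map_isZero (isZero_zero _))

/-- Constructible with support inside a closed set satisfying `Q`. -/
def SuppIn (Q : Set X → Prop) (G : EtCoh.Ab X) : Prop :=
  EtPBC.IsConstructible G ∧ ∃ Z : Set X, IsClosed Z ∧ Q Z ∧ EtPBC.supp G ⊆ Z

theorem generating_suppIn [CompactSpace X] [QuasiSeparatedSpace X] {F : EtCoh.Ab X} {Q : Set X → Prop}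
    (h0 : Q ∅) (hu : ∀ s t, Q s → Q t → Q (s ∪ t))
    (hgerm : ∀ (K : Type u) [Field K] [IsSepClosed K] (η : Spec (CommRingCat.of K) ⟶ X)
      (a : ((EtCoh.stalk η).obj F : AddCommGrpCat.{u + 1})),
      ∃ (G : EtCoh.Ab X) (_ : SuppIn Q G) (t : G ⟶ F), ∃ b, (EtCoh.stalk η).map t b = a) :
    Generating F (SuppIn Q) where
  cons _ h := h.1
  iso G H he h := by
    obtain ⟨e⟩ := he
    obtain ⟨hc, Z, hZ, hQ, hs⟩ := h
    exact ⟨isConstructible_of_iso e hc, Z, hZ, hQ, (supp_subset_of_epi e.hom).trans hs⟩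
  zero := ⟨isConstructible_zero, ∅, isClosed_empty, h0, by rw [supp_zero]⟩
  sum A B hA hB := by
    obtain ⟨hc, Z, hZ, hQ, hs⟩ := hA
    obtain ⟨hc', Z', hZ', hQ', hs'⟩ := hB
    exact ⟨isConstructible_biprod hc hc', Z ∪ Z', hZ.union hZ', hu _ _ hQ hQ',
      supp_biprod.trans (Set.union_subset_union hs hs')⟩
  quot A B φ hA hB := by
    obtain ⟨hc, Z, hZ, hQ, hs⟩ := hB
    exact ⟨(isConstructible_kernel_cokernel φ hA hc).2, Z, hZ, hQ, (supp_subset_of_epi (cokernel.π φ)).trans hs⟩
  germ := hgerm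

theorem exists_specializes_of_supp [CompactSpace X] [QuasiSeparatedSpace X] {G : EtCoh.Ab X}
    (hG : EtPBC.IsConstructible G) {x : X} (hx : x ∈ closure (EtPBC.supp G)) :
    ∃ e ∈ EtPBC.supp G, e ⤳ x := by
  have : SpectralSpace X := { }
  exact SpecSp50.exists_specializes_of_mem_closure
    ((@isOpen_compl_iff X (EtPBC.supp G) (constructibleTopology X)).1
      (isClopen_constructibleTopology_of_isConstructible
        (isLocallyConstructible_supp G hG).isConstructible).2) hx

theorem exists_specStable_germ [IsNoetherian X] {E : Set X} (hE : StableUnderSpecialization E) {F : EtCoh.Ab X}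
    (hF : EtCoh.IsTorsion F) (hsupp : EtPBC.supp F ⊆ E) :
    Generating F (SuppIn fun Z => Z ⊆ E) := by
  refine generating_suppIn (Set.empty_subset _) (fun _ _ => Set.union_subset) fun K _ _ η a => ?_
  obtain ⟨G, hG, t, b, hb⟩ := (generating_of_isTorsion hF).germ K η a
  let I := Limits.image t
  have hI : EtPBC.IsConstructible I := isConstructible_of_epi (Limits.factorThruImage t) hG
  refine ⟨I, ⟨hI, closure (EtPBC.supp I), isClosed_closure, fun x hx => ?_, subset_closure⟩, Limits.image.ι t,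
    (EtCoh.stalk η).map (Limits.factorThruImage t) b, ?_⟩
  · obtain ⟨e, he, hex⟩ := exists_specializes_of_supp hI hx
    exact hE hex (hsupp (supp_subset_of_mono (Limits.image.ι t) he))
  · rw [← ConcreteCategory.comp_apply, ← Functor.map_comp, Limits.image.fac, hb]

/-- If the sections of a quotient of `j_! ℤ/n` have vanishing germs, so does the quotient. -/
theorem stalk_map_eq_zero {W : X.Etale} {n : ℕ} {g : EtCoh.sect (EtPBC.extZeroConst W (ZMod n)) W}
    (hg : ∀ F : EtCoh.Ab X, Function.Injective fun f : EtPBC.extZeroConst W (ZMod n) ⟶ F => f.hom.app (op W) g)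
    {G : EtCoh.Ab X} (f : EtPBC.extZeroConst W (ZMod n) ⟶ G) {K : Type u} [Field K] [IsSepClosed K]
    (η : Spec (CommRingCat.of K) ⟶ X) (h : ∀ p : Pt η W, germ η G p (f.hom.app (op W) g) = 0) :
    (EtCoh.stalk η).map f = 0 := by
  let Φ := Scheme.pointSmallEtale η
  let M := (EtCoh.stalk η).obj G
  let E := EtPBC.extZeroConst W (ZMod n)
  apply (Φ.skyscraperSheafAdjunction.homEquiv E M).injective
  apply hg
  have key : ∀ (k : (EtCoh.stalk η).obj E ⟶ M) (p : Pt η W),
      Pi.π (fun _ : Pt η W => M) p ((Φ.skyscraperSheafAdjunction.homEquiv E M k).hom.app (op W) g) =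
        k (germ η E p g) := by
    intro k p
    have h1 := Φ.skyscraperSheafAdjunction_homEquiv_apply_hom (F := E) (M := M) k
    have h2 : (Φ.skyscraperSheafAdjunction.homEquiv E M k).hom.app (op W) ≫ Pi.π (fun _ : Pt η W => M) p =
        Φ.toPresheafFiber W p E.obj ≫ k :=
      (congrArg (fun (N : _ ⟶ Φ.skyscraperPresheaf M) => N.app (op W) ≫ Pi.π (fun _ : Pt η W => M) p) h1).trans
        (Φ.skyscraperPresheafHomEquiv_app_π k _ p)
    exact ConcreteCategory.congr_hom h2 g
  refine Concrete.limit_ext (Discrete.functor fun _ : Pt η W => M) _ _ fun ⟨p⟩ => ?_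
  refine (key _ p).trans ((Eq.trans ?_ (key 0 p).symm))
  rw [stalk_map_germ, h p]
  rfl

theorem exists_generic_germ [CompactSpace X] [QuasiSeparatedSpace X] [IrreducibleSpace X] {F : EtCoh.Ab X}
    (hF : EtCoh.IsTorsion F) (hη : genericPoint X ∉ EtPBC.supp F) :
    Generating F (SuppIn fun Z => genericPoint X ∉ Z) := by
  refine generating_suppIn (Set.notMem_empty _) (fun s t hs ht h => h.elim hs ht) fun K _ _ η a => ?_
  obtain ⟨U, p, σ, rfl⟩ := exists_germ_eq η F a
  obtain ⟨V, g, ⟨v, hv⟩, hfin⟩ := hF U σ (hom η p default)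
  obtain ⟨t, ht⟩ := LocConst45.exists_pt_over g p v hv
  obtain ⟨B, hB, htB, -⟩ :=
    exists_isAffineOpen_mem_and_subset (X := V.left) (x := hom η t default) (U := ⊤) trivial
  obtain ⟨n, hn, hnτ⟩ := (isOfFinAddOrder_iff_nsmul_eq_zero).1
    ((F.obj.map (openSubι V B).op).hom.isOfFinAddOrder hfin)
  let W := openSub V B
  let τ : EtCoh.sect F W := F.obj.map (openSubι V B).op (F.obj.map g.op σ)
  have hτp : germ η F (ptOpen B t htB) τ = germ η F p σ := by
    refine (germ_map η F (openSubι V B) (ptOpen B t htB) _).trans ?_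
    rw [map_ptOpen, germ_map, ht]
  have : NeZero n := ⟨hn.ne'⟩
  have hWa : IsAffine W.left := hB
  let wh : W.left ⟶ X := W.hom
  have : Etale wh := W.prop
  have : QuasiCompact wh := quasiCompact_of_compactSpace wh
  have : LocallyQuasiFinite wh := Unr55.locallyQuasiFinite_of_formallyUnramified wh
  have hfib : (W.hom ⁻¹' {genericPoint X}).Finite := wh.finite_preimage_singleton _
  have hV : ∀ y : (W.hom ⁻¹' {genericPoint X} : Set W.left), ∃ (A : X.Etale) (_ : IsAffine A.left) (q : A ⟶ W),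
      (∃ w, q.left w = y.1) ∧ F.obj.map q.op τ = 0 := by
    intro y
    obtain ⟨K', _, _, η', p', hp'⟩ := point_over W y.1
    have hy : η' default = genericPoint X := by
      have e : hom η' p' ≫ W.hom = η' := Over.w p'
      rw [← e, Scheme.Hom.comp_apply, hp']
      exact y.2
    have hz : IsZero ((EtCoh.stalk η').obj F) := by
      by_contra hne
      exact hη ⟨K', inferInstance, inferInstance, η', (range_eq_singleton η' _).2 hy, hne⟩
    have := AddCommGrpCat.subsingleton_of_isZero hz
    obtain ⟨A, q, t', h1, h2⟩ := (germ_eq_zero_iff η' F p' τ).1 (Subsingleton.elim _ _)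
    obtain ⟨C, hC, htC, -⟩ :=
      exists_isAffineOpen_mem_and_subset (X := A.left) (x := hom η' t' default) (U := ⊤) trivial
    refine ⟨openSub A C, hC, openSubι A C ≫ q, ⟨hom η' (ptOpen C t' htC) default, ?_⟩, ?_⟩
    · have e1 := congrArg (fun r => hom η' r default) (map_ptOpen C t' htC)
      have e2 := congrArg (fun r => hom η' r default) h1
      refine Eq.trans ?_ ((e2.trans hp'))
      exact congrArg q.left e1
    · rw [op_comp, Functor.map_comp, ConcreteCategory.comp_apply, h2, map_zero]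
  choose A hA q hq hqτ using hV
  have : Finite (W.hom ⁻¹' {genericPoint X} : Set W.left) := hfib.to_subtype
  obtain ⟨m, ⟨e⟩⟩ := Finite.exists_equiv_fin (W.hom ⁻¹' {genericPoint X} : Set W.left)
  obtain ⟨γ, hγ, hu⟩ := exists_universal W n
  choose γ' hγ' hu' using fun i : Fin m => exists_universal (A (e.symm i)) n
  choose h hh using fun i : Fin m => (hu' i (EtPBC.extZeroConst W (ZMod n))).1
    ((EtPBC.extZeroConst W (ZMod n)).obj.map (q (e.symm i)).op γ) (by rw [← map_nsmul, hγ, map_zero])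
  let R : (⨁ fun i => EtPBC.extZeroConst (A (e.symm i)) (ZMod n)) ⟶ EtPBC.extZeroConst W (ZMod n) :=
    biproduct.desc h
  obtain ⟨f, hf⟩ := (hu F).1 τ hnτ
  have hRf : R ≫ f = 0 := biproduct.hom_ext' _ _ fun i => by
    rw [biproduct.ι_desc_assoc, comp_zero]
    refine (hu' i F).2 ?_
    show f.hom.app _ ((h i).hom.app _ (γ' i)) = _
    rw [hh i]
    refine (NatTrans.naturality_apply f.hom (q (e.symm i)).op γ).trans ?_
    rw [hf, hqτ]
    rfl
  have hG : EtPBC.IsConstructible (cokernel R) :=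
    (isConstructible_kernel_cokernel R (isConstructible_biproduct_fin _ fun i => by
      have := hA (e.symm i); exact isConstructible_genObj _ n) (isConstructible_genObj W n)).2
  have hgen : genericPoint X ∉ EtPBC.supp (cokernel R) := by
    rintro ⟨K', _, _, η', hη', hne⟩
    have hy := (range_eq_singleton η' _).1 hη'
    have h0 : (EtCoh.stalk η').map (cokernel.π R) = 0 := by
      refine stalk_map_eq_zero (fun F => (hu F).2) _ η' fun p' => ?_
      have hp' : hom η' p' default ∈ W.hom ⁻¹' {genericPoint X} := by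
        have e' : hom η' p' ≫ W.hom = η' := Over.w p'
        rw [Set.mem_preimage, ← Scheme.Hom.comp_apply, e', hy]
        rfl
      obtain ⟨i, hi⟩ := e.symm.surjective ⟨_, hp'⟩
      obtain ⟨w, hw⟩ := hq (e.symm i)
      obtain ⟨t', ht'⟩ := LocConst45.exists_pt_over (q (e.symm i)) p' w (hw.trans (congrArg Subtype.val hi))
      rw [← ht', ← germ_map, ← NatTrans.naturality_apply (cokernel.π R).hom (q (e.symm i)).op γ, ← hh i]
      have : h i ≫ cokernel.π R = 0 := by
        rw [← biproduct.ι_desc h i, Category.assoc, cokernel.condition, comp_zero]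
      show germ η' _ t' ((h i ≫ cokernel.π R).hom.app _ (γ' i)) = 0
      rw [this]
      exact map_zero _
    exact hne (IsZero.of_epi_eq_zero _ h0)
  refine ⟨cokernel R, ⟨hG, closure (EtPBC.supp (cokernel R)), isClosed_closure, fun hcl => ?_, subset_closure⟩,
    cokernel.desc R f hRf, (EtCoh.stalk η).map (cokernel.π R) (germ η _ (ptOpen B t htB) γ), ?_⟩
  · obtain ⟨x, hx, hxg⟩ := exists_specializes_of_supp hG hcl
    exact hgen ((hxg.antisymm ((genericPoint_spec X).specializes (Set.mem_univ x))).eq ▸ hx)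
  · rw [← ConcreteCategory.comp_apply, ← Functor.map_comp, cokernel.π_desc, stalk_map_germ, hf]
    exact hτp

end Groth.Agent.Cons51
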