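import Groth.Agent.Cons51.Present
import Groth.Agent.Unr55.Et.FiltColimSite
import Groth.Agent.Unr55.Et.FiltColimEtale
import Mathlib.CategoryTheory.Category.ULift
import Mathlib.CategoryTheory.Filtered.Final

/-!
Constructible sheaves are compact objects.
-/

set_option autoImplicit false
set_option backward.isDefEq.respectTransparency.types false
universe w u

open CategoryTheory CategoryTheory.Limits AlgebraicGeometry Topology Opposite
open Groth.Agent.Unr55.EtSh
open scoped ZeroObject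
open Groth.Agent.FlatMor66 (isClopen_constructibleTopology_of_isConstructible)

namespace Groth.Agent.Cons51

variable {X : Scheme.{u}}

/-- A constructible sheaf on a qcqs scheme is killed by a positive integer. -/
theorem exists_killedBy [CompactSpace X] [QuasiSeparatedSpace X] {F : EtCoh.Ab X} (hF : EtPBC.IsConstructible F) :
    ∃ N, 0 < N ∧ EtCoh.KilledBy N F := by
  have : SpectralSpace X := { }
  choose Ω hΩ hS ξ hξ using fun x : X => exists_geomPoint x
  let n : X → ℕ := fun x => Nat.card ((EtCoh.stalk (ξ x)).obj F : AddCommGrpCat.{u + 1})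
  have hn : ∀ x, 0 < n x := fun x => by
    have := finite_stalk hF (ξ x)
    exact Nat.card_pos
  let W : X → Set X := fun x => {y : X | ∀ (Ω : Type u) [Field Ω] [IsSepClosed Ω]
      (η : Spec (CommRingCat.of Ω) ⟶ X), η default = y →
        Function.Bijective ((EtCoh.stalk η).map (kernel.ι (n x • 𝟙 F)))}
  have hWc : ∀ x, Topology.IsConstructible (W x) := fun x =>
    bijective_locus _ (isConstructible_kernel_cokernel (n x • 𝟙 F) hF hF).1 hF
  have hWx : ∀ x, x ∈ W x := by
    intro x Ω' _ _ η hη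
    refine bijective_stalk_of_eq _ (ξ x) η ((hξ x).trans hη.symm) ?_
    have h0 : (EtCoh.stalk (ξ x)).map (n x • 𝟙 F) = 0 := by
      rw [Functor.map_nsmul, (EtCoh.stalk (ξ x)).map_id]
      ext a
      show n x • a = 0
      exact addOrderOf_dvd_iff_nsmul_eq_zero.1 (addOrderOf_dvd_natCard a)
    have : IsIso (kernel.ι ((EtCoh.stalk (ξ x)).map (n x • 𝟙 F))) :=
      ⟨kernel.lift _ (𝟙 _) (by rw [Category.id_comp, h0]), (cancel_mono (kernel.ι _)).1 (by simp only [Category.assoc, kernel.lift_ι, Category.comp_id, Category.id_comp]), kernel.lift_ι _ _ _⟩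
    have := PreservesKernel.iso_hom (EtCoh.stalk (ξ x)) (n x • 𝟙 F)
    rw [← ConcreteCategory.isIso_iff_bijective, ← kernelComparison_comp_ι, ← this]
    infer_instance
  obtain ⟨L, hL⟩ := (isCompact_univ (X := WithConstructibleTopology X)).elim_finite_subcover
    (fun x : X => WithTopology.ofTopology ⁻¹' W x)
    (fun x => WithConstructibleTopology.isOpen_iff.mpr
      (isClopen_constructibleTopology_of_isConstructible (hWc x)).1)
    (fun z _ => Set.mem_iUnion.2 ⟨_, hWx (WithTopology.ofTopology z)⟩)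
  refine ⟨∏ x ∈ L, n x, Finset.prod_pos fun x _ => hn x, fun U s => sect_eq_zero_of_germ F _ fun K _ _ η t => ?_⟩
  rw [map_nsmul]
  obtain ⟨x, hx, hηx⟩ := Set.mem_iUnion₂.1 (hL (Set.mem_univ (WithTopology.toTopology _ (η default))))
  obtain ⟨k, hk⟩ := Finset.dvd_prod_of_mem n hx
  obtain ⟨a, ha⟩ := (hηx K η rfl).2 (germ η F t s)
  have e : (EtCoh.stalk η).map (n x • 𝟙 F) (germ η F t s) = 0 := by
    rw [← ha, ← ConcreteCategory.comp_apply, ← Functor.map_comp, kernel.condition, Functor.map_zero]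
    rfl
  rw [Functor.map_nsmul, (EtCoh.stalk η).map_id] at e
  have e' : n x • germ η F t s = 0 := e
  rw [hk, mul_comm, mul_nsmul', e', smul_zero]

/-- `j_! ℤ/n` corepresents the sections killed by `n`. -/
theorem exists_universal (U : X.Etale) (n : ℕ) :
    ∃ g : EtCoh.sect (EtPBC.extZeroConst U (ZMod n)) U, n • g = 0 ∧ ∀ F : EtCoh.Ab X,
      (∀ σ : EtCoh.sect F U, n • σ = 0 → ∃ f : EtPBC.extZeroConst U (ZMod n) ⟶ F, f.hom.app (op U) g = σ) ∧
      Function.Injective fun f : EtPBC.extZeroConst U (ZMod n) ⟶ F => f.hom.app (op U) g := by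
  obtain ⟨A⟩ := (⟨(constantSheafAdj (X.smallEtaleTopology.over U) AddCommGrpCat.{u + 1} Over.mkIdTerminal).comp
    (EtPBC.extZeroAdj U)⟩ : Nonempty (constantSheaf (X.smallEtaleTopology.over U) AddCommGrpCat.{u + 1} ⋙ EtPBC.extZero U ⊣
      X.smallEtaleTopology.overPullback AddCommGrpCat.{u + 1} U ⋙
        (sheafSections (X.smallEtaleTopology.over U) AddCommGrpCat.{u + 1}).obj (op (Over.mk (𝟙 U)))))
  let M := AddCommGrpCat.of (ULift.{u + 1} (ZMod n))
  let g : EtCoh.sect (EtPBC.extZeroConst U (ZMod n)) U := A.unit.app M ⟨1⟩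
  refine ⟨g, ?_, fun F => ⟨fun σ hσ => ?_, fun f f' h => (A.homEquiv M F).injective ?_⟩⟩
  · exact (map_nsmul (A.unit.app M).hom n (⟨1⟩ : ULift.{u + 1} (ZMod n))).symm.trans
      ((congrArg (A.unit.app M) (ULift.ext (n • (⟨1⟩ : ULift.{u + 1} (ZMod n))) 0
        (ZModModule.char_nsmul_eq_zero n (1 : ZMod n)))).trans (map_zero _))
  · let k : ZMod n →+ EtCoh.sect F U := ZMod.lift n ⟨zmultiplesHom _ σ, by simpa using hσ⟩
    let a : M ⟶ F.obj.obj (op U) := AddCommGrpCat.ofHom (k.comp AddEquiv.ulift.toAddMonoidHom)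
    obtain ⟨f, hf⟩ := (A.homEquiv M F).surjective a
    rw [Adjunction.homEquiv_unit] at hf
    have h1 := ConcreteCategory.congr_hom hf (⟨1⟩ : ULift.{u + 1} (ZMod n))
    rw [ConcreteCategory.comp_apply] at h1
    refine ⟨f, h1.trans ?_⟩
    show k 1 = σ
    simp only [k, ← Int.cast_one (R := ZMod n), ZMod.lift_coe]
    exact one_zsmul σ
  · rw [Adjunction.homEquiv_unit, Adjunction.homEquiv_unit]
    refine AddCommGrpCat.hom_ext (AddMonoidHom.ext fun z => ?_)
    obtain ⟨z, rfl⟩ : ∃ m : ℤ, (⟨(m : ZMod n)⟩ : ULift.{u + 1} (ZMod n)) = z :=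
      ⟨(ZMod.intCast_surjective z.down).choose, ULift.ext _ _ (ZMod.intCast_surjective z.down).choose_spec⟩
    have hz : (⟨(z : ZMod n)⟩ : ULift.{u + 1} (ZMod n)) = z • ⟨1⟩ := ULift.ext _ _ (zsmul_one z).symm
    rw [hz]
    rw [map_zsmul, map_zsmul]
    exact congrArg (z • ·) h

section

variable {J : Type w} [Category.{w} J] [IsFiltered J] {D : J ⥤ EtCoh.Ab X}

/-- Homomorphisms out of `G` into the vertex of `c` are seen at a finite stage. -/
def CompactAt (c : Cocone D) (G : EtCoh.Ab X) : Prop :=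
  (∀ x : G ⟶ c.pt, ∃ (j : J) (y : G ⟶ D.obj j), y ≫ c.ι.app j = x) ∧
  ∀ (j : J) (x y : G ⟶ D.obj j), x ≫ c.ι.app j = y ≫ c.ι.app j →
    ∃ (k : J) (f : j ⟶ k), x ≫ D.map f = y ≫ D.map f

variable {c : Cocone D}

omit [IsFiltered J] in
theorem CompactAt.of_iso {G G' : EtCoh.Ab X} (e : G ≅ G') (h : CompactAt c G) : CompactAt c G' := by
  refine ⟨fun x => ?_, fun j x y hxy => ?_⟩
  · obtain ⟨j, y, hy⟩ := h.1 (e.hom ≫ x)
    exact ⟨j, e.inv ≫ y, by rw [Category.assoc, hy, e.inv_hom_id_assoc]⟩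
  · obtain ⟨k, f, hf⟩ := h.2 j (e.hom ≫ x) (e.hom ≫ y) (by simp only [Category.assoc, hxy])
    exact ⟨k, f, by simpa only [Category.assoc, cancel_epi] using hf⟩

theorem exists_bound' {j : J} {m : ℕ} {k : Fin m → J} (f : ∀ i, j ⟶ k i) :
    ∃ (l : J) (g : j ⟶ l), ∀ i, ∃ h : k i ⟶ l, f i ≫ h = g :=
  Unr55.FiltColim.exists_bound f

theorem CompactAt.biproduct {m : ℕ} {A : Fin m → EtCoh.Ab X} (h : ∀ i, CompactAt c (A i)) :
    CompactAt c (⨁ A) := by
  refine ⟨fun x => ?_, fun j x y hxy => ?_⟩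
  · choose k y hy using fun i => (h i).1 (biproduct.ι A i ≫ x)
    classical
    obtain ⟨l, hl⟩ := IsFiltered.sup_objs_exists (Finset.univ.image k)
    refine ⟨l, biproduct.desc fun i => y i ≫ D.map (hl (Finset.mem_image_of_mem k (Finset.mem_univ i))).some,
      biproduct.hom_ext' _ _ fun i => ?_⟩
    rw [biproduct.ι_desc_assoc, Category.assoc, c.w, hy]
  · choose k f hf using fun i => (h i).2 j (biproduct.ι A i ≫ x) (biproduct.ι A i ≫ y)
      (by simp only [Category.assoc, hxy])
    obtain ⟨l, g, hg⟩ := exists_bound' f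
    refine ⟨l, g, biproduct.hom_ext' _ _ fun i => ?_⟩
    obtain ⟨t, rfl⟩ := hg i
    simpa only [Functor.map_comp, Category.assoc] using (congrArg (· ≫ D.map t) (hf i))

omit [IsFiltered J] in
theorem CompactAt.cokernel {A B : EtCoh.Ab X} (φ : A ⟶ B) (hA : CompactAt c A) (hB : CompactAt c B) :
    CompactAt c (cokernel φ) := by
  refine ⟨fun x => ?_, fun j x y hxy => ?_⟩
  · obtain ⟨j, y, hy⟩ := hB.1 (cokernel.π φ ≫ x)
    obtain ⟨k, f, hf⟩ := hA.2 j (φ ≫ y) 0 (by rw [Category.assoc, hy, cokernel.condition_assoc, zero_comp, zero_comp])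
    refine ⟨k, cokernel.desc φ (y ≫ D.map f) (by rw [← Category.assoc, hf, zero_comp]), ?_⟩
    rw [← cancel_epi (cokernel.π φ), cokernel.π_desc_assoc, Category.assoc, c.w, hy]
  · obtain ⟨k, f, hf⟩ := hB.2 j (cokernel.π φ ≫ x) (cokernel.π φ ≫ y) (by simp only [Category.assoc, hxy])
    exact ⟨k, f, by simpa only [Category.assoc, cancel_epi] using hf⟩

/-- The generators are compact. -/
theorem compactAt_genObj {W : X.Etale}
    [PreservesColimitsOfShape J (sheafToPresheaf X.smallEtaleTopology AddCommGrpCat.{u + 1} ⋙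
      (evaluation _ AddCommGrpCat.{u + 1}).obj (op W) ⋙ forget AddCommGrpCat.{u + 1})]
    (hc : IsColimit c) (n : ℕ) : CompactAt c (EtPBC.extZeroConst W (ZMod n)) := by
  obtain ⟨g, hg, hu⟩ := exists_universal W n
  let S := sheafToPresheaf X.smallEtaleTopology AddCommGrpCat.{u + 1} ⋙
    (evaluation _ AddCommGrpCat.{u + 1}).obj (op W) ⋙ forget AddCommGrpCat.{u + 1}
  have hS : IsColimit (S.mapCocone c) := isColimitOfPreserves S hc
  refine ⟨fun x => ?_, fun j x y hxy => ?_⟩
  · obtain ⟨j, s, hs⟩ := Types.jointly_surjective_of_isColimit hS (x.hom.app (op W) g)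
    let s' : EtCoh.sect (D.obj j) W := s
    let z : EtCoh.sect (D.obj j) W := 0
    have hs' : (c.ι.app j).hom.app (op W) s' = x.hom.app (op W) g := hs
    have h0 : (c.ι.app j).hom.app (op W) (n • s') = (c.ι.app j).hom.app (op W) z := by
      rw [map_nsmul, hs', ← map_nsmul, hg, map_zero, map_zero]
    obtain ⟨k, f, hf⟩ := (Types.FilteredColimit.isColimit_eq_iff' hS _ _).1 h0
    have hf' : (D.map f).hom.app (op W) (n • s') = (D.map f).hom.app (op W) z := hf
    obtain ⟨y, hy⟩ := (hu (D.obj k)).1 ((D.map f).hom.app (op W) s') ((map_nsmul _ n s').symm.trans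
      (hf'.trans (map_zero ((D.map f).hom.app (op W)).hom)))
    refine ⟨k, y, (hu c.pt).2 ?_⟩
    show (c.ι.app k).hom.app (op W) (y.hom.app (op W) g) = _
    rw [hy]
    exact (ConcreteCategory.congr_hom ((sheafSections _ _).obj (op W) |>.congr_map (c.w f)) s :).trans hs
  · obtain ⟨k, f, hf⟩ := (Types.FilteredColimit.isColimit_eq_iff' hS
      (x.hom.app (op W) g : EtCoh.sect (D.obj j) W) (y.hom.app (op W) g)).1
      (congrArg (fun q : EtPBC.extZeroConst W (ZMod n) ⟶ c.pt => q.hom.app (op W) g) hxy)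
    exact ⟨k, f, (hu (D.obj k)).2 hf⟩

theorem compactAt_of_isConstructible [CompactSpace X] [QuasiSeparatedSpace X]
    (hJ : ∀ W : X.Etale, IsAffine W.left → PreservesColimitsOfShape J
      (sheafToPresheaf X.smallEtaleTopology AddCommGrpCat.{u + 1} ⋙
        (evaluation _ AddCommGrpCat.{u + 1}).obj (op W) ⋙ forget AddCommGrpCat.{u + 1}))
    (hc : IsColimit c) {F : EtCoh.Ab X} (hF : EtPBC.IsConstructible F) : CompactAt c F := by
  obtain ⟨n, hn, hFn⟩ := exists_killedBy hF
  obtain ⟨a, b, V, U, hV, hU, φ, ⟨e⟩⟩ := exists_presentation hn hF hFn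
  refine ((CompactAt.biproduct fun i => ?_).cokernel φ (CompactAt.biproduct fun i => ?_)).of_iso e.symm
  · have := hJ _ (hV i); exact compactAt_genObj hc n
  · have := hJ _ (hU i); exact compactAt_genObj hc n

end

theorem preservesColimitsOfShape_sect (W : X.Etale) [IsAffine W.left] (J : Type (u + 1))
    [SmallCategory J] [IsFiltered J] : PreservesColimitsOfShape J
      (sheafToPresheaf X.smallEtaleTopology AddCommGrpCat.{u + 1} ⋙
        (evaluation _ AddCommGrpCat.{u + 1}).obj (op W) ⋙ forget AddCommGrpCat.{u + 1}) := by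
  have := Unr55.FiltColim.preservesColimitsOfShape_sections X.smallEtaleTopology (D := AddCommGrpCat.{u + 1}) J
    (Unr55.FiltColim.qcqs_of_compactSpace W)
  exact inferInstanceAs (PreservesColimitsOfShape J
    ((sheafToPresheaf X.smallEtaleTopology AddCommGrpCat.{u + 1} ⋙
      (evaluation _ AddCommGrpCat.{u + 1}).obj (op W)) ⋙ forget AddCommGrpCat.{u + 1}))

theorem preservesColimitsOfShape_coyoneda [CompactSpace X] [QuasiSeparatedSpace X] {F : EtCoh.Ab X}
    (hF : EtPBC.IsConstructible F) (J : Type (u + 1)) [SmallCategory J] [IsFiltered J] :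
    PreservesColimitsOfShape J (coyoneda.obj (op F)) := by
  refine ⟨fun {D} => ⟨fun {c} hc => ⟨?_⟩⟩⟩
  have h := compactAt_of_isConstructible (fun W hW => preservesColimitsOfShape_sect W J) hc hF
  refine Types.FilteredColimit.isColimitOf' _ _ (fun x => ?_) fun j x y hxy => h.2 j x y hxy
  obtain ⟨j, y, hy⟩ := h.1 x
  exact ⟨j, y, hy.symm⟩

theorem preservesColimitsOfShape_coyoneda_small [CompactSpace X] [QuasiSeparatedSpace X] {F : EtCoh.Ab X}
    (hF : EtPBC.IsConstructible F) (J : Type u) [SmallCategory J] [IsFiltered J] :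
    PreservesColimitsOfShape J (coyoneda.obj (op F)) := by
  let e : J ≌ AsSmall.{u + 1} J := AsSmall.equiv
  have := IsFiltered.of_equivalence e
  have := preservesColimitsOfShape_coyoneda hF (AsSmall.{u + 1} J)
  exact preservesColimitsOfShape_of_equiv e.symm _

end Groth.Agent.Cons51
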