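import Groth.Agent.EtCore45.NormalConst
import Groth.Agent.Norm57.GenPoints
import Groth.Agent.SpecSp50.Basic

/-!
Constant sheaves on normal schemes and dense quasi-compact opens.
-/

set_option autoImplicit false
set_option backward.isDefEq.respectTransparency.types false
universe u

open CategoryTheory CategoryTheory.Limits AlgebraicGeometry Topology Opposite
open Groth.Agent.Unr55.EtSh Groth.Agent.LocConst45 Groth.Agent.EtCore45
open Groth.Agent.Norm57 (IsMax')

namespace Groth.Agent.Cons51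

variable {X : Scheme.{u}}

theorem isIso_unit_cst_of_local {U : Scheme.{u}} (f : U ⟶ X)
    (hne : ∀ W : X.Etale, Nonempty W.left → Nonempty ((EtCoh.bc f).obj W).left)
    (M : AddCommGrpCat.{u + 1})
    (hloc : ∀ (W : X.Etale) (w : W.left) (s : EtCoh.sect (cst (X := U) M) ((EtCoh.bc f).obj W)),
      ∃ (V : X.Etale) (g : V ⟶ W) (v : V.left) (m : M), g.left v = w ∧
        (cst (X := U) M).obj.map ((EtCoh.bc f).map g).op s = constσ M ((EtCoh.bc f).obj V) m) :
    IsIso ((EtCoh.pullPushAdj f).unit.app (cst M)) := by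
  let φ := (EtCoh.pullPushAdj f).unit.app (cst M) ≫ (EtCoh.push f).map ((EtCore.pullConstIso f).app M).hom
  suffices IsIso φ from IsIso.of_isIso_comp_right _ ((EtCoh.push f).map ((EtCore.pullConstIso f).app M).hom)
  have hφ : ∀ (W : X.Etale) (m : M), φ.hom.app (op W) (constσ (X := X) M W m) = constσ (X := U) M ((EtCoh.bc f).obj W) m :=
    fun W m => unit_constσ f M W m
  refine (Sheaf.isLocallyBijective_iff_isIso φ).1 ⟨⟨fun {W} a b hab => mem_topology fun x => ?_⟩,
    ⟨fun {W} s => mem_topology fun x => ?_⟩⟩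
  · obtain ⟨V, g, v, m, hv, hm⟩ := (isTriv_const M W.unop).surj W.unop (𝟙 _) a x
    obtain ⟨V', g', v', m', hv', hm'⟩ := (isTriv_const M W.unop).surj V g ((cst M).obj.map g.op b) v
    rw [constσ_map] at hm
    rw [constσ_map, ← map_comp'] at hm'
    refine ⟨V', g' ≫ g, v', ?_, by change g.left (g'.left v') = x; rw [hv', hv]⟩
    have : Nonempty V'.left := ⟨v'⟩
    have := hne V' this
    have ha : (cst (X := X) M).obj.map (g' ≫ g).op a = constσ M V' m := by rw [map_comp', hm, constσ_map]
    have key : (φ.hom.app (op V')) ((cst (X := X) M).obj.map (g' ≫ g).op a) =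
        (φ.hom.app (op V')) ((cst (X := X) M).obj.map (g' ≫ g).op b) := by
      exact (NatTrans.naturality_apply φ.hom (g' ≫ g).op a).trans ((congrArg _ hab).trans
        (NatTrans.naturality_apply φ.hom (g' ≫ g).op b).symm)
    rw [ha, hm', hφ, hφ] at key
    show (cst (X := X) M).obj.map (g' ≫ g).op a = (cst (X := X) M).obj.map (g' ≫ g).op b
    rw [ha, hm', constσ_injective M _ key]
  · obtain ⟨V, g, v, m, hv, hm⟩ := hloc W x s
    exact ⟨V, g, v, ⟨constσ M V m, (hφ V m).trans hm.symm⟩, hv⟩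

theorem exists_common {W V V' : X.Etale} (g : V ⟶ W) (g' : V' ⟶ W) (v : V.left) (v' : V'.left)
    (e : g.left v = g'.left v') :
    ∃ (P : X.Etale) (p : P ⟶ V) (q : P ⟶ V') (x : P.left), p ≫ g = q ≫ g' ∧ p.left x = v ∧ q.left x = v' := by
  have : Etale g.left := Unr55.EtSh.etale_left g
  have : Etale g'.left := Unr55.EtSh.etale_left g'
  have : Etale V.hom := V.prop
  let P : X.Etale := Scheme.Etale.mk (pullback.fst g.left g'.left ≫ V.hom)
  let p : P ⟶ V := MorphismProperty.Over.homMk (pullback.fst g.left g'.left) rfl trivial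
  let q : P ⟶ V' := MorphismProperty.Over.homMk (pullback.snd g.left g'.left) (by
    change pullback.snd g.left g'.left ≫ V'.hom = pullback.fst g.left g'.left ≫ V.hom
    have e1 : g.left ≫ W.hom = V.hom := MorphismProperty.Over.w g
    have e2 : g'.left ≫ W.hom = V'.hom := MorphismProperty.Over.w g'
    rw [← e1, ← e2, pullback.condition_assoc]) trivial
  obtain ⟨x, h1, h2⟩ := Scheme.Pullback.exists_preimage_pullback (f := g.left) (g := g'.left) v v' e
  exact ⟨P, p, q, x, MorphismProperty.Over.Hom.ext pullback.condition, h1, h2⟩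

theorem fst_bc_map {U : Scheme.{u}} (j : U ⟶ X) {A B : X.Etale} (g : A ⟶ B) (z : ((EtCoh.bc j).obj A).left) :
    (pullback.fst B.hom j : ((EtCoh.bc j).obj B).left ⟶ B.left) (((EtCoh.bc j).map g).left z) =
      g.left ((pullback.fst A.hom j : ((EtCoh.bc j).obj A).left ⟶ A.left) z) := by
  have h : ((EtCoh.bc j).map g).left ≫ (pullback.fst B.hom j : ((EtCoh.bc j).obj B).left ⟶ B.left) =
      (pullback.fst A.hom j : ((EtCoh.bc j).obj A).left ⟶ A.left) ≫ g.left := pullback.lift_fst _ _ _
  exact (Scheme.Hom.comp_apply _ _ z).symm.trans ((congrArg (fun q : ((EtCoh.bc j).obj A).left ⟶ B.left => q z) h).trans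
    (Scheme.Hom.comp_apply _ _ z))

/-- Local constancy of sections of constant sheaves over a dense quasi-compact open of a normal scheme. -/
theorem exists_local_value_dense (hX : Pi1.IsNormalScheme X) {U : Scheme.{u}} (j : U ⟶ X) [IsOpenImmersion j]
    [QuasiCompact j] (hj : Dense (Set.range j)) (M : AddCommGrpCat.{u + 1}) (W : X.Etale) [IsAffine W.left]
    (w : W.left) (s : EtCoh.sect (cst (X := U) M) ((EtCoh.bc j).obj W)) :
    ∃ (V : X.Etale) (g : V ⟶ W) (v : V.left) (m : M), g.left v = w ∧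
      (cst (X := U) M).obj.map ((EtCoh.bc j).map g).op s = constσ M ((EtCoh.bc j).obj V) m := by
  classical
  let wh : W.left ⟶ X := W.hom
  have : Etale wh := W.prop
  let P : U.Etale := (EtCoh.bc j).obj W
  let p : P.left ⟶ W.left := pullback.fst W.hom j
  have : IsOpenImmersion p := MorphismProperty.pullback_fst W.hom j ‹_›
  have : QuasiCompact p := MorphismProperty.pullback_fst W.hom j ‹_›
  have : CompactSpace P.left := QuasiCompact.compactSpace_of_compactSpace p
  have hr : Set.range p = W.hom ⁻¹' Set.range j := Scheme.Pullback.range_fst W.hom j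
  have hd : Dense (Set.range p) := hr ▸ hj.preimage wh.isOpenMap
  have hrc : IsCompact (Set.range p) := isCompact_range p.continuous
  have hnorm : Pi1.IsNormalScheme W.left := fun z => (Unr55.isNormalDomain_stalk_iff_of_etale wh z).2 (hX _)
  have hsp : SpectralSpace W.left := { }
  choose V g v m hv hm using (isTriv_const M P).surj P (𝟙 P) s
  have hm' : ∀ z, (cst (X := U) M).obj.map (g z).op s = constσ M (V z) (m z) := fun z => by
    rw [hm z, constσ_map]
  have hgo : ∀ z, IsOpen (Set.range (g z).left) := fun z => by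
    have := Unr55.EtSh.etale_left (g z)
    exact (g z).left.isOpenMap.isOpen_range
  have hmeq : ∀ z z' (a : (V z).left) (b : (V z').left), (g z).left a = (g z').left b → m z = m z' :=
    fun z z' a b e => constσ_eq_of_meet M (g z) (g z') s (hm' z) (hm' z') a b e
  obtain ⟨L, hL⟩ := isCompact_univ.elim_finite_subcover (fun z => Set.range (g z).left) hgo
    fun z _ => Set.mem_iUnion.2 ⟨z, v z, hv z⟩
  let S : M → Set P.left := fun a => ⋃ z ∈ L.filter (fun z => m z = a), Set.range (g z).left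
  have hSo : ∀ a, IsOpen (S a) := fun a => isOpen_biUnion fun z _ => hgo z
  have hScov : ∀ y, ∃ z ∈ L, y ∈ S (m z) := fun y => by
    obtain ⟨z, hz, hy⟩ := Set.mem_iUnion₂.1 (hL (Set.mem_univ y))
    exact ⟨z, hz, Set.mem_biUnion (Finset.mem_filter.2 ⟨hz, rfl⟩) hy⟩
  have hSdisj : ∀ a b y, y ∈ S a → y ∈ S b → a = b := by
    intro a b y ha hb
    obtain ⟨z, hz, c, hc⟩ := Set.mem_iUnion₂.1 ha
    obtain ⟨z', hz', c', hc'⟩ := Set.mem_iUnion₂.1 hb
    rw [← (Finset.mem_filter.1 hz).2, ← (Finset.mem_filter.1 hz').2]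
    exact hmeq z z' c c' (hc.trans hc'.symm)
  have hSc : ∀ a, IsCompact (S a) := fun a => by
    have e : (S a)ᶜ = ⋃ b ∈ (L.image m).erase a, S b := by
      ext y
      simp only [Set.mem_compl_iff, Set.mem_iUnion, exists_prop]
      constructor
      · intro hy
        obtain ⟨z, hz, hyz⟩ := hScov y
        exact ⟨m z, Finset.mem_erase.2 ⟨fun e => hy (e ▸ hyz), Finset.mem_image_of_mem m hz⟩, hyz⟩
      · rintro ⟨b, hb, hyb⟩ hya
        exact (Finset.mem_erase.1 hb).1 (hSdisj b a y hyb hya)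
    have : IsClosed (S a) := isOpen_compl_iff.1 (e ▸ isOpen_biUnion fun b _ => hSo b)
    exact this.isCompact
  have hA : ∀ a, w ∈ closure (p '' S a) → ∃ e : W.left, IsMax' e ∧ e ⤳ w ∧ e ∈ p '' S a := by
    intro a ha
    have ho : IsOpen (p '' S a) := p.isOpenEmbedding.isOpenMap _ (hSo a)
    have hc : IsCompact (p '' S a) := (hSc a).image p.continuous
    obtain ⟨e, he, hew⟩ := SpecSp50.exists_specializes_of_mem_closure (SpecSp50.isClosed_cons_of_qc ho hc) ha
    obtain ⟨e', he', hee⟩ := Norm57.exists_isMax'_specializes e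
    exact ⟨e', he', hee.trans hew, hee.mem_open ho he⟩
  have huniq : ∀ a b, w ∈ closure (p '' S a) → w ∈ closure (p '' S b) → a = b := by
    intro a b ha hb
    obtain ⟨e, he, hew, hea⟩ := hA a ha
    obtain ⟨e', he', hew', heb⟩ := hA b hb
    obtain rfl := NormY57.eq_of_isMax' hnorm he he' hew hew'
    obtain ⟨y, hy, hye⟩ := hea
    obtain ⟨y', hy', hye'⟩ := heb
    obtain rfl := p.isOpenEmbedding.injective (hye.trans hye'.symm)
    exact hSdisj a b y hy hy'
  obtain ⟨z₀, hz₀, hw₀⟩ : ∃ z ∈ L, w ∈ closure (p '' S (m z)) := by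
    have h1 : Set.range p ⊆ ⋃ z ∈ L, p '' S (m z) := by
      rintro _ ⟨y, rfl⟩
      obtain ⟨z, hz, hy⟩ := hScov y
      exact Set.mem_biUnion hz ⟨y, hy, rfl⟩
    have h2 := closure_mono h1 (hd w)
    rw [Finset.closure_biUnion] at h2
    simpa only [Set.mem_iUnion, exists_prop] using h2
  let C : Set W.left := ⋃ b ∈ (L.image m).erase (m z₀), closure (p '' S b)
  have hC : IsClosed C := Set.Finite.isClosed_biUnion (Finset.finite_toSet _) fun _ _ => isClosed_closure
  let N : W.left.Opens := ⟨Cᶜ, hC.isOpen_compl⟩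
  have hwN : w ∈ N := fun hw => by
    obtain ⟨b, hb, hwb⟩ := Set.mem_iUnion₂.1 hw
    exact (Finset.mem_erase.1 hb).1 (huniq _ _ hwb hw₀)
  refine ⟨openSub W N, openSubι W N, ⟨w, hwN⟩, m z₀, rfl, ?_⟩
  rw [← sub_eq_zero]
  refine sect_eq_zero_of_local (cst (X := U) M) _ fun y => ?_
  let k := (EtCoh.bc j).map (openSubι W N)
  obtain ⟨z, hz, hyz⟩ := hScov (k.left y)
  have hkN : p (k.left y) ∈ N := by
    show (pullback.fst W.hom j : ((EtCoh.bc j).obj W).left ⟶ W.left) (((EtCoh.bc j).map (openSubι W N)).left y) ∈ N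
    rw [fst_bc_map]
    exact ((pullback.fst (openSub W N).hom j : ((EtCoh.bc j).obj (openSub W N)).left ⟶ (openSub W N).left) y).2
  have hzm : m z = m z₀ := by
    by_contra hne
    exact hkN (Set.mem_biUnion (Finset.mem_erase.2 ⟨hne, Finset.mem_image_of_mem m hz⟩)
      (subset_closure ⟨k.left y, hyz, rfl⟩))
  obtain ⟨z', hz', c, hc⟩ := Set.mem_iUnion₂.1 hyz
  obtain ⟨Q, a, b, q, hab, -, hb⟩ := exists_common (g z') k c y hc
  refine ⟨Q, b, q, hb, ?_⟩
  rw [map_sub, sub_eq_zero, ← map_comp', ← hab, map_comp', hm', constσ_map, constσ_map,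
    (Finset.mem_filter.1 hz').2, hzm]

theorem nonempty_bc {U : Scheme.{u}} (j : U ⟶ X) (hj : Dense (Set.range j)) (W : X.Etale) (h : Nonempty W.left) :
    Nonempty ((EtCoh.bc j).obj W).left := by
  let wh : W.left ⟶ X := W.hom
  have : Etale wh := W.prop
  obtain ⟨_, ⟨u, rfl⟩, x', hx'⟩ := hj.exists_mem_open wh.isOpenMap.isOpen_range ⟨_, h.some, rfl⟩
  obtain ⟨z, -, -⟩ := Scheme.Pullback.exists_preimage_pullback (f := wh) (g := j) x' u hx'
  exact ⟨z⟩

theorem isIso_unit_dense_open (hX : Pi1.IsNormalScheme X) {U : Scheme.{u}} (j : U ⟶ X) [IsOpenImmersion j]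
    [QuasiCompact j] (hj : Dense (Set.range j)) (M : AddCommGrpCat.{u + 1}) :
    IsIso ((EtCoh.pullPushAdj j).unit.app (cst M)) := by
  refine isIso_unit_cst_of_local j (nonempty_bc j hj) M fun W w s => ?_
  obtain ⟨B, hB, hwB, -⟩ := exists_isAffineOpen_mem_and_subset (X := W.left) (x := w) (U := ⊤) trivial
  have : IsAffine (openSub W B).left := hB
  obtain ⟨V, g, v, m, hv, hm⟩ := exists_local_value_dense hX j hj M (openSub W B) ⟨w, hwB⟩
    ((cst (X := U) M).obj.map ((EtCoh.bc j).map (openSubι W B)).op s)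
  refine ⟨V, g ≫ openSubι W B, v, m, ?_, ?_⟩
  · show (openSubι W B).left (g.left v) = w
    rw [hv]
    rfl
  · rw [Functor.map_comp, map_comp', hm]

theorem isIso_unit_residueField [IsIntegral X] (hN : ∀ x : X, IsIntegrallyClosed (X.presheaf.stalk x))
    (M : AddCommGrpCat.{u + 1}) :
    IsIso ((EtCoh.pullPushAdj (X.fromSpecResidueField (genericPoint X))).unit.app (cst M)) := by
  refine isIso_unit_cst _ (fun W => have : Etale W.hom := W.prop; locIrr_etale_normal hN W.hom)
    (fun W hW => irreducibleSpace_bc _ W ?_) M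
  have : Etale W.hom := W.prop
  rw [Scheme.range_fromSpecResidueField]
  obtain ⟨w⟩ := (inferInstance : Nonempty W.left)
  obtain ⟨a, ha, -⟩ := exists_generalization_over_generic (X := X) W.hom w
  refine ⟨⟨a, ha⟩, ?_⟩
  let wh : W.left ⟶ X := W.hom
  have : Etale wh := W.prop
  have : IrreducibleSpace ↥((𝟭 Scheme.{u}).obj W.left) := hW
  have e : W.hom ⁻¹' {genericPoint X} = {a} := by
    refine Set.eq_singleton_iff_unique_mem.2 ⟨ha, fun b hb => ?_⟩
    have hg : genericPoint W.left ⤳ b := genericPoint_specializes b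
    exact (eq_of_specializes_over_generic wh hb hg).symm.trans
      (eq_of_specializes_over_generic wh ha (genericPoint_specializes a))
  rw [e]
  exact isPreirreducible_singleton

end Groth.Agent.Cons51
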