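import Groth.Agent.Cons51.LimConst
import Groth.Agent.Cons51.AbsPoint
import Groth.Agent.Cons51.PushFinite
import Groth.Agent.Cons51.ColimSupp
import Groth.Agent.Cons51.NormalConst
import Groth.Agent.EtCore45.NormalConst
import Groth.Agent.Unr55.Et.StrictHensH
import Groth.Agent.Unr55.GeomCount
import Groth.Agent.S7382
import Groth.Prelude.Def_EtCore

/-!
Constructible sheaves embed into sums of finite direct images of constant sheaves.
-/

set_option autoImplicit false
set_option backward.isDefEq.respectTransparency.types false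
universe u

open CategoryTheory CategoryTheory.Limits AlgebraicGeometry Opposite TopologicalSpace
open Groth.Agent.Unr55.EtSh Groth.Agent.EtCore45
open Groth.Agent.FlatMor66 (isClopen_constructibleTopology_of_isConstructible)

namespace Groth.Agent.Cons51

/-- Sheaves on the spectrum of a separably closed field are constant. -/
theorem nonempty_cst_iso (K : Type u) [Field K] [IsSepClosed K] (F : EtCoh.Ab (Spec (CommRingCat.of K))) :
    Nonempty (cst (X := Spec (CommRingCat.of K)) (F.obj.obj (op (EtCoh.top _))) ≅ F) := by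
  let S := Spec (CommRingCat.of K)
  have : IsSepClosed (IsLocalRing.ResidueField K) :=
    Unr55.isSepClosed_of_surjective (IsLocalRing.residue K) IsLocalRing.residue_surjective
  let hT := isTerminalTop S
  let χ : (Functor.const S.Etaleᵒᵖ).obj (F.obj.obj (op (EtCoh.top S))) ⟶ F.obj :=
    { app := fun W => F.obj.map (hT.from W.unop).op
      naturality := fun W W' g => by
        refine (Category.id_comp _).trans ?_
        rw [← F.obj.map_comp]
        exact congrArg F.obj.map (Quiver.Hom.unop_inj (hT.hom_ext _ _)) }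
  have hsub : Subsingleton S := inferInstanceAs (Subsingleton (PrimeSpectrum K))
  have sec : ∀ (W : S.Etale) (w : W.left), ∃ s : EtCoh.top S ⟶ W, s.left (default : S) = w := by
    intro W w
    have : Etale W.hom := W.prop
    let wh : W.left ⟶ S := W.hom
    have : Etale wh := W.prop
    have := Groth.Agent.Unr55.locallyQuasiFinite_of_formallyUnramified wh
    obtain ⟨V, hV, hVb⟩ := isDiscrete_iff_forall_mem_exists_isOpen.1
      (wh.isDiscrete_preimage_singleton (wh w)) w rfl
    let O : W.left.Opens := ⟨V, hV⟩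
    have hwO : w ∈ O := (hVb.ge rfl).1
    have huniq : ∀ v : O.toScheme, O.ι v = w := fun v =>
      Set.mem_singleton_iff.1 (hVb.le ⟨v.2, hsub.elim _ _⟩)
    obtain ⟨y⟩ := EtCore45.exists_pt (openSub W O) (closedPt K) ⟨⟨w, hwO⟩, hsub.elim _ _⟩
    obtain ⟨s, -⟩ := exists_section_top K y
    exact ⟨s ≫ openSubι W O, huniq _⟩
  have hinj : Presheaf.IsLocallyInjective S.smallEtaleTopology χ := ⟨fun {W} m n h => mem_topology fun w => by
    obtain ⟨s, hs⟩ := sec W.unop w
    refine ⟨EtCoh.top S, s, (default : S), ?_, hs⟩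
    show m = n
    have h' := congrArg (F.obj.map s.op) h
    rw [← ConcreteCategory.comp_apply, ← ConcreteCategory.comp_apply] at h'
    have e : χ.app W ≫ F.obj.map s.op = 𝟙 _ := by
      show F.obj.map (hT.from W.unop).op ≫ F.obj.map s.op = _
      rw [← F.obj.map_comp, ← op_comp, hT.hom_ext (s ≫ hT.from W.unop) (𝟙 _), op_id, F.obj.map_id]
      rfl
    rw [e] at h'
    exact h'⟩
  have hsurj : Presheaf.IsLocallySurjective S.smallEtaleTopology χ := ⟨fun {W} t => mem_topology fun w => by
    obtain ⟨s, hs⟩ := sec W w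
    refine ⟨EtCoh.top S, s, (default : S), ⟨F.obj.map s.op t, ?_⟩, hs⟩
    show F.obj.map (hT.from (EtCoh.top S)).op (F.obj.map s.op t) = F.obj.map s.op t
    rw [hT.hom_ext (hT.from (EtCoh.top S)) (𝟙 _), op_id, F.obj.map_id]
    rfl⟩
  exact ⟨@asIso _ _ _ _ ((presheafToSheaf S.smallEtaleTopology AddCommGrpCat.{u + 1}).map χ)
      ((S.smallEtaleTopology.W_iff _).1 (S.smallEtaleTopology.W_of_isLocallyBijective χ)) ≪≫
    (sheafificationIso F).symm⟩
variable {X : Scheme.{u}}

theorem subsingleton_stalk_of_eq (A : EtCoh.Ab X) {Ω Ω' : Type u} [Field Ω] [IsSepClosed Ω] [Field Ω']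
    [IsSepClosed Ω'] (η : Spec (CommRingCat.of Ω) ⟶ X) (η' : Spec (CommRingCat.of Ω') ⟶ X)
    (h : η default = η' default) [Subsingleton ((EtCoh.stalk η).obj A : AddCommGrpCat.{u + 1})] :
    Subsingleton ((EtCoh.stalk η').obj A : AddCommGrpCat.{u + 1}) := by
  have h' : Function.Bijective ((EtCoh.stalk η).map (0 : A ⟶ A)) :=
    ⟨fun a b _ => Subsingleton.elim a b, fun a => ⟨a, Subsingleton.elim _ _⟩⟩
  have hb := (bijective_stalk_of_eq (0 : A ⟶ A) η η' h h').1
  refine ⟨fun a b => hb ?_⟩
  have : PreservesColimitsOfSize.{u + 1, u + 1} (EtCoh.stalk η') :=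
    (Scheme.pointSmallEtale η').skyscraperSheafAdjunction.leftAdjoint_preservesColimits
  rw [Functor.map_zero]
  rfl

theorem subsingleton_stalk_kernel {F G : EtCoh.Ab X} (φ : F ⟶ G) {Ω : Type u} [Field Ω] [IsSepClosed Ω]
    (η : Spec (CommRingCat.of Ω) ⟶ X) (h : Function.Injective ((EtCoh.stalk η).map φ)) :
    Subsingleton ((EtCoh.stalk η).obj (kernel φ) : AddCommGrpCat.{u + 1}) := by
  refine ⟨fun a b => (AddCommGrpCat.mono_iff_injective _).1
    (inferInstance : Mono ((EtCoh.stalk η).map (kernel.ι φ))) (h ?_)⟩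
  rw [← ConcreteCategory.comp_apply, ← ConcreteCategory.comp_apply, ← Functor.map_comp, kernel.condition]
  exact (ConcreteCategory.congr_hom ((EtCoh.stalk η).map_zero _ _) a).trans
    (ConcreteCategory.congr_hom ((EtCoh.stalk η).map_zero _ _) b).symm

theorem exists_stalk_cst_iso {F : EtCoh.Ab X} (hF : EtPBC.IsConstructible F) {Y : Scheme.{u}} (g : Y ⟶ X) (y : Y)
    [IsSepClosed (Y.residueField y)] :
    ∃ (M : Type) (_ : AddCommGroup M) (_ : Finite M),
      Nonempty ((EtCoh.pull (Y.fromSpecResidueField y ≫ g)).obj F ≅ EtCoh.const _ M) := by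
  let K : Type u := Y.residueField y
  have : IsSepClosed (IsLocalRing.ResidueField K) :=
    Unr55.isSepClosed_of_surjective (IsLocalRing.residue K) IsLocalRing.residue_surjective
  let k : Spec (CommRingCat.of K) ⟶ X := Y.fromSpecResidueField y ≫ g
  let G := (EtCoh.pull k).obj F
  have hfin : Finite (G.obj.obj (op (EtCoh.top (Spec (CommRingCat.of K)))) : AddCommGrpCat.{u + 1}) := by
    have := finite_stalk hF (closedPt K ≫ k)
    have : Finite ((EtCoh.stalk (closedPt K)).obj G : AddCommGrpCat.{u + 1}) :=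
      Finite.of_surjective _ (theta_bijective k (closedPt K) F).surjective
    exact Finite.of_injective _ (germ_top_bijective K G).1
  obtain ⟨e⟩ := nonempty_cst_iso K G
  let A := G.obj.obj (op (EtCoh.top (Spec (CommRingCat.of K))))
  let eA : AddCommGrpCat.of (ULift.{u + 1} (Shrink.{0} A)) ≅ A :=
    (AddEquiv.ulift.trans (Shrink.addEquiv)).toAddCommGrpIso
  exact ⟨Shrink.{0} A, inferInstance, Finite.of_equiv A (equivShrink.{0} A),
    ⟨e.symm ≪≫ (constantSheaf _ AddCommGrpCat.{u + 1}).mapIso eA.symm⟩⟩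

/-- At each point, a constructible sheaf maps to a finite direct image of a constant sheaf injectively on the stalk. -/
theorem exists_injective_at [CompactSpace X] [QuasiSeparatedSpace X] {F : EtCoh.Ab X}
    (hF : EtPBC.IsConstructible F) (x : X) :
    ∃ (Y : Scheme.{u}) (f : Y ⟶ X) (_ : IsFinite f) (_ : LocallyOfFinitePresentation f) (M : Type)
      (_ : AddCommGroup M) (_ : Finite M) (β : F ⟶ (EtCoh.push f).obj (EtCoh.const Y M)),
      ∀ (Ω : Type u) [Field Ω] [IsSepClosed Ω] (η : Spec (CommRingCat.of Ω) ⟶ X), η default = x →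
        Subsingleton ((EtCoh.stalk η).obj (kernel β) : AddCommGrpCat.{u + 1}) := by
  obtain ⟨Y, g, _, hg, hgx, hN, hsc⟩ := exists_abs_point x
  let y := genericPoint Y
  let η0 := Y.fromSpecResidueField y
  obtain ⟨M, _, _, ⟨e⟩⟩ := exists_stalk_cst_iso hF g y
  let A := AddCommGrpCat.of (ULift.{u + 1} M)
  have := isIso_unit_residueField hN A
  let α : F ⟶ pushLC A g :=
    (EtCoh.pullPushAdj (η0 ≫ g)).unit.app F ≫ (EtCoh.push (η0 ≫ g)).map e.hom ≫
      (EtCoh.pushComp g η0).inv.app (cst (X := Spec (Y.residueField y)) A) ≫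
      (EtCoh.push g).map ((EtCoh.push η0).map ((EtCore.pullConstIso η0).app A).inv ≫
        inv ((EtCoh.pullPushAdj η0).unit.app (cst (X := Y) A)) ≫ (cstIsoLc A).hom)
  have hα : ∀ {Ω : Type u} [Field Ω] [IsSepClosed Ω] (v : Spec (CommRingCat.of Ω) ⟶ Spec (Y.residueField y)),
      Function.Injective ((EtCoh.stalk (v ≫ η0 ≫ g)).map α) := by
    intro Ω _ _ v
    refine Function.Injective.of_comp (f := (EtCoh.stalk (v ≫ η0 ≫ g)).map
      (inv ((EtCoh.push (η0 ≫ g)).map e.hom ≫
      (EtCoh.pushComp g η0).inv.app (cst (X := Spec (Y.residueField y)) A) ≫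
      (EtCoh.push g).map ((EtCoh.push η0).map ((EtCore.pullConstIso η0).app A).inv ≫
        inv ((EtCoh.pullPushAdj η0).unit.app (cst (X := Y) A)) ≫ (cstIsoLc A).hom)))) ?_
    have hu : Function.Injective ((EtCoh.stalk (v ≫ η0 ≫ g)).map ((EtCoh.pullPushAdj (η0 ≫ g)).unit.app F)) :=
      Function.Injective.of_comp (f := pushStalkMap (η0 ≫ g) v _) (theta_bijective (η0 ≫ g) v F).injective
    intro a b hab
    refine hu ?_
    simpa only [Function.comp_apply, α, ← ConcreteCategory.comp_apply, ← Functor.map_comp, Category.assoc,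
      IsIso.hom_inv_id, Category.comp_id] using hab
  obtain ⟨I, _, _, _, D, c, hc, hD, ⟨ec⟩⟩ := S7382.result g
  have : IsCofiltered Iᵒᵖ := isCofiltered_op_of_isFiltered I
  let c' := c.extend ec.inv
  obtain ⟨i, β, hβ⟩ := exists_factor_pushLC A (D := D) (c := c') (IsLimit.extendIso ec.inv hc)
    (fun i => by have := (hD i).1; infer_instance) hF α
  have := (hD i).1
  refine ⟨_, (D.obj i).hom, (hD i).1, (hD i).2, M, inferInstance, inferInstance,
    β ≫ (EtCoh.push (D.obj i).hom).map (cstIsoLc A).inv, fun Ω _ _ η hη => ?_⟩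
  let v : Spec (CommRingCat.of (AlgebraicClosure (Y.residueField y))) ⟶ Spec (Y.residueField y) :=
    Spec.map (CommRingCat.ofHom (algebraMap (Y.residueField y) (AlgebraicClosure (Y.residueField y))))
  have hv : (v ≫ η0 ≫ g) default = η default := by
    rw [hη, Scheme.Hom.comp_apply, Scheme.Hom.comp_apply, ← hgx]
    exact congrArg g (Y.fromSpecResidueField_apply y _)
  have : Subsingleton ((EtCoh.stalk (v ≫ η0 ≫ g)).obj
      (kernel (β ≫ (EtCoh.push (D.obj i).hom).map (cstIsoLc A).inv)) : AddCommGrpCat.{u + 1}) := by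
    refine subsingleton_stalk_kernel _ _ fun a b hab => hα v ?_
    rw [← hβ, Functor.map_comp, ConcreteCategory.comp_apply, ConcreteCategory.comp_apply]
    refine congrArg _ ?_
    rw [Functor.map_comp, ConcreteCategory.comp_apply, ConcreteCategory.comp_apply] at hab
    exact ((AddCommGrpCat.mono_iff_injective _).1 inferInstance) hab
  exact subsingleton_stalk_of_eq _ (v ≫ η0 ≫ g) η hv

/-- A constructible sheaf embeds in a finite sum of finite direct images of constant sheaves. -/
theorem exists_embedding [CompactSpace X] [QuasiSeparatedSpace X] {F : EtCoh.Ab X}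
    (hF : EtPBC.IsConstructible F) :
    ∃ (n : ℕ) (Y : Fin n → Scheme.{u}) (f : ∀ i, Y i ⟶ X) (_ : ∀ i, IsFinite (f i))
      (_ : ∀ i, LocallyOfFinitePresentation (f i))
      (M : Fin n → Type) (_ : ∀ i, AddCommGroup (M i)) (_ : ∀ i, Finite (M i))
      (ι : F ⟶ ⨁ fun i => (EtCoh.push (f i)).obj (EtCoh.const (Y i) (M i))), Mono ι := by
  classical
  have : SpectralSpace X := { }
  choose Y f hf hfp M hM hMf β hβ using fun x : X => exists_injective_at hF x
  have hc : ∀ x, Topology.IsConstructible (EtPBC.supp (kernel (β x))) := fun x =>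
    (isLocallyConstructible_supp _ (isConstructible_kernel_cokernel (β x) hF
      (isConstructible_push_finite (f x) (isConstructible_of_flc (flc_const (M x))))).1).isConstructible
  have hx : ∀ x, x ∉ EtPBC.supp (kernel (β x)) := fun x ⟨Ω, _, _, ξ, hξ, hne⟩ => hne (by
    have := hβ x Ω ξ ((range_eq_singleton ξ x).1 hξ)
    exact AddCommGrpCat.isZero_of_subsingleton _)
  obtain ⟨L, hL⟩ := (isCompact_univ (X := WithConstructibleTopology X)).elim_finite_subcover
    (fun x : X => WithTopology.ofTopology ⁻¹' (EtPBC.supp (kernel (β x)))ᶜ)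
    (fun x => WithConstructibleTopology.isOpen_iff.mpr
      (isClopen_constructibleTopology_of_isConstructible (hc x).compl).1)
    (fun z _ => Set.mem_iUnion.2 ⟨_, hx (WithTopology.ofTopology z)⟩)
  let e := L.equivFin.symm
  let ι := biproduct.lift (f := fun i => (EtCoh.push (f (e i).1)).obj (EtCoh.const (Y (e i).1) (M (e i).1)))
    fun i => β (e i).1
  refine ⟨L.card, fun i => Y (e i).1, fun i => f (e i).1, fun i => hf _, fun i => hfp _, fun i => M (e i).1,
    fun i => hM _, fun i => hMf _, ι, mono_of_stalks _ fun K _ _ η => ?_⟩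
  obtain ⟨x, hxL, hηx⟩ := Set.mem_iUnion₂.1 (hL (Set.mem_univ (WithTopology.toTopology _ (η default))))
  obtain ⟨i, hi⟩ := e.surjective ⟨x, hxL⟩
  have hz : IsZero ((EtCoh.stalk η).obj (kernel (β x))) := by
    by_contra hne
    exact hηx ⟨K, inferInstance, inferInstance, η, (range_eq_singleton η _).2 rfl, hne⟩
  have hinj : Function.Injective ((EtCoh.stalk η).map (β x)) := by
    refine (injective_iff_map_eq_zero ((EtCoh.stalk η).map (β x)).hom).2 fun a ha => ?_
    obtain ⟨b, rfl⟩ := (ShortComplex.ab_exact_iff _).1 ((ShortComplex.exact_of_f_is_kernel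
      (ShortComplex.mk (kernel.ι (β x)) (β x) (kernel.condition _)) (kernelIsKernel _)).map (EtCoh.stalk η)) a ha
    have := AddCommGrpCat.subsingleton_of_isZero hz
    rw [Subsingleton.elim (α := ((EtCoh.stalk η).obj (kernel (β x)) : AddCommGrpCat.{u + 1})) b 0]
    exact map_zero _
  obtain rfl : (e i).1 = x := congrArg Subtype.val hi
  refine fun a b hab => hinj ?_
  have := congrArg ((EtCoh.stalk η).map (biproduct.π _ i)) hab
  rwa [← ConcreteCategory.comp_apply, ← ConcreteCategory.comp_apply, ← Functor.map_comp, biproduct.lift_π] at this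

end Groth.Agent.Cons51
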