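import Groth.Agent.Cons51.GabberEfface
import Groth.Agent.Cons51.TorsionInj
import Groth.Agent.EtCore45.ExtAdjoint
import Mathlib.Algebra.Homology.DerivedCategory.Ext.ExactSequences

/-!
Gabber's affine analogue of proper base change, by effacement.
-/

set_option autoImplicit false
set_option backward.isDefEq.respectTransparency.types false
set_option linter.style.haveILetI false
universe u

open CategoryTheory CategoryTheory.Limits CategoryTheory.Abelian AlgebraicGeometry Opposite

namespace Groth.Agent.Cons51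

variable {X Z : Scheme.{u}} (i : Z ⟶ X)

theorem bijective_H_zero
    (h0 : ∀ F : EtCoh.Ab X, Function.Bijective (((EtCoh.pullPushAdj i).unit.app F).hom.app (op (EtCoh.top X))))
    (F : EtCoh.Ab X) : Function.Bijective (Sheaf.H.map ((EtCoh.pullPushAdj i).unit.app F) 0) := by
  let φ := (EtCoh.pullPushAdj i).unit.app F
  let adj := constantSheafAdj X.smallEtaleTopology AddCommGrpCat.{u + 1} (EtCore.topIsTerminal X)
  let A : AddCommGrpCat.{u + 1} := AddCommGrpCat.of (ULift.{u + 1} ℤ)
  let K := (constantSheaf X.smallEtaleTopology AddCommGrpCat.{u + 1}).obj A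
  have : IsIso (φ.hom.app (op (EtCoh.top X))) := (ConcreteCategory.isIso_iff_bijective _).2 (h0 F)
  have hpost : ∀ g g' : K ⟶ F, g ≫ φ = g' ≫ φ → g = g' := fun g g' hg => by
    apply (adj.homEquiv A F).injective
    have h1 := congrArg (adj.homEquiv A _) hg
    rw [adj.homEquiv_naturality_right, adj.homEquiv_naturality_right] at h1
    exact (cancel_mono (φ.hom.app (op (EtCoh.top X)))).1 h1
  refine ⟨fun x y hxy => ?_, fun y => ?_⟩
  · obtain ⟨g, rfl⟩ := (Ext.mk₀_bijective _ _).2 x
    obtain ⟨g', rfl⟩ := (Ext.mk₀_bijective _ _).2 y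
    rw [Sheaf.H.map_apply, Sheaf.H.map_apply, Ext.mk₀_comp_mk₀, Ext.mk₀_comp_mk₀] at hxy
    exact congrArg Ext.mk₀ (hpost g g' ((Ext.mk₀_bijective _ _).1 hxy))
  · obtain ⟨g, rfl⟩ := (Ext.mk₀_bijective _ _).2 y
    refine ⟨Ext.mk₀ ((adj.homEquiv A F).symm (adj.homEquiv A _ g ≫ inv (φ.hom.app (op (EtCoh.top X))))), ?_⟩
    rw [Sheaf.H.map_apply, Ext.mk₀_comp_mk₀]
    congr 1
    apply (adj.homEquiv A _).injective
    refine ((adj.homEquiv_naturality_right _ _).trans ?_)
    refine (congrArg (· ≫ _) ((adj.homEquiv A F).apply_symm_apply _)).trans ?_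
    exact (Category.assoc _ _ _).trans ((congrArg (_ ≫ ·) (IsIso.inv_hom_id _)).trans (Category.comp_id _))

/-- Gabber's affine analogue. -/
theorem bijective_H_affine [IsAffine X] [IsClosedImmersion i]
    (h0 : ∀ F : EtCoh.Ab X, Function.Bijective (((EtCoh.pullPushAdj i).unit.app F).hom.app (op (EtCoh.top X)))) :
    ∀ (q : ℕ) (F : EtCoh.Ab X), EtCoh.IsTorsion F →
      Function.Bijective (Sheaf.H.map ((EtCoh.pullPushAdj i).unit.app F) q) := by
  let adj := EtCoh.pullPushAdj i
  have : (EtCoh.pull i).Additive := adj.left_adjoint_additive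
  have : (EtCoh.push i).Additive := adj.right_adjoint_additive
  have : PreservesFiniteLimits (EtCoh.pull i) := Unr55.EtSh.preservesFiniteLimits_pull i
  have : PreservesFiniteColimits (EtCoh.pull i) := by
    have : PreservesColimitsOfSize.{0, 0} (EtCoh.pull i) := adj.leftAdjoint_preservesColimits
    infer_instance
  have := preservesFiniteColimits_push_integral i
  have : PreservesFiniteLimits (EtCoh.push i) := by
    have : PreservesLimitsOfSize.{0, 0} (EtCoh.push i) := adj.rightAdjoint_preservesLimits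
    infer_instance
  let P := EtCoh.pull i ⋙ EtCoh.push i
  intro q
  induction q with
  | zero => exact fun F _ => bijective_H_zero i h0 F
  | succ q ih =>
    intro F hF
    have kill : ∀ ξ : EtCoh.H X (P.obj F) (q + 1), ∃ (F' : EtCoh.Ab X) (φ : F ⟶ F'),
        Mono φ ∧ EtCoh.IsTorsion F' ∧ ξ.comp (Ext.mk₀ (P.map φ)) (add_zero _) = 0 := by
      intro ξ
      obtain ⟨F', hF', φ, hφ, h⟩ := exists_efface i F hF q
        (EtCore45.adjTransfer adj (EtCore.pullConst i ℤ).inv _ (q + 1) ξ)
      refine ⟨F', φ, hφ, hF', (EtCore45.adjTransfer_bijective adj (EtCore.pullConst i ℤ).inv (q + 1) _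
        fun p hp => S3054.result i _ p hp).1 ?_⟩
      rw [map_zero]
      exact (EtCore45.adjTransfer_naturality adj _ ξ ((EtCoh.pull i).map φ)).trans h
    have step : ∀ {F' : EtCoh.Ab X} (φ : F ⟶ F') [Mono φ], EtCoh.IsTorsion F' →
        ∃ (hS : (ShortComplex.mk φ (cokernel.π φ) (cokernel.condition φ)).ShortExact)
          (hS' : ((ShortComplex.mk φ (cokernel.π φ) (cokernel.condition φ)).map P).ShortExact),
          EtCoh.IsTorsion (cokernel φ) ∧
          hS.extClass.comp (Ext.mk₀ (adj.unit.app F)) (add_zero 1) =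
            (Ext.mk₀ (adj.unit.app (cokernel φ))).comp hS'.extClass (zero_add 1) := by
      intro F' φ _ hF'
      let S := ShortComplex.mk φ (cokernel.π φ) (cokernel.condition φ)
      have hS : S.ShortExact := ShortComplex.ShortExact.mk' (ShortComplex.exact_cokernel _) inferInstance inferInstance
      have hS' : (S.map P).ShortExact := hS.map_of_exact P
      let m : S ⟶ S.map P :=
        { τ₁ := adj.unit.app _, τ₂ := adj.unit.app _, τ₃ := adj.unit.app _
          comm₁₂ := (adj.unit.naturality φ).symm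
          comm₂₃ := (adj.unit.naturality (cokernel.π φ)).symm }
      exact ⟨hS, hS', isTorsion_of_epi (cokernel.π φ) hF', ShortComplex.ShortExact.extClass_naturality hS hS' m⟩
    refine ⟨(injective_iff_map_eq_zero _).2 fun x hx => ?_, fun ξ => ?_⟩
    · obtain ⟨T, v, hv, hT, hacy⟩ := exists_torsion_acyclic hF
      obtain ⟨hS, hS', hQ, hnat⟩ := step v hT
      obtain ⟨a, ha⟩ := Ext.covariant_sequence_exact₁ _ hS x ((hacy (q + 1) le_add_self).elim _ _) rfl
      have h1 : (a.comp (Ext.mk₀ (adj.unit.app (cokernel v))) (add_zero q)).comp hS'.extClass rfl = 0 := by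
        refine (Ext.comp_assoc (a₂₃ := 1) _ _ _ (add_zero q) (zero_add 1) (by omega)).trans ?_
        refine (congrArg (fun z => a.comp z rfl) hnat.symm).trans ?_
        refine (Ext.comp_assoc (a₁₂ := q + 1) _ _ _ rfl (add_zero 1) (by omega)).symm.trans ?_
        exact (congrArg (fun z => Ext.comp z (Ext.mk₀ (adj.unit.app F)) (add_zero (q + 1))) ha).trans hx
      obtain ⟨b, hb⟩ := Ext.covariant_sequence_exact₃ _ hS' _ rfl h1
      obtain ⟨b', hb'⟩ := (ih T hT).2 b
      have ha' : a = b'.comp (Ext.mk₀ (cokernel.π v)) (add_zero q) := by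
        refine (ih (cokernel v) hQ).1 ?_
        rw [Sheaf.H.map_apply] at hb'
        rw [Sheaf.H.map_apply, Sheaf.H.map_apply, ← hb, ← hb']
        refine (Ext.comp_assoc_of_second_deg_zero b' _ _ _).trans (Eq.trans ?_ (Ext.comp_assoc_of_second_deg_zero b' _ _ _).symm)
        refine congrArg (fun z => Ext.comp b' z (add_zero q)) ?_
        refine (Ext.mk₀_comp_mk₀ _ _).trans (Eq.trans (congrArg Ext.mk₀ ?_) (Ext.mk₀_comp_mk₀ _ _).symm)
        exact (adj.unit.naturality (cokernel.π v)).symm
      rw [← ha, ha', Ext.comp_assoc_of_second_deg_zero]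
      exact (congrArg (fun z => b'.comp z (zero_add q ▸ rfl)) hS.comp_extClass).trans (by simp)
    · obtain ⟨F', φ, hφ, hF', hk⟩ := kill ξ
      obtain ⟨hS, hS', hQ, hnat⟩ := step φ hF'
      obtain ⟨a, ha⟩ := Ext.covariant_sequence_exact₁ _ hS' ξ hk rfl
      obtain ⟨a', ha'⟩ := (ih _ hQ).2 a
      refine ⟨a'.comp hS.extClass rfl, ?_⟩
      rw [Sheaf.H.map_apply] at ha'
      refine (Ext.comp_assoc (a₂₃ := 1) _ _ _ rfl (add_zero 1) (by omega)).trans ?_
      refine (congrArg (fun z => a'.comp z rfl) hnat).trans ?_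
      refine (Ext.comp_assoc (a₁₂ := q) _ _ _ (add_zero q) (zero_add 1) (by omega)).symm.trans ?_
      exact (congrArg (fun z => Ext.comp z hS'.extClass rfl) ha').trans ha

end Groth.Agent.Cons51
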