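import Groth.Agent.EtCore45.PushEpi
import Groth.Agent.EtCore45.IntegralUI
import Groth.Agent.EtCore45.Recoll
import Groth.Agent.Unr55.Et.PullExact
import Groth.Agent.Unr55.Et.ClosedPush
import Groth.Agent.EtCore45.ExtAdjoint
import Groth.Agent.S3054

/-!
Base change of integral direct images to closed subschemes.
-/

set_option autoImplicit false
set_option backward.isDefEq.respectTransparency.types false
set_option linter.style.haveILetI false
universe u

open CategoryTheory CategoryTheory.Limits AlgebraicGeometry Opposite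
open Groth.Agent.Unr55.EtSh Groth.Agent.EtCore45

namespace Groth.Agent.Cons51

variable {X Y : Scheme.{u}}

theorem preservesFiniteColimits_push_integral (f : X ⟶ Y) [IsIntegralHom f] :
    PreservesFiniteColimits (EtCoh.push f) := by
  have := (EtCoh.pullPushAdj f).rightAdjoint_preservesLimits
  refine (Functor.preservesFiniteColimits_iff_forall_exact_map_and_epi (EtCoh.push f)).2 fun S hS => ?_
  have := hS.epi_g
  exact ⟨((Functor.preservesFiniteLimits_iff_forall_exact_map_and_mono (EtCoh.push f)).1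
    inferInstance S hS).1, push_map_epi f S.g⟩

/-- The stalk of an integral direct image vanishes where all the stalks over it vanish. -/
theorem isZero_stalk_push_integral (f : X ⟶ Y) [IsIntegralHom f] (G : EtCoh.Ab X) {K : Type u} [Field K]
    [IsSepClosed K] (η : Spec (CommRingCat.of K) ⟶ Y)
    (hG : ∀ (L : Type u) [Field L] [IsSepClosed L] (ξ : Spec (CommRingCat.of L) ⟶ X),
      f (ξ default) = η default → IsZero ((EtCoh.stalk ξ).obj G)) :
    IsZero ((EtCoh.stalk η).obj ((EtCoh.push f).obj G)) := by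
  refine (isZero_stalk_iff η _).2 fun V s τ => ?_
  let P := (EtCoh.bc f).obj V
  let q : P.left ⟶ V.left := pullback.fst V.hom f
  let v₀ := hom η s default
  have key : ∀ p : {p : P.left // q p = v₀}, ∃ (Z : X.Etale) (g : Z ⟶ P) (z : Z.left),
      g.left z = p.1 ∧ G.obj.map g.op τ = 0 := by
    rintro ⟨p, hp⟩
    obtain ⟨L, _, _, ξ, t, ht⟩ := point_over P p
    have hξ : f (ξ default) = η default := by
      have h1 : hom ξ t ≫ P.hom = ξ := Over.w t
      have h2 : hom η s ≫ V.hom = η := Over.w s
      rw [← h1, ← h2]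
      show f (P.hom (hom ξ t default)) = V.hom v₀
      rw [ht, ← hp, ← Scheme.Hom.comp_apply, ← Scheme.Hom.comp_apply]
      exact congrArg (fun k : P.left ⟶ Y => k p) pullback.condition.symm
    have := AddCommGrpCat.subsingleton_of_isZero (hG L ξ hξ)
    obtain ⟨Z, g, t', hgt, hg⟩ := (germ_eq_zero_iff ξ G t τ).1 (Subsingleton.elim _ _)
    exact ⟨Z, g, hom ξ t' default, Eq.trans (congrArg (fun c => hom ξ c default) hgt) ht, hg⟩
  choose Z g z hz hτ using key
  have : IsIntegralHom q := MorphismProperty.pullback_fst _ _ ‹IsIntegralHom f›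
  let gs : ∀ p : {p : P.left // q p = v₀}, (Z p).left ⟶ P.left := fun p => (g p).left
  have : ∀ p, Etale (gs p) := fun p => EtCore45.etale_left (g p)
  obtain ⟨T⟩ := exists_split q gs v₀ (fun x hx => ⟨⟨x, hx⟩, z _, hz _⟩) ∅ Set.subsingleton_empty fun _ h => h.elim
  have := T.etale
  have : Etale V.hom := V.prop
  let V' : Y.Etale := Scheme.Etale.mk (T.v ≫ V.hom)
  let k : V' ⟶ V := MorphismProperty.Over.homMk T.v rfl trivial
  obtain ⟨s', hks⟩ := exists_pt_lift k s T.mem
  have hb : IsPullback ((EtCoh.bc f).map k).left (pullback.fst V'.hom f) q T.v := EtCoh.isPullback_bc_map f k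
  let e := T.isPullback.isoIsPullback _ _ hb
  have he : e.inv ≫ T.pr₁ = ((EtCoh.bc f).map k).left := T.isPullback.isoIsPullback_inv_fst _ _ hb
  refine ⟨V', k, s', hks, ?_⟩
  show G.obj.map ((EtCoh.bc f).map k).op τ = 0
  refine sect_eq_zero_of_local G _ fun x => ?_
  obtain ⟨a, ha⟩ := TopologicalSpace.Opens.mem_iSup.1 (T.top.ge (TopologicalSpace.Opens.mem_top (e.inv x)))
  let W' : ((EtCoh.bc f).obj V').left.Opens := e.inv ⁻¹ᵁ T.W a
  have hc : T.h a ≫ (g (T.idx a)).left = (T.W a).ι ≫ T.pr₁ := T.comm a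
  let m : openSub ((EtCoh.bc f).obj V') W' ⟶ Z (T.idx a) :=
    MorphismProperty.Over.homMk ((e.inv ∣_ T.W a) ≫ T.h a) (by
      change ((e.inv ∣_ T.W a) ≫ T.h a) ≫ (Z (T.idx a)).hom = W'.ι ≫ ((EtCoh.bc f).obj V').hom
      rw [← MorphismProperty.Over.w (g (T.idx a)), ← MorphismProperty.Over.w ((EtCoh.bc f).map k), ← he]
      simp only [Category.assoc]
      rw [reassoc_of% hc, morphismRestrict_ι_assoc]) trivial
  have hm : m ≫ g (T.idx a) = openSubι _ W' ≫ (EtCoh.bc f).map k := by
    refine MorphismProperty.Over.Hom.ext ?_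
    change ((e.inv ∣_ T.W a) ≫ T.h a) ≫ (g (T.idx a)).left = W'.ι ≫ ((EtCoh.bc f).map k).left
    rw [Category.assoc, hc, morphismRestrict_ι_assoc, he]
  refine ⟨_, openSubι _ W', ⟨x, ha⟩, rfl, ?_⟩
  rw [← ConcreteCategory.comp_apply, ← Functor.map_comp, ← op_comp, ← hm, op_comp, Functor.map_comp,
    ConcreteCategory.comp_apply, hτ, map_zero]

theorem isIso_map_of_isZero {C D : Type*} [Category C] [Category D] [Abelian C] [Abelian D] (P : C ⥤ D)
    [P.PreservesZeroMorphisms] [PreservesFiniteLimits P] [PreservesFiniteColimits P] {A B : C} (φ : A ⟶ B)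
    (hk : IsZero (P.obj (kernel φ))) (hc : IsZero (P.obj (cokernel φ))) : IsIso (P.map φ) := by
  have : Mono (P.map φ) :=
    Preadditive.mono_of_isZero_kernel _ (hk.of_iso (PreservesKernel.iso P φ).symm)
  have : Epi (P.map φ) :=
    Preadditive.epi_of_isZero_cokernel _ (hc.of_iso (PreservesCokernel.iso P φ).symm)
  exact isIso_of_mono_of_epi _

/-- Closed base change for integral direct images. -/
theorem nonempty_pull_push_integral {Z X' : Scheme.{u}} (f : X ⟶ Y) [IsIntegralHom f] (i : Z ⟶ Y)
    [IsClosedImmersion i] (j : X' ⟶ X) (f' : X' ⟶ Z) (h : IsPullback j f' f i) (F : EtCoh.Ab X) :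
    Nonempty ((EtCoh.pull i).obj ((EtCoh.push f).obj F) ≅ (EtCoh.push f').obj ((EtCoh.pull j).obj F)) := by
  have : IsClosedImmersion j := MorphismProperty.of_isPullback h.flip inferInstance
  let φ := (EtCoh.pullPushAdj j).unit.app F
  have := isIso_pull_unit_closed j F
  have := preservesFiniteColimits_push_integral f
  have := (EtCoh.pullPushAdj f).rightAdjoint_preservesLimits
  have : PreservesColimitsOfSize.{0, 0} (EtCoh.pull i) := (EtCoh.pullPushAdj i).leftAdjoint_preservesColimits
  have : PreservesFiniteLimits (EtCoh.pull i) := Unr55.EtSh.preservesFiniteLimits_pull i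
  let P : EtCoh.Ab X ⥤ EtCoh.Ab Z := EtCoh.push f ⋙ EtCoh.pull i
  have hz : ∀ K : EtCoh.Ab X, IsZero ((EtCoh.pull j).obj K) → IsZero (P.obj K) := fun K hK => by
    refine isZero_of_stalks _ fun Ω _ _ η => ?_
    have h0 : IsZero ((EtCoh.stalk (η ≫ i)).obj ((EtCoh.push f).obj K)) := by
      refine isZero_stalk_push_integral f K (η ≫ i) fun L _ _ ξ hξ => ?_
      obtain ⟨x', hx', -⟩ := Scheme.exists_preimage_of_isPullback h (ξ default) (η default) hξ
      obtain ⟨ξ', rfl⟩ := exists_point_lift j ξ ⟨x', hx'⟩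
      have hs : IsZero ((EtCoh.stalk ξ').obj ((EtCoh.pull j).obj K)) := (EtCoh.stalk ξ').map_isZero hK
      have := AddCommGrpCat.subsingleton_of_isZero hs
      have := (theta_bijective j ξ' K).1.subsingleton
      exact AddCommGrpCat.isZero_of_subsingleton _
    have := AddCommGrpCat.subsingleton_of_isZero h0
    have : Subsingleton ((EtCoh.stalk η).obj (P.obj K) : AddCommGrpCat.{u + 1}) :=
      (theta_bijective i η ((EtCoh.push f).obj K)).2.subsingleton
    exact AddCommGrpCat.isZero_of_subsingleton _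
  have : (EtCoh.pull j).Additive := (EtCoh.pullPushAdj j).left_adjoint_additive
  have : PreservesFiniteLimits (EtCoh.pull j) := Unr55.EtSh.preservesFiniteLimits_pull j
  have : PreservesColimitsOfSize.{0, 0} (EtCoh.pull j) := (EtCoh.pullPushAdj j).leftAdjoint_preservesColimits
  have : P.PreservesZeroMorphisms := by
    have : (EtCoh.pull i).Additive := (EtCoh.pullPushAdj i).left_adjoint_additive
    have : (EtCoh.push f).Additive := (EtCoh.pullPushAdj f).right_adjoint_additive
    infer_instance
  have : PreservesFiniteLimits P := comp_preservesFiniteLimits _ _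
  have : PreservesFiniteColimits P := comp_preservesFiniteColimits _ _
  have : IsIso (P.map φ) := isIso_map_of_isZero P φ
    (hz _ ((isZero_kernel_of_mono ((EtCoh.pull j).map φ)).of_iso (PreservesKernel.iso (EtCoh.pull j) φ)))
    (hz _ ((isZero_cokernel_of_epi ((EtCoh.pull j).map φ)).of_iso (PreservesCokernel.iso (EtCoh.pull j) φ)))
  let G := (EtCoh.pull j).obj F
  have := Unr55.EtSh.isIso_counit_closed i ((EtCoh.push f').obj G)
  exact ⟨asIso (P.map φ) ≪≫ (EtCoh.pull i).mapIso ((EtCoh.pushComp f j).app G ≪≫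
    (EtCoh.pushCongr h.w).app G ≪≫ ((EtCoh.pushComp i f').app G).symm) ≪≫
    asIso ((EtCoh.pullPushAdj i).counit.app ((EtCoh.push f').obj G))⟩

end Groth.Agent.Cons51
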