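import Groth.Agent.Cons51.IdemAIC
import Groth.Agent.Cons51.IntegralBC
import Groth.Agent.Cons51.Embed
import Groth.Agent.Cons51.TorsionCoh
import Groth.Agent.Cons51.Colim
import Groth.Agent.Unr55.Et.PullExact
import Groth.Agent.Unr55.Et.HFiltColim
import Groth.Prelude.Def_EtCore

/-!
Gabber's effacement: classes on closed subschemes of affine schemes are killed by injective maps of
torsion sheaves.
-/

set_option autoImplicit false
set_option backward.isDefEq.respectTransparency.types false
set_option linter.style.haveILetI false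
universe u

open CategoryTheory CategoryTheory.Limits CategoryTheory.Abelian AlgebraicGeometry Opposite

namespace Groth.Agent.Cons51

open LimTop61.AbsClosure in
theorem exists_idemAIC_cover (Y : Scheme.{u}) [IsAffine Y] :
    ∃ (C : Type u) (_ : CommRing C) (g : Spec (CommRingCat.of C) ⟶ Y),
      IdemAIC C ∧ IsIntegralHom g ∧ Surjective g := by
  let U : Y.affineOpens := ⟨⊤, isAffineOpen_top Y⟩
  let k := (chart Y).f U
  have hsur : Surjective k := ⟨fun t => by
    have : t ∈ k.opensRange := by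
      rw [← π_preimage]
      trivial
    exact this⟩
  have : IsOpenImmersion k := (chart Y).map_prop U
  have : IsIso k := (isIso_iff_isOpenImmersion_and_surjective k).2 ⟨inferInstance, hsur⟩
  exact ⟨integ Y ⊤, inferInstance, k ≫ π Y, idemAIC_integ Y ⊤,
    (MorphismProperty.cancel_left_of_respectsIso @IsIntegralHom k (π Y)).2 inferInstance,
    (MorphismProperty.cancel_left_of_respectsIso @Surjective k (π Y)).2 inferInstance⟩

theorem killedBy_const {Y : Scheme.{u}} (M : Type) [AddCommGroup M] [Finite M] :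
    EtCoh.KilledBy (Nat.card M) (EtCoh.const Y M) := by
  have := (Depth22.const_exact Y).1
  refine killedBy_of_nsmul_id ?_
  rw [← CategoryTheory.Functor.map_id, ← Functor.map_nsmul]
  refine (congrArg _ ?_).trans (Functor.map_zero _ _ _)
  exact ConcreteCategory.hom_ext _ _ fun m => ULift.ext _ _ (card_nsmul_eq_zero' (G := M))

theorem killedBy_push {X Y : Scheme.{u}} (f : Y ⟶ X) {F : EtCoh.Ab Y} {n : ℕ} (hn : EtCoh.KilledBy n F) :
    EtCoh.KilledBy n ((EtCoh.push f).obj F) := fun U s => hn ((EtCoh.bc f).obj U) s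

theorem isTorsion_of_sum {X : Scheme.{u}} {ι : Type} [Fintype ι] {A : EtCoh.Ab X} {B : ι → EtCoh.Ab X}
    (p : ∀ k, A ⟶ B k) (j : ∀ k, B k ⟶ A) (e : ∑ k, p k ≫ j k = 𝟙 A) (hB : ∀ k, EtCoh.IsTorsion (B k)) :
    EtCoh.IsTorsion A := by
  refine (isTorsion_iff_stalks _).2 fun K _ _ η a => ?_
  have h1 : (EtCoh.stalk η).map (∑ k, p k ≫ j k) a = a := by
    rw [e, CategoryTheory.Functor.map_id]
    rfl
  rw [Functor.map_sum] at h1
  let ev : ((EtCoh.stalk η).obj A ⟶ (EtCoh.stalk η).obj A) →+ ((EtCoh.stalk η).obj A : AddCommGrpCat.{u + 1}) :=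
    AddMonoidHom.mk' (fun f => f a) fun f g => rfl
  show IsOfFinAddOrder a
  rw [← h1]
  show IsOfFinAddOrder (ev _)
  rw [map_sum]
  refine (AddCommGroup.torsion _).sum_mem fun k _ => ?_
  show IsOfFinAddOrder ((EtCoh.stalk η).map (p k ≫ j k) a)
  rw [Functor.map_comp]
  exact ((EtCoh.stalk η).map (j k)).hom.isOfFinAddOrder ((isTorsion_iff_stalks _).1 (hB k) K η _)

theorem isTorsion_biproduct {X : Scheme.{u}} {n : ℕ} (B : Fin n → EtCoh.Ab X) (hB : ∀ k, EtCoh.IsTorsion (B k)) :
    EtCoh.IsTorsion (⨁ B) :=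
  isTorsion_of_sum (biproduct.π B) (biproduct.ι B) biproduct.total hB

theorem isTorsion_biprod {X : Scheme.{u}} {A B : EtCoh.Ab X} (hA : EtCoh.IsTorsion A) (hB : EtCoh.IsTorsion B) :
    EtCoh.IsTorsion (A ⊞ B) :=
  isTorsion_of_sum (B := fun b : Bool => bif b then A else B)
    (fun b => match b with | true => biprod.fst | false => biprod.snd)
    (fun b => match b with | true => biprod.inl | false => biprod.inr)
    (by simp [Fintype.sum_bool])
    (fun b => match b with | true => hA | false => hB)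

theorem subsingleton_H_of_iso {X : Scheme.{u}} {A B : EtCoh.Ab X} (e : A ≅ B) (n : ℕ)
    [Subsingleton (EtCoh.H X A n)] : Subsingleton (EtCoh.H X B n) := by
  refine subsingleton_of_forall_eq 0 fun x => ?_
  have h1 : Sheaf.H.map e.inv n x = 0 := Subsingleton.elim _ _
  rw [← Sheaf.H.map_id_apply x, ← e.inv_hom_id, Sheaf.H.map_comp_apply, h1, map_zero]

theorem isTorsion_push_const {X Y : Scheme.{u}} (f : Y ⟶ X) (M : Type) [AddCommGroup M] [Finite M] :
    EtCoh.IsTorsion ((EtCoh.push f).obj (EtCoh.const Y M)) := by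
  intro U s x
  refine ⟨U, 𝟙 U, ⟨x, rfl⟩, isOfFinAddOrder_iff_nsmul_eq_zero.2 ⟨Nat.card M, Nat.card_pos, ?_⟩⟩
  exact killedBy_push f (killedBy_const M) U _

/-- Constants on an absolutely integrally closed cover have no cohomology on the preimage of a closed subscheme. -/
theorem subsingleton_H_pull_push {X Z : Scheme.{u}} (i : Z ⟶ X) [IsClosedImmersion i] {C : Type u} [CommRing C]
    (hC : IdemAIC C) (h : Spec (CommRingCat.of C) ⟶ X) [IsIntegralHom h] (M : Type) [AddCommGroup M] [Finite M]
    (q : ℕ) : Subsingleton (EtCoh.H Z ((EtCoh.pull i).obj ((EtCoh.push h).obj (EtCoh.const _ M))) (q + 1)) := by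
  let j := pullback.fst h i
  let f' := pullback.snd h i
  have : IsClosedImmersion j := MorphismProperty.pullback_fst _ _ inferInstance
  have : IsIntegralHom f' := MorphismProperty.pullback_snd _ _ inferInstance
  obtain ⟨e⟩ := nonempty_pull_push_integral h i j f' (IsPullback.of_hasPullback h i) (EtCoh.const _ M)
  let e' := e ≪≫ (EtCoh.push f').mapIso (EtCore.pullConst j M)
  have hM : Subsingleton (EtCoh.H _ (EtCoh.const (pullback h i) M) (q + 1)) :=
    have : NeZero (Nat.card M) := ⟨Nat.card_pos.ne'⟩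
    hC.subsingleton_H j (flc_const M) (killedBy_const M) q
  have : (EtCoh.pull f').Additive := (EtCoh.pullPushAdj f').left_adjoint_additive
  have : (EtCoh.push f').Additive := (EtCoh.pullPushAdj f').right_adjoint_additive
  have : PreservesFiniteLimits (EtCoh.pull f') := Unr55.EtSh.preservesFiniteLimits_pull f'
  have : PreservesFiniteColimits (EtCoh.pull f') := by
    have : PreservesColimitsOfSize.{0, 0} (EtCoh.pull f') := (EtCoh.pullPushAdj f').leftAdjoint_preservesColimits
    infer_instance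
  have hb := EtCore45.adjTransfer_bijective (EtCoh.pullPushAdj f') (EtCore.pullConst f' ℤ).inv (q + 1)
    (EtCoh.const (pullback h i) M) fun p hp => S3054.result f' _ p hp
  have := hb.1.subsingleton
  exact subsingleton_H_of_iso e'.symm (q + 1)

/-- Gabber's effacement lemma. -/
theorem exists_efface {X Z : Scheme.{u}} [IsAffine X] (i : Z ⟶ X) [IsClosedImmersion i]
    (F : EtCoh.Ab X) (hF : EtCoh.IsTorsion F) (q : ℕ) (ξ : EtCoh.H Z ((EtCoh.pull i).obj F) (q + 1)) :
    ∃ (F' : EtCoh.Ab X) (_ : EtCoh.IsTorsion F') (φ : F ⟶ F') (_ : Mono φ),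
      Sheaf.H.map ((EtCoh.pull i).map φ) (q + 1) ξ = 0 := by
  have : IsAffine Z := (IsClosedImmersion.isAffine_surjective_of_isAffine i).1
  obtain ⟨J, _, _, D, c, hc, ⟨e₀⟩, hD⟩ := exists_isColimit (generating_of_isTorsion hF)
  have : PreservesColimitsOfShape J (EtCoh.pull i) :=
    (EtCoh.pullPushAdj i).leftAdjoint_preservesColimits.preservesColimitsOfShape
  have := Unr55.HColim.preservesColimitsOfShape_HF (X := Z) J (q + 1)
  obtain ⟨o, w, hw⟩ := Concrete.isColimit_exists_rep _
    (isColimitOfPreserves (EtCoh.HF Z (q + 1)) (isColimitOfPreserves (EtCoh.pull i) hc))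
    (Sheaf.H.map ((EtCoh.pull i).map e₀.inv) (q + 1) ξ)
  obtain ⟨n, Y, f, hf, -, M, _, _, ι, hι⟩ := exists_embedding (hD o)
  have hY : ∀ k, IsAffine (Y k) := fun k => have := hf k; isAffine_of_isAffineHom (f k)
  choose C hCr g hC hgi hgs using fun k => exists_idemAIC_cover (Y k)
  let h : ∀ k, Spec (CommRingCat.of (C k)) ⟶ X := fun k => g k ≫ f k
  let G : EtCoh.Ab X := ⨁ fun k => (EtCoh.push (h k)).obj (EtCoh.const _ (M k))
  let α : ∀ k, (EtCoh.push (f k)).obj (EtCoh.const (Y k) (M k)) ⟶ (EtCoh.push (h k)).obj (EtCoh.const _ (M k)) :=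
    fun k => (EtCoh.push (f k)).map ((EtCoh.pullPushAdj (g k)).unit.app _ ≫
      (EtCoh.push (g k)).map (EtCore.pullConst (g k) (M k)).hom) ≫ (EtCoh.pushComp (f k) (g k)).hom.app _
  have hα : ∀ k, Mono (α k) := fun k => by
    have := hgs k
    have := Unr55.EtSh.mono_unit_of_surjective (g k) (EtCoh.const (Y k) (M k))
    have := Functor.preservesMonomorphisms_of_adjunction (EtCoh.pullPushAdj (f k))
    let m := (EtCoh.pullPushAdj (g k)).unit.app (EtCoh.const (Y k) (M k)) ≫
      (EtCoh.push (g k)).map (EtCore.pullConst (g k) (M k)).hom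
    have : Mono m := mono_comp _ _
    have : Mono ((EtCoh.push (f k)).map m) := inferInstance
    exact mono_comp ((EtCoh.push (f k)).map m) _
  let a : D.obj o ⟶ G := ι ≫ biproduct.map α
  have : Mono a := mono_comp _ _
  let t : D.obj o ⟶ F := c.ι.app o ≫ e₀.hom
  let φ : F ⟶ pushout t a := pushout.inl t a
  have hG : EtCoh.IsTorsion G := isTorsion_biproduct _ fun k => isTorsion_push_const (h k) (M k)
  have hF' : EtCoh.IsTorsion (pushout t a) := by
    have : Epi (biprod.desc (pushout.inl t a) (pushout.inr t a)) := Preadditive.epi_of_cancel_zero _ fun {A} z hz => by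
      refine pushout.hom_ext ?_ ?_
      · simpa using congrArg (fun k => biprod.inl ≫ k) hz
      · simpa using congrArg (fun k => biprod.inr ≫ k) hz
    exact isTorsion_of_epi (biprod.desc (pushout.inl t a) (pushout.inr t a)) (isTorsion_biprod hF hG)
  refine ⟨_, hF', φ, inferInstance, ?_⟩
  have hG0 : Subsingleton (EtCoh.H Z ((EtCoh.pull i).obj G) (q + 1)) := by
    have : (EtCoh.pull i).Additive := (EtCoh.pullPushAdj i).left_adjoint_additive
    have h1 : ∀ k, Subsingleton (EtCoh.H Z ((EtCoh.pull i).obj ((EtCoh.push (h k)).obj (EtCoh.const _ (M k)))) (q + 1)) :=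
      fun k => have := hgi k; have := hf k; subsingleton_H_pull_push i (hC k) (h k) (M k) q
    refine subsingleton_of_forall_eq 0 fun x => ?_
    have ht : ∑ k, (EtCoh.pull i).map (biproduct.π _ k) ≫ (EtCoh.pull i).map (biproduct.ι _ k) =
        𝟙 ((EtCoh.pull i).obj G) := by
      simp only [← Functor.map_comp, ← Functor.map_sum]
      exact (congrArg _ biproduct.total).trans ((EtCoh.pull i).map_id _)
    let ev : ((EtCoh.pull i).obj G ⟶ (EtCoh.pull i).obj G) →+ EtCoh.H Z ((EtCoh.pull i).obj G) (q + 1) :=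
      AddMonoidHom.mk' (fun f => Sheaf.H.map f (q + 1) x) fun f g => Sheaf.H.map_add_apply f g x
    have hx : ev (𝟙 _) = x := Sheaf.H.map_id_apply x
    rw [← hx, ← ht, map_sum]
    refine Finset.sum_eq_zero fun k _ => ?_
    show Sheaf.H.map _ (q + 1) x = 0
    rw [Sheaf.H.map_comp_apply, Subsingleton.elim (h := h1 k) (Sheaf.H.map _ (q + 1) x) 0, map_zero]
  have hξ : Sheaf.H.map ((EtCoh.pull i).map t) (q + 1) w = ξ := by
    have hw' : Sheaf.H.map ((EtCoh.pull i).map (c.ι.app o)) (q + 1) w = Sheaf.H.map ((EtCoh.pull i).map e₀.inv) (q + 1) ξ := hw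
    rw [show t = c.ι.app o ≫ e₀.hom from rfl, Functor.map_comp, Sheaf.H.map_comp_apply, hw',
      ← Sheaf.H.map_comp_apply, ← Functor.map_comp, e₀.inv_hom_id, CategoryTheory.Functor.map_id]
    exact Sheaf.H.map_id_apply ξ
  rw [← hξ, ← Sheaf.H.map_comp_apply, ← Functor.map_comp, pushout.condition, Functor.map_comp,
    Sheaf.H.map_comp_apply, Subsingleton.elim (Sheaf.H.map ((EtCoh.pull i).map a) (q + 1) w) 0, map_zero]

end Groth.Agent.Cons51
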