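import Groth.Agent.Cons51.IdemDesc
import Groth.Agent.Cons51.ClosedAcyclic
import Groth.Agent.Cons51.AbsPoint
import Groth.Agent.LimTop61.AbsClosureScheme
import Mathlib.AlgebraicGeometry.FunctionField

/-!
Rings with roots and idempotent supports: closed subschemes of their spectra are acyclic.
-/

set_option autoImplicit false
set_option backward.isDefEq.respectTransparency.types false
set_option linter.style.haveILetI false
universe u

open CategoryTheory CategoryTheory.Limits AlgebraicGeometry Polynomial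
open Groth.Agent.LimTop61 (HasRoots)

namespace Groth.Agent.Cons51

theorem hasRoots_of_surjective {A B : Type u} [CommRing A] [CommRing B] (f : A →+* B)
    (hf : Function.Surjective f) (h : HasRoots A) : HasRoots B := by
  intro P hP h0
  rcases subsingleton_or_nontrivial B with hB | hB
  · exact ⟨0, Subsingleton.elim _ _⟩
  obtain ⟨Q, hQ, hQd, hQm⟩ := lifts_and_natDegree_eq_and_monic (f := f) (p := P)
    (map_surjective f hf P) hP
  obtain ⟨a, ha⟩ := h Q hQm (by rw [hQd]; exact h0)
  exact ⟨f a, by rw [← hQ, Polynomial.eval_map, eval₂_at_apply, ha, map_zero]⟩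

theorem isAlgClosed_of_hasRoots {K : Type u} [Field K] (h : HasRoots K) : IsAlgClosed K :=
  IsAlgClosed.of_exists_root _ fun P hP hirr => h P hP hirr.natDegree_pos.ne'

/-- Monic polynomials have roots and every element has an idempotent support. -/
structure IdemAIC (C : Type u) [CommRing C] : Prop where
  roots : HasRoots C
  supp : ∀ a : C, ∃ e, IsIdempotentElem e ∧ e * a = a ∧ ∀ b, a * b = 0 → e * b = 0

variable {C : Type u} [CommRing C] (hC : IdemAIC C)

include hC in
theorem IdemAIC.isPrime (x : Ideal C) [hx : x.IsPrime] : (idemIdeal x).IsPrime := by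
  refine ⟨fun h => hx.ne_top (top_le_iff.1 (h ▸ idemIdeal_le x)), fun {a b} hab => ?_⟩
  obtain ⟨e', he', he'x, hab'⟩ := hab
  obtain ⟨e, he, hea, hz⟩ := hC.supp ((1 - e') * a)
  have heb : e * b = 0 := hz b (by linear_combination -hab')
  by_cases hex : e ∈ x
  · left
    have h1 : (1 - e') * a ∈ idemIdeal x := ⟨e, he, hex, hea⟩
    have h2 : e' * a ∈ idemIdeal x := ⟨e', he', he'x, by rw [← mul_assoc, he'.eq]⟩
    have e0 : (1 - e') * a + e' * a = a := by ring
    exact e0 ▸ (idemIdeal x).add_mem h1 h2
  · right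
    refine ⟨1 - e, he.one_sub, ?_, by rw [sub_mul, one_mul, heb, sub_zero]⟩
    have h0 : e * (1 - e) ∈ x := by rw [mul_sub, mul_one, he.eq, sub_self]; exact x.zero_mem
    exact (hx.mem_or_mem h0).resolve_left hex

theorem eq_zero_of_mem_idemIdeal (x : Ideal C) [hx : x.IsPrime] {a : C} (ha : a ∈ idemIdeal x) :
    algebraMap C (Localization.AtPrime x) a = 0 := by
  obtain ⟨e, he, hex, hea⟩ := ha
  refine (IsLocalization.map_eq_zero_iff x.primeCompl _ a).2 ⟨⟨1 - e, fun h1 =>
    hx.ne_top ((Ideal.eq_top_iff_one _).2 (by simpa using x.add_mem h1 hex))⟩, ?_⟩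
  show (1 - e) * a = 0
  rw [sub_mul, one_mul, hea, sub_self]

include hC in
theorem IdemAIC.isDomain_localization (x : Ideal C) [hx : x.IsPrime] : IsDomain (Localization.AtPrime x) := by
  have := hC.isPrime x
  have : NoZeroDivisors (Localization.AtPrime x) := ⟨fun {y z} hyz => by
    obtain ⟨a, s, rfl⟩ := IsLocalization.exists_mk'_eq x.primeCompl y
    obtain ⟨b, t, rfl⟩ := IsLocalization.exists_mk'_eq x.primeCompl z
    rw [← IsLocalization.mk'_mul, IsLocalization.mk'_eq_zero_iff] at hyz
    obtain ⟨m, hm⟩ := hyz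
    have h0 : m.1 * (a * b) ∈ idemIdeal x := hm ▸ (idemIdeal x).zero_mem
    rcases this.mem_or_mem ((this.mem_or_mem h0).resolve_left fun hh => m.2 (idemIdeal_le x hh)) with h | h
    · left
      rw [IsLocalization.mk'_eq_mul_mk'_one, eq_zero_of_mem_idemIdeal x h, zero_mul]
    · right
      rw [IsLocalization.mk'_eq_mul_mk'_one, eq_zero_of_mem_idemIdeal x h, zero_mul]⟩
  exact NoZeroDivisors.to_isDomain _

include hC in
theorem IdemAIC.strictHens (x : PrimeSpectrum C) :
    EtCoh.IsStrictlyHenselianLocalRing (Localization.AtPrime x.asIdeal) := by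
  have := hC.isDomain_localization x.asIdeal
  let L := Localization.AtPrime x.asIdeal
  have hL : HasRoots L := hC.roots.localization x.asIdeal.primeCompl L
  have := isIntegrallyClosed_of_hasRoots hL
  have := isAlgClosed_of_hasRoots (hL.localization (nonZeroDivisors L) (FractionRing L))
  exact ⟨SepCl83.henselian (A := L) (FractionRing L), isSepClosed_residue_of_hasRoots hL⟩

theorem isSepClosed_functionField_hasRoots (R : CommRingCat.{u}) [IsDomain R] (h : HasRoots R) :
    IsSepClosed (Spec R).functionField := by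
  have := isAlgClosed_of_hasRoots (h.localization (nonZeroDivisors R) ((Spec R).functionField : Type u))
  infer_instance

/-- Closed subschemes of spectra of domains with roots. -/
theorem finEtSections_of_hasRoots {E D : Type u} [CommRing E] [IsDomain E] [CommRing D] (hE : HasRoots E)
    (ψ : E →+* D) (hψ : Function.Surjective ψ) : FinEtSections (Spec (CommRingCat.of D)) := by
  intro V φ _ _ _
  have hN : ∀ z : Spec (CommRingCat.of E), IsIntegrallyClosed ((Spec (CommRingCat.of E)).presheaf.stalk z) := fun z => by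
    refine isIntegrallyClosed_of_hasRoots (hasRoots_of_ringEquiv (StructureSheaf.stalkIso E z).toRingEquiv ?_)
    exact hE.localization z.asIdeal.primeCompl _
  have : IsSepClosed (Spec (CommRingCat.of E)).functionField :=
    isSepClosed_functionField_hasRoots (CommRingCat.of E) hE
  have : IsClosedImmersion (Spec.map (CommRingCat.ofHom ψ)) := IsClosedImmersion.spec_of_surjective _ hψ
  exact finEtSections_of_closed hN (Spec.map (CommRingCat.ofHom ψ)) φ

include hC in
theorem IdemAIC.finEtSections {W : Scheme.{u}} [IsAffine W] (φ : C →+* Γ(W, ⊤))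
    (hφ : ∀ d, ∃ c s, IsUnit (φ s) ∧ d * φ s = φ c) : FinEtSections W := by
  refine finEtSections_of_idem fun p hp => ?_
  let x := p.comap φ
  have hI := hC.isPrime x
  let π : Γ(W, ⊤) →+* Γ(W, ⊤) ⧸ idemIdeal p := Ideal.Quotient.mk _
  have hle : idemIdeal x ≤ RingHom.ker (π.comp φ) := fun c ⟨e, he, hex, hec⟩ =>
    Ideal.Quotient.eq_zero_iff_mem.2 ⟨φ e, he.map φ, hex, by rw [← map_mul, hec]⟩
  let R := C ⧸ idemIdeal x
  let ψ₀ : R →+* Γ(W, ⊤) ⧸ idemIdeal p := Ideal.Quotient.lift _ (π.comp φ) hle
  let M : Submonoid R :=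
    { carrier := {r | IsUnit (ψ₀ r)}
      one_mem' := by simp
      mul_mem' := fun {a b} ha hb => by
        show IsUnit (ψ₀ (a * b))
        rw [map_mul]
        exact ha.mul hb }
  have : Nontrivial (Γ(W, ⊤) ⧸ idemIdeal p) :=
    Ideal.Quotient.nontrivial_iff.2 fun h => hp.ne_top (top_le_iff.1 (h ▸ idemIdeal_le p))
  have hM : M ≤ nonZeroDivisors R := fun r hr => mem_nonZeroDivisors_of_ne_zero fun h0 => by
    have h1 : IsUnit (ψ₀ r) := hr
    rw [h0, map_zero] at h1
    exact not_isUnit_zero h1
  have : IsDomain (Localization M) := IsLocalization.isDomain_localization hM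
  have hR : HasRoots R := hasRoots_of_surjective _ Ideal.Quotient.mk_surjective hC.roots
  intro V v _ _ _
  refine finEtSections_of_hasRoots (hR.localization M (Localization M))
    (IsLocalization.lift (g := ψ₀) (fun y : M => y.2)) (fun d => ?_) v
  obtain ⟨d, rfl⟩ := Ideal.Quotient.mk_surjective d
  obtain ⟨c, s, hs, hds⟩ := hφ d
  have hsM : (Ideal.Quotient.mk (idemIdeal x) s : R) ∈ M := hs.map π
  refine ⟨IsLocalization.mk' _ (Ideal.Quotient.mk (idemIdeal x) c : R) ⟨_, hsM⟩, ?_⟩
  refine (IsLocalization.lift_mk'_spec _ _ _ _).2 ?_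
  show π (φ c) = π (φ s) * π d
  rw [← map_mul, ← hds, mul_comm]

include hC in
/-- Theorem A for products of absolutely integrally closed domains. -/
theorem IdemAIC.subsingleton_H {T : Scheme.{u}} (j : T ⟶ Spec (CommRingCat.of C)) [IsClosedImmersion j]
    {F : EtCoh.Ab T} (hF : EtCoh.IsFiniteLocallyConstant F) {n : ℕ} [NeZero n] (hn : EtCoh.KilledBy n F) (q : ℕ) :
    Subsingleton (EtCoh.H T F (q + 1)) := by
  obtain ⟨hT, hj⟩ := IsClosedImmersion.isAffine_surjective_of_isAffine j
  refine EtCore45.MV.subsingleton_H_of_inj1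
    (fun z => strictHens_closed (fun x => EtCore45.strictHens_stalk x (hC.strictHens x)) j z) F
    (EtCore45.MV.inj1_of_hker F fun f g ξ _ _ => ?_) q
  let h := f + g
  have hW : IsAffineOpen (T.basicOpen h) := (isAffineOpen_top T).basicOpen h
  have : IsAffine (T.basicOpen h).toScheme := hW
  let A := Γ(T, ⊤)
  let e := (T.basicOpen h).topIso
  let ρ : A →+* Γ(T, T.basicOpen h) := algebraMap A _
  let φ : C →+* Γ((T.basicOpen h).toScheme, ⊤) :=
    e.inv.hom.comp (ρ.comp (j.appTop.hom.comp (Scheme.ΓSpecIso (CommRingCat.of C)).inv.hom))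
  have := (isAffineOpen_top T).isLocalization_basicOpen h
  have hsur : Function.Surjective (j.appTop.hom.comp (Scheme.ΓSpecIso (CommRingCat.of C)).inv.hom) :=
    hj.comp (ConcreteCategory.bijective_of_isIso (Scheme.ΓSpecIso (CommRingCat.of C)).inv).2
  have hsec : FinEtSections (T.basicOpen h).toScheme := hC.finEtSections φ fun d => by
    obtain ⟨⟨a, ⟨_, k, rfl⟩⟩, hd⟩ := IsLocalization.surj (Submonoid.powers h) (e.hom d)
    obtain ⟨c, hc⟩ := hsur a
    obtain ⟨s, hs⟩ := hsur (h ^ k)
    refine ⟨c, s, ?_, ?_⟩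
    · show IsUnit (e.inv.hom (ρ _))
      rw [hs]
      exact (IsLocalization.map_units _ (⟨_, k, rfl⟩ : Submonoid.powers h)).map e.inv.hom
    · show d * e.inv.hom (ρ _) = e.inv.hom (ρ _)
      rw [hs, hc]
      apply (ConcreteCategory.bijective_of_isIso e.hom).1
      rw [map_mul]
      simpa [ρ] using hd
  have := subsingleton_H1_flc hsec
    (LocConst45.isFiniteLocallyConstant_pull (T.basicOpen h).ι hF) (killedBy_pull _ hn)
  exact this.elim _ _

section Integ

open LimTop61.AbsClosure

open Classical in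
theorem idemAIC_integ (S : Scheme.{u}) (U : S.Opens) : IdemAIC (integ S U) := by
  refine ⟨hasRoots_integ S U, fun a => ?_⟩
  let e : Prd S U := fun p => if a.1 p = 0 then 0 else 1
  have he : e ∈ integ S U := by
    let := (ev S U).toAlgebra
    have h2 : e ^ 2 - e = 0 := funext fun p => by
      by_cases h : a.1 p = 0 <;> simp [e, h]
    exact ⟨X ^ 2 - X, monic_X_pow_sub (degree_X_le.trans_lt (by norm_num)), by simpa using h2⟩
  refine ⟨⟨e, he⟩, Subtype.ext (funext fun p => ?_), Subtype.ext (funext fun p => ?_),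
    fun b hb => Subtype.ext (funext fun p => ?_)⟩
  · change e p * e p = e p
    by_cases h : a.1 p = 0 <;> simp [e, h]
  · change e p * a.1 p = a.1 p
    by_cases h : a.1 p = 0 <;> simp [e, h]
  · change e p * b.1 p = 0
    have h0 : a.1 p * b.1 p = 0 := congrFun (congrArg Subtype.val hb) p
    rcases mul_eq_zero.1 h0 with h | h <;> simp [e, h]

end Integ

end Groth.Agent.Cons51
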