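import Groth.Agent.Cons51.SectFinEt
import Mathlib.RingTheory.Ideal.Quotient.Operations
import Mathlib.RingTheory.FinitePresentation
import Mathlib.AlgebraicGeometry.AffineScheme

/-!
Sections of finite étale coverings glue along idempotents.
-/

set_option autoImplicit false
set_option backward.isDefEq.respectTransparency.types false
set_option linter.style.haveILetI false
universe u

open CategoryTheory CategoryTheory.Limits AlgebraicGeometry

namespace Groth.Agent.Cons51

variable {D : Type u} [CommRing D]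

theorem isIdempotentElem_join {e e' : D} (h : IsIdempotentElem e) (h' : IsIdempotentElem e') :
    IsIdempotentElem (e + e' - e * e') := by
  unfold IsIdempotentElem at *
  linear_combination (1 - 2 * e' + e' * e') * h + (1 - e) * h'

theorem join_mul_left {e e' c : D} (h : e * c = c) : (e + e' - e * e') * c = c := by
  linear_combination (1 - e') * h

theorem join_mul_right {e e' c : D} (h : e' * c = c) : (e + e' - e * e') * c = c := by
  linear_combination (1 - e) * h

/-- Elements fixed by an idempotent lying in a set closed under join. -/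
def idemIdeal (p : Ideal D) : Ideal D where
  carrier := {c | ∃ e, IsIdempotentElem e ∧ e ∈ p ∧ e * c = c}
  zero_mem' := ⟨0, IsIdempotentElem.zero, p.zero_mem, mul_zero _⟩
  add_mem' := by
    rintro a b ⟨e, he, hep, hea⟩ ⟨e', he', he'p, heb⟩
    refine ⟨e + e' - e * e', isIdempotentElem_join he he', p.sub_mem (p.add_mem hep he'p) (p.mul_mem_left _ he'p), ?_⟩
    rw [mul_add, join_mul_left hea, join_mul_right heb]
  smul_mem' := by
    rintro r a ⟨e, he, hep, hea⟩
    exact ⟨e, he, hep, by rw [smul_eq_mul, mul_left_comm, hea]⟩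

theorem idemIdeal_le (p : Ideal D) : idemIdeal p ≤ p := fun c ⟨_, _, hep, hec⟩ => hec ▸ p.mul_mem_right _ hep

theorem exists_idem_finset {p : Ideal D} {ι : Type*} (s : Finset ι) (c : ι → D) (h : ∀ i ∈ s, c i ∈ idemIdeal p) :
    ∃ e, IsIdempotentElem e ∧ e ∈ p ∧ ∀ i ∈ s, e * c i = c i := by
  classical
  induction s using Finset.induction_on with
  | empty => exact ⟨0, IsIdempotentElem.zero, p.zero_mem, by simp⟩
  | @insert a s _ ih =>
    obtain ⟨e', he', he'p, hes⟩ := ih fun i hi => h i (Finset.mem_insert_of_mem hi)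
    obtain ⟨e, he, hep, hea⟩ := h a (Finset.mem_insert_self a s)
    refine ⟨e + e' - e * e', isIdempotentElem_join he he', p.sub_mem (p.add_mem hep he'p) (p.mul_mem_left _ he'p),
      fun i hi => ?_⟩
    rcases Finset.mem_insert.1 hi with rfl | hi
    · exact join_mul_left hea
    · exact join_mul_right (hes i hi)

variable {B : Type u} [CommRing B] [Algebra D B]

variable (B) in
/-- There is a section over the piece cut out by `f`. -/
def Good (f : D) : Prop := IsIdempotentElem f ∧ Nonempty (B →ₐ[D] D ⧸ Ideal.span {1 - f})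

theorem good_zero : Good B (0 : D) := by
  have : Subsingleton (D ⧸ Ideal.span {(1 - 0 : D)}) := Ideal.Quotient.subsingleton_iff.2 (by simp)
  refine ⟨IsIdempotentElem.zero, ⟨?_⟩⟩
  exact
    { toFun := fun _ => 0
      map_one' := Subsingleton.elim _ _
      map_mul' := fun _ _ => Subsingleton.elim _ _
      map_zero' := rfl
      map_add' := fun _ _ => Subsingleton.elim _ _
      commutes' := fun _ => Subsingleton.elim _ _ }

theorem Good.join {f g : D} (hf : Good B f) (hg : Good B g) : Good B (f + g - f * g) := by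
  obtain ⟨hfi, ⟨v⟩⟩ := hf
  obtain ⟨hgi, ⟨w⟩⟩ := hg
  refine ⟨isIdempotentElem_join hfi hgi, ?_⟩
  let g' := g - f * g
  have hle : Ideal.span {1 - g} ≤ Ideal.span {1 - g'} := Ideal.span_le.2 (Set.singleton_subset_iff.2
    (Ideal.mem_span_singleton.2 ⟨1 - g, by linear_combination (f - 1) * hgi.eq⟩))
  let I := Ideal.span {1 - f}
  let J := Ideal.span {1 - g'}
  have hco : IsCoprime I J := Ideal.isCoprime_iff_exists.2 ⟨1 - f, Ideal.mem_span_singleton_self _,
    f * (1 - g'), Ideal.mul_mem_left _ _ (Ideal.mem_span_singleton_self _), by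
      linear_combination g * hfi.eq⟩
  have hIJ : I ⊓ J = Ideal.span {1 - (f + g - f * g)} := by
    rw [Ideal.inf_eq_mul_of_isCoprime hco, Ideal.span_singleton_mul_span_singleton]
    congr 2
    linear_combination -g * hfi.eq
  let e := Ideal.quotientInfEquivQuotientProd I J hco
  let w' : B →ₐ[D] D ⧸ J := (Ideal.Quotient.factorₐ D hle).comp w
  let r : B →+* D ⧸ (I ⊓ J) := e.symm.toRingHom.comp (v.toRingHom.prod w'.toRingHom)
  have hr : ∀ d, r (algebraMap D B d) = algebraMap D (D ⧸ (I ⊓ J)) d := fun d => by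
    apply e.injective
    refine (e.apply_symm_apply _).trans ?_
    exact Prod.ext ((v.commutes d).trans rfl) ((w'.commutes d).trans rfl)
  exact ⟨(Ideal.quotientEquivAlgOfEq D hIJ).toAlgHom.comp { r with commutes' := hr }⟩

/-- A finitely presented algebra with sections near every prime up to idempotents has a section. -/
theorem exists_algHom_of_idem [Algebra.FinitePresentation D B]
    (h : ∀ (p : Ideal D) [p.IsPrime], Nonempty (B →ₐ[D] D ⧸ idemIdeal p)) : Nonempty (B →ₐ[D] D) := by
  classical
  have hloc : ∀ (p : Ideal D) [p.IsPrime], ∃ f, f ∉ p ∧ Good B f := by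
    intro p hp
    obtain ⟨v⟩ := h p
    obtain ⟨n, q, hq, hker⟩ := Algebra.FinitePresentation.out (R := D) (A := B)
    obtain ⟨s, hs⟩ := hker
    choose c hc using fun i : Fin n => Ideal.Quotient.mk_surjective (v (q (MvPolynomial.X i)))
    let P : MvPolynomial (Fin n) D →ₐ[D] D := MvPolynomial.aeval c
    have hP : (Ideal.Quotient.mkₐ D (idemIdeal p)).comp P = v.comp q := MvPolynomial.algHom_ext fun i => by
      show Ideal.Quotient.mk _ (P (MvPolynomial.X i)) = _
      rw [MvPolynomial.aeval_X]
      exact hc i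
    obtain ⟨e, he, hep, hes⟩ := exists_idem_finset (p := p) s P fun x hx => by
      refine Ideal.Quotient.eq_zero_iff_mem.1 ?_
      have hx0 : q x = 0 := (hs.le (Ideal.subset_span hx) : x ∈ RingHom.ker q.toRingHom)
      exact (AlgHom.congr_fun hP x).trans (by simp [hx0])
    refine ⟨1 - e, fun hmem => hp.ne_top ((Ideal.eq_top_iff_one _).2 (by simpa using p.add_mem hmem hep)),
      he.one_sub, ?_⟩
    let I := Ideal.span {1 - (1 - e)}
    let P' := (Ideal.Quotient.mkₐ D I).comp P
    have hle : RingHom.ker q.toRingHom ≤ RingHom.ker P'.toRingHom := by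
      refine hs ▸ Ideal.span_le.2 fun x hx => Ideal.Quotient.eq_zero_iff_mem.2 ?_
      refine Ideal.mem_span_singleton.2 ⟨P x, ?_⟩
      rw [sub_sub_cancel]
      exact (hes x hx).symm
    exact ⟨AlgHom.liftOfSurjective q hq P' hle⟩
  let Q : Ideal D :=
    { carrier := {c | ∃ f, Good B f ∧ f * c = c}
      zero_mem' := ⟨0, good_zero, mul_zero _⟩
      add_mem' := by
        rintro a b ⟨e, he, hea⟩ ⟨e', he', heb⟩
        exact ⟨_, he.join he', by rw [mul_add, join_mul_left hea, join_mul_right heb]⟩
      smul_mem' := by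
        rintro r a ⟨e, he, hea⟩
        exact ⟨e, he, by rw [smul_eq_mul, mul_left_comm, hea]⟩ }
  by_cases hQ : (1 : D) ∈ Q
  · obtain ⟨f, ⟨-, ⟨v⟩⟩, hf⟩ := hQ
    rw [mul_one] at hf
    subst hf
    refine ⟨AlgHom.comp ?_ v⟩
    exact ((Ideal.quotientEquivAlgOfEq D (show Ideal.span {(1 - 1 : D)} = ⊥ by simp)).trans
      (AlgEquiv.quotientBot D D)).toAlgHom
  · obtain ⟨m, hm, hle⟩ := Q.exists_le_maximal fun hh => hQ (hh ▸ Submodule.mem_top)
    obtain ⟨f, hfm, hf⟩ := hloc m
    exact (hfm (hle ⟨f, hf, hf.1⟩)).elim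

/-- Finite étale coverings of an affine scheme have sections if they have sections near every prime up to
idempotents. -/
theorem finEtSections_of_idem {W : Scheme.{u}} [IsAffine W]
    (h : ∀ (p : Ideal Γ(W, ⊤)) [p.IsPrime], FinEtSections (Spec (CommRingCat.of (Γ(W, ⊤) ⧸ idemIdeal p)))) :
    FinEtSections W := by
  intro V φ _ _ _
  have : IsAffine V := isAffine_of_isAffineHom φ
  let D := Γ(W, ⊤)
  let B := Γ(V, ⊤)
  algebraize [φ.appTop.hom]
  have : Algebra.FinitePresentation D B :=
    (HasRingHomProperty.iff_of_isAffine (P := @LocallyOfFinitePresentation)).1 (inferInstanceAs (LocallyOfFinitePresentation φ))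
  obtain ⟨v⟩ := exists_algHom_of_idem (D := D) (B := B) fun p hp => by
    let π : D →+* D ⧸ idemIdeal p := Ideal.Quotient.mk _
    let j : Spec (CommRingCat.of (D ⧸ idemIdeal p)) ⟶ W := Spec.map (CommRingCat.ofHom π) ≫ W.isoSpec.inv
    obtain ⟨t, ht⟩ := h p (pullback.snd φ j)
    let l := t ≫ pullback.fst φ j
    have hl : l ≫ φ = j := by
      rw [Category.assoc, pullback.condition, reassoc_of% ht]
    have hl' : l = Spec.map (Spec.preimage (l ≫ V.isoSpec.hom)) ≫ V.isoSpec.inv := by
      rw [Spec.map_preimage, Category.assoc, Iso.hom_inv_id, Category.comp_id]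
    let v := Spec.preimage (l ≫ V.isoSpec.hom)
    have hv : φ.appTop ≫ v = CommRingCat.ofHom π := by
      apply Spec.map_injective
      rw [← cancel_mono W.isoSpec.inv, Spec.map_comp, Category.assoc, Scheme.isoSpec_inv_naturality,
        ← Category.assoc, ← hl']
      exact hl
    exact ⟨{ v.hom with commutes' := fun d => ConcreteCategory.congr_hom hv d }⟩
  refine ⟨W.isoSpec.hom ≫ Spec.map (CommRingCat.ofHom v.toRingHom) ≫ V.isoSpec.inv, ?_⟩
  rw [Category.assoc, Category.assoc, ← Scheme.isoSpec_inv_naturality, ← Spec.map_comp_assoc]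
  rw [show φ.appTop ≫ CommRingCat.ofHom v.toRingHom = 𝟙 _ from CommRingCat.hom_ext (RingHom.ext v.commutes),
    Spec.map_id, Category.id_comp, Iso.hom_inv_id]

end Groth.Agent.Cons51
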