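import Groth.Agent.Cons51.Embed
import Groth.Agent.Cons51.Noeth
import Groth.Agent.Cons51.Present
import Groth.Agent.NagaNorm57.Scheme
import Groth.Agent.NormY57.Scheme
import Mathlib.AlgebraicGeometry.Morphisms.QuasiFinite

/-!
Direct images of constructible sheaves along quasi-finite morphisms over Nagata bases.
-/

set_option autoImplicit false
set_option backward.isDefEq.respectTransparency.types false
universe u

open CategoryTheory CategoryTheory.Limits AlgebraicGeometry Opposite TopologicalSpace IsLocalRing
open Groth.Agent.Unr55.EtSh Groth.Agent.EtCore45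
open Groth.Agent.Norm57 (IsMax')

namespace Groth.Agent.Cons51

variable {X Y : Scheme.{u}}

theorem finite_residueFieldMap (f : X ⟶ Y) [LocallyQuasiFinite f] (x : X) :
    (f.residueFieldMap x).hom.Finite := by
  have h1 : ((X.residue x).hom.comp (f.stalkMap x).hom).QuasiFinite :=
    (RingHom.QuasiFinite.of_finite (RingHom.Finite.of_surjective _ (X.residue_surjective x))).comp
      (Scheme.Hom.quasiFiniteAt f x)
  have e : (X.residue x).hom.comp (f.stalkMap x).hom =
      (f.residueFieldMap x).hom.comp (Y.residue (f x)).hom :=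
    (congrArg CommRingCat.Hom.hom (Scheme.residue_residueFieldMap f x)).symm
  rw [e] at h1
  have h2 := RingHom.QuasiFinite.of_comp h1
  algebraize [(f.residueFieldMap x).hom]
  exact RingHom.finite_algebraMap.2 (Module.Finite.of_quasiFinite (R := Y.residueField (f x)))

theorem residueFieldMap_surjective' (f : X ⟶ Y) [SurjectiveOnStalks f] (x : X) :
    Function.Surjective (f.residueFieldMap x) := by
  intro b
  obtain ⟨a, rfl⟩ := X.residue_surjective x b
  obtain ⟨c, rfl⟩ := f.stalkMap_surjective x a
  exact ⟨Y.residue (f x) c, ConcreteCategory.congr_hom (Scheme.residue_residueFieldMap f x) c⟩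

variable {L : Type u} [Field L] (f : Spec (CommRingCat.of L) ⟶ X)

theorem residueFieldMap_toNormalization_surjective [QuasiCompact f] (z : Spec (CommRingCat.of L))
    (hint : (f.residueFieldMap z).hom.Finite) :
    Function.Surjective (f.toNormalization.residueFieldMap z) := by
  let S := Spec (CommRingCat.of L)
  have hsub : Subsingleton S := inferInstanceAs (Subsingleton (PrimeSpectrum L))
  obtain ⟨U, hU, hzU, -⟩ := exists_isAffineOpen_mem_and_subset (X := X) (x := f z) (U := ⊤) trivial
  let := (f.app U).hom.toAlgebra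
  let A := Γ(X, U)
  let B := Γ(S, f ⁻¹ᵁ U)
  let tN := f.toNormalization
  let V := f.fromNormalization ⁻¹ᵁ U
  have hpre : tN ⁻¹ᵁ V = f ⁻¹ᵁ U := by
    rw [← Scheme.Hom.comp_preimage, f.toNormalization_fromNormalization]
  have htop : f ⁻¹ᵁ U = ⊤ := Opens.ext (Set.eq_univ_of_forall fun t => hsub.elim z t ▸ hzU)
  let ev : B →+* S.residueField z := (S.evaluation (f ⁻¹ᵁ U) z hzU).hom
  have hev : Function.Surjective ev := fun b => by
    have hA : IsAffineOpen (f ⁻¹ᵁ U) := by rw [htop]; exact isAffineOpen_top S
    let := S.presheaf.algebra_section_stalk (U := f ⁻¹ᵁ U) ⟨z, hzU⟩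
    have := hA.isLocalization_stalk ⟨z, hzU⟩
    obtain ⟨a, rfl⟩ := S.residue_surjective z b
    obtain ⟨⟨r, s⟩, hrs⟩ := IsLocalization.surj (hA.primeIdealOf ⟨z, hzU⟩).asIdeal.primeCompl a
    let e : B ≃+* L :=
      (S.presheaf.mapIso (eqToIso htop).symm.op ≪≫ Scheme.ΓSpecIso (CommRingCat.of L)).commRingCatIsoToRingEquiv
    have hF : IsField B := e.toMulEquiv.isField (Field.toIsField L)
    obtain ⟨s', hs'⟩ := hF.mul_inv_cancel (a := (s : B)) fun h0 => s.2 (by rw [h0]; exact zero_mem _)
    refine ⟨r * s', ?_⟩
    show S.residue z (algebraMap B (S.presheaf.stalk z) (r * s')) = S.residue z a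
    rw [map_mul, ← hrs, mul_assoc, ← map_mul, hs', map_one, mul_one]
  have hevi : Function.Injective ev := by
    let e : B ≃+* L :=
      (S.presheaf.mapIso (eqToIso htop).symm.op ≪≫ Scheme.ΓSpecIso (CommRingCat.of L)).commRingCatIsoToRingEquiv
    let := (e.toMulEquiv.isField (Field.toIsField L)).toField
    exact ev.injective
  let φ : A →+* S.residueField z := ev.comp (f.app U).hom
  let F := (tN.residueFieldMap z).hom.range
  have hR : ∀ r : integralClosure A B, ev r.1 ∈ F := by
    intro r
    let s : Γ(f.normalization, V) := (f.normalizationObjIso hU).inv r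
    have hs : tN.appLE V (f ⁻¹ᵁ U) hpre.ge s = r.1 := by
      have := ConcreteCategory.congr_hom (f.normalizationObjIso_hom_val hU) s
      rw [ConcreteCategory.comp_apply] at this
      refine Eq.trans this.symm ?_
      show (((f.normalizationObjIso hU).inv ≫ (f.normalizationObjIso hU).hom) r).1 = r.1
      rw [Iso.inv_hom_id]
      rfl
    have hzV : tN z ∈ V := by
      have : z ∈ tN ⁻¹ᵁ V := by rw [hpre]; exact hzU
      exact this
    refine ⟨f.normalization.evaluation V (tN z) hzV s, ?_⟩
    show tN.residueFieldMap z _ = _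
    rw [Scheme.evaluation_naturality_apply, ← hs]
    have e := S.presheaf.germ_res_apply (homOfLE hpre.ge) z hzU (tN.app V s)
    exact (congrArg (S.residue z) e).symm
  have hker : ∀ a : A, ev (algebraMap A B a) = φ a := fun a => rfl
  intro l
  let := X.presheaf.algebra_section_stalk (U := U) ⟨f z, hzU⟩
  have := hU.isLocalization_stalk ⟨f z, hzU⟩
  let ψ : X.presheaf.stalk (f z) →+* S.residueField z := (f.residueFieldMap z).hom.comp (X.residue (f z)).hom
  let : Algebra (X.presheaf.stalk (f z)) (S.residueField z) := ψ.toAlgebra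
  let : Algebra A (S.residueField z) := φ.toAlgebra
  have hφψ : ∀ a : A, φ a = ψ (algebraMap A (X.presheaf.stalk (f z)) a) := fun a =>
    (Scheme.evaluation_naturality_apply f z hzU a).symm
  have : IsScalarTower A (X.presheaf.stalk (f z)) (S.residueField z) := .of_algebraMap_eq hφψ
  have hl : IsIntegral (X.presheaf.stalk (f z)) l :=
    (RingHom.IsIntegral.trans (X.residue (f z)).hom (f.residueFieldMap z).hom
      (RingHom.isIntegral_of_surjective _ (X.residue_surjective _)) hint.to_isIntegral) l
  obtain ⟨m, hm⟩ := IsIntegral.exists_multiple_integral_of_isLocalization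
    (hU.primeIdealOf ⟨f z, hzU⟩).asIdeal.primeCompl l hl
  obtain ⟨r, hr⟩ := hev (φ m.1 * l)
  have hri : IsIntegral A r := by
    obtain ⟨P, hP, hP'⟩ := hm
    refine ⟨P, hP, hevi ?_⟩
    rw [map_zero, Polynomial.hom_eval₂, hr]
    refine Eq.trans ?_ hP'
    congr 1
  have hm0 : φ m.1 ≠ 0 := by
    rw [hφψ]
    exact ((IsLocalization.map_units (X.presheaf.stalk (f z)) m).map ψ).ne_zero
  have h1 : φ m.1 ∈ F := hker m.1 ▸ hR ⟨algebraMap A B m.1, isIntegral_algebraMap⟩
  have h2 : φ m.1 * l ∈ F := hr ▸ hR ⟨r, hri⟩
  obtain ⟨a, ha⟩ := h1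
  obtain ⟨b, hb⟩ := h2
  refine ⟨b / a, ?_⟩
  show (tN.residueFieldMap z).hom (b / a) = l
  rw [map_div₀, ha, hb, mul_div_cancel_left₀ _ hm0]

theorem isIso_unit_preimmersion_generic [IsIntegral X] (hN : ∀ x : X, IsIntegrallyClosed (X.presheaf.stalk x))
    {U : Scheme.{u}} (g : U ⟶ X) [IsPreimmersion g] (hr : Set.range g = {genericPoint X})
    (M : AddCommGrpCat.{u + 1}) : IsIso ((EtCoh.pullPushAdj g).unit.app (cst M)) := by
  refine isIso_unit_cst _ (fun W => have : Etale W.hom := W.prop; locIrr_etale_normal hN W.hom)
    (fun W hW => irreducibleSpace_bc _ W ?_) M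
  have : Etale W.hom := W.prop
  rw [hr]
  obtain ⟨w⟩ := (inferInstance : Nonempty W.left)
  obtain ⟨a, ha, -⟩ := exists_generalization_over_generic (X := X) W.hom w
  refine ⟨⟨a, ha⟩, ?_⟩
  let wh : W.left ⟶ X := W.hom
  have : Etale wh := W.prop
  have : IrreducibleSpace ↥((𝟭 Scheme.{u}).obj W.left) := hW
  have e : W.hom ⁻¹' {genericPoint X} = {a} := by
    refine Set.eq_singleton_iff_unique_mem.2 ⟨ha, fun b hb => ?_⟩
    exact (eq_of_specializes_over_generic wh hb (genericPoint_specializes b)).symm.trans
      (eq_of_specializes_over_generic wh ha (genericPoint_specializes a))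
  rw [e]
  exact isPreirreducible_singleton

theorem isPreimmersion_toNormalization [QuasiCompact f] (hint : ∀ z, (f.residueFieldMap z).hom.Finite) :
    IsPreimmersion f.toNormalization := by
  have hsub : Subsingleton (Spec (CommRingCat.of L)) := inferInstanceAs (Subsingleton (PrimeSpectrum L))
  have : SurjectiveOnStalks f.toNormalization := ⟨fun z => by
    intro a
    obtain ⟨b, hb⟩ := residueFieldMap_toNormalization_surjective f z (hint z) ((Spec (CommRingCat.of L)).residue z a)
    obtain ⟨c, rfl⟩ := f.normalization.residue_surjective _ b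
    refine ⟨c, ?_⟩
    have e := (ConcreteCategory.congr_hom (Scheme.residue_residueFieldMap f.toNormalization z) c).symm.trans hb
    let z' : PrimeSpectrum L := z
    let i : Localization.AtPrime z'.asIdeal ≃+* (Spec (CommRingCat.of L)).presheaf.stalk z :=
      (Spec.stalkIso (CommRingCat.of L) z').symm.commRingCatIsoToRingEquiv
    have hF : IsField ((Spec (CommRingCat.of L)).presheaf.stalk z) :=
      have : IsLocalization z'.asIdeal.primeCompl L :=
        IsLocalization.self fun a ha => isUnit_iff_ne_zero.2 fun h0 => ha (h0 ▸ zero_mem _)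
      i.symm.toMulEquiv.isField ((IsLocalization.algEquiv z'.asIdeal.primeCompl (Localization.AtPrime z'.asIdeal)
        L).toMulEquiv.isField (Field.toIsField _))
    let := hF.toField
    exact ((Spec (CommRingCat.of L)).residue z).hom.injective e⟩
  exact ⟨Topology.IsEmbedding.of_subsingleton _⟩

/-- Direct images of constant sheaves from points are constructible. -/
theorem isConstructible_push_point [IsNoetherian X] (hX : ∀ U : X.affineOpens, CAlg.IsNagata Γ(X, U))
    (hint : ∀ z, (f.residueFieldMap z).hom.Finite) (M : Type) [AddCommGroup M] [Finite M] :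
    EtPBC.IsConstructible ((EtCoh.push f).obj (EtCoh.const _ M)) := by
  have : QuasiCompact f := quasiCompact_of_compactSpace f
  have : IsNoetherian (Spec (CommRingCat.of L)) := inferInstance
  have hfin := NagaNorm57.locallyFinite_irreducibleComponents (X := Spec (CommRingCat.of L))
  have hnorm : Pi1.IsNormalScheme (Spec (CommRingCat.of L)) := fun z => by
    let z' : PrimeSpectrum L := z
    let i : Localization.AtPrime z'.asIdeal ≃+* (Spec (CommRingCat.of L)).presheaf.stalk z :=
      (Spec.stalkIso (CommRingCat.of L) z').symm.commRingCatIsoToRingEquiv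
    have := IsLocalization.isDomain_of_atPrime (Localization.AtPrime z'.asIdeal) z'.asIdeal
    have : IsIntegrallyClosed (Localization.AtPrime z'.asIdeal) :=
      isIntegrallyClosed_of_isLocalization _ z'.asIdeal.primeCompl z'.asIdeal.primeCompl_le_nonZeroDivisors
    exact ⟨i.symm.toMulEquiv.isDomain _, IsIntegrallyClosed.of_equiv i⟩
  let tN := f.toNormalization
  let π := f.fromNormalization
  have : IsFinite π := NagaNorm57.isFinite_fromNormalization f hX hfin fun z _ => (hint z).finiteType.essFiniteType
  have : LocallyOfFinitePresentation π := LocallyOfFinitePresentation.iff_locallyOfFiniteType.2 inferInstance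
  have : IsPreimmersion tN := isPreimmersion_toNormalization f hint
  have hsub : Subsingleton (Spec (CommRingCat.of L)) := inferInstanceAs (Subsingleton (PrimeSpectrum L))
  have hr : Set.range tN = {genericPoint f.normalization} := by
    have hr' : Set.range tN = {tN default} :=
      Set.eq_singleton_iff_unique_mem.2 ⟨⟨_, rfl⟩, by rintro _ ⟨t, rfl⟩; rw [hsub.elim t default]⟩
    rw [hr']
    congr 1
    refine ((genericPoint_spec f.normalization).eq ?_).symm
    have := f.toNormalization.denseRange.closure_range
    rw [hr'] at this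
    exact this
  let A := AddCommGrpCat.of (ULift.{u + 1} M)
  have := isIso_unit_preimmersion_generic (fun x => (NormY57.isNormalScheme_normalization f hnorm hfin x).2) tN hr A
  refine isConstructible_of_iso ?_ (isConstructible_push_finite π (isConstructible_of_flc (flc_const M)))
  have key : (EtCoh.push π).obj (EtCoh.const _ M) ≅ (EtCoh.push (tN ≫ π)).obj (EtCoh.const _ M) :=
    (EtCoh.push π).mapIso (asIso ((EtCoh.pullPushAdj tN).unit.app (cst A)) ≪≫
      (EtCoh.push tN).mapIso ((EtCore.pullConstIso tN).app A)) ≪≫
    (EtCoh.pushComp π tN).app (cst A)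
  exact key ≪≫ eqToIso (by rw [show tN ≫ π = f from f.toNormalization_fromNormalization])

/-- Restriction of locally constant functions to a point. -/
noncomputable def toPoint {W P : Scheme.{u}} (η : P ⟶ W) (A : AddCommGrpCat.{u + 1}) :
    Unr55.LC.lc (X := W) A ⟶ (EtCoh.push η).obj (Unr55.LC.lc A) :=
  ⟨{ app := fun U => AddCommGrpCat.ofHom (show
        LocallyConstant U.unop.left A →+ LocallyConstant ((EtCoh.bc η).obj U.unop).left A from
      LocallyConstant.comapAddMonoidHom (TopCat.Hom.hom (pullback.fst U.unop.hom η).base))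
     naturality := fun U V g => ConcreteCategory.hom_ext _ _ fun t => LocallyConstant.ext fun z => by
      exact congrArg (show LocallyConstant U.unop.left A from t) (fst_bc_map η g.unop z).symm }⟩

/-- A constant sheaf embeds in the direct images from the generic points of the components. -/
theorem exists_const_embedding (W : Scheme.{u}) [IsNoetherian W] (A : AddCommGrpCat.{u + 1}) :
    ∃ (m : ℕ) (w : Fin m → W)
      (ψ : cst (X := W) A ⟶ ⨁ fun i => (EtCoh.push (W.fromSpecResidueField (w i))).obj (cst A)), Mono ψ := by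
  have hfin := NagaNorm57.finite_isMax'_of_isCompact (NagaNorm57.locallyFinite_irreducibleComponents (X := W))
    (CompactSpace.isCompact_univ (X := W))
  have := hfin.to_subtype
  obtain ⟨m, ⟨e⟩⟩ := Finite.exists_equiv_fin {x : W | x ∈ Set.univ ∧ IsMax' x}
  let w : Fin m → W := fun i => (e.symm i).1
  let ψ := biproduct.lift (f := fun i => (EtCoh.push (W.fromSpecResidueField (w i))).obj (cst A))
    fun i => (cstIsoLc A).hom ≫ toPoint (W.fromSpecResidueField (w i)) A ≫
      (EtCoh.push (W.fromSpecResidueField (w i))).map (cstIsoLc A).inv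
  refine ⟨m, w, ψ, mono_of_stalks _ fun K _ _ η => ?_⟩
  refine (injective_iff_map_eq_zero ((EtCoh.stalk η).map ψ).hom).2 fun a ha => ?_
  obtain ⟨U, p, σ, rfl⟩ := exists_germ_eq η (cst A) a
  rw [stalk_map_germ] at ha
  obtain ⟨V, g, p', h1, h2⟩ := (germ_eq_zero_iff η _ p _).1 ha
  let t : LocallyConstant V.left A := (cstIsoLc A).hom.hom.app (op V) ((cst A).obj.map g.op σ)
  have hg : ψ.hom.app (op V) ((cst A).obj.map g.op σ) = 0 :=
    (NatTrans.naturality_apply ψ.hom g.op σ).trans h2
  have hti : ∀ i z, t ((pullback.fst V.hom (W.fromSpecResidueField (w i)) :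
      ((EtCoh.bc (W.fromSpecResidueField (w i))).obj V).left ⟶ V.left) z) = 0 := by
    intro i z
    have h3 := congrArg ((biproduct.π _ i : _ ⟶ (EtCoh.push (W.fromSpecResidueField (w i))).obj (cst A)).hom.app (op V)) hg
    rw [map_zero] at h3
    change ((ψ ≫ biproduct.π _ i).hom.app (op V)) _ = 0 at h3
    rw [biproduct.lift_π] at h3
    have h4 := congrArg ((cstIsoLc (X := Spec (W.residueField (w i))) A).hom.hom.app
      (op ((EtCoh.bc (W.fromSpecResidueField (w i))).obj V))) h3
    replace h4 := h4.trans (map_zero _)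
    have h5 : ((cstIsoLc (X := W) A).hom ≫ toPoint (W.fromSpecResidueField (w i)) A ≫
        (EtCoh.push (W.fromSpecResidueField (w i))).map ((cstIsoLc A).inv ≫ (cstIsoLc A).hom)).hom.app (op V)
          ((cst A).obj.map g.op σ) = 0 := by
      rw [Functor.map_comp, ← Category.assoc, ← Category.assoc]
      exact h4
    rw [Iso.inv_hom_id, CategoryTheory.Functor.map_id, Category.comp_id] at h5
    exact congrArg (fun r : LocallyConstant ((EtCoh.bc (W.fromSpecResidueField (w i))).obj V).left A => r z) h5
  have ht : t = 0 := LocallyConstant.ext fun v => by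
    let vh : V.left ⟶ W := V.hom
    have : Etale vh := V.prop
    obtain ⟨y, hy, hyv⟩ := Norm57.exists_isMax'_specializes (vh v)
    obtain ⟨a', ha', hva⟩ := Flat.generalizingMap vh hyv
    let i := e ⟨y, trivial, hy⟩
    have hwi : w i = y := congrArg Subtype.val (e.symm_apply_apply _)
    have hmem : a' ∈ Set.range (pullback.fst vh (W.fromSpecResidueField (w i))) := by
      rw [Scheme.Pullback.range_fst, Scheme.range_fromSpecResidueField, Set.mem_preimage, hwi]
      exact hva
    obtain ⟨z, hz⟩ := hmem
    have h0 : t a' = 0 := hz ▸ hti i z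
    have hc : IsClosed {x : V.left | t x = 0} := t.isLocallyConstant.isClosed_fiber 0
    exact closure_minimal (Set.singleton_subset_iff.2 (show a' ∈ {x : V.left | t x = 0} from h0)) hc
      (specializes_iff_mem_closure.1 ha')
  rw [← h1, ← germ_map]
  have hσ : (cst A).obj.map g.op σ = 0 := by
    let E := cstIsoLc (X := W) A
    have h7 : (E.hom ≫ E.inv).hom.app (op V) ((cst A).obj.map g.op σ) = E.inv.hom.app (op V) t := rfl
    rw [E.hom_inv_id, ht] at h7
    exact h7.trans (map_zero _)
  rw [hσ, map_zero]

theorem isNagata_of_universallyJapanese {R : Type u} [CommRing R] [IsNoetherianRing R]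
    (h : CAlg.IsUniversallyJapanese R) : CAlg.IsNagata R :=
  ⟨inferInstance, fun p _ => h (R ⧸ p) inferInstance⟩

/-- Quasi-finite direct images of constructible sheaves over a Nagata base are constructible. -/
theorem isConstructible_push_quasiFinite [IsNoetherian X] (hX : ∀ U : X.affineOpens, CAlg.IsNagata Γ(X, U))
    (q : Y ⟶ X) [LocallyQuasiFinite q] [LocallyOfFiniteType q] [QuasiCompact q]
    {F : EtCoh.Ab Y} (hF : EtPBC.IsConstructible F) : EtPBC.IsConstructible ((EtCoh.push q).obj F) := by
  have : IsLocallyNoetherian Y := LocallyOfFiniteType.isLocallyNoetherian q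
  have : CompactSpace Y := QuasiCompact.compactSpace_of_compactSpace q
  have : IsNoetherian Y := { }
  have : PreservesLimitsOfSize.{0, 0} (EtCoh.push q) := (EtCoh.pullPushAdj q).rightAdjoint_preservesLimits
  have : PreservesFiniteLimits (EtCoh.push q) := PreservesLimitsOfSize.preservesFiniteLimits _
  obtain ⟨n, P, f, hf, -, M, _, _, ι, hι⟩ := exists_embedding hF
  refine isConstructible_of_mono ((EtCoh.push q).map ι ≫ ((EtCoh.push q).mapBiproduct _).hom)
    (isConstructible_biproduct_fin _ fun i => ?_)
  have := hf i
  have : IsLocallyNoetherian (P i) := LocallyOfFiniteType.isLocallyNoetherian (f i)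
  have : CompactSpace (P i) := QuasiCompact.compactSpace_of_compactSpace (f i)
  have : IsNoetherian (P i) := { }
  let A := AddCommGrpCat.of (ULift.{u + 1} (M i))
  obtain ⟨m, w, ψ, hψ⟩ := exists_const_embedding (P i) A
  let g := f i ≫ q
  have : PreservesLimitsOfSize.{0, 0} (EtCoh.push g) := (EtCoh.pullPushAdj g).rightAdjoint_preservesLimits
  have : PreservesFiniteLimits (EtCoh.push g) := PreservesLimitsOfSize.preservesFiniteLimits _
  refine isConstructible_of_iso ((EtCoh.pushComp q (f i)).app (cst A)).symm
    (isConstructible_of_mono ((EtCoh.push g).map ψ ≫ ((EtCoh.push g).mapBiproduct _).hom)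
      (isConstructible_biproduct_fin _ fun j => ?_))
  let η := (P i).fromSpecResidueField (w j)
  refine isConstructible_of_iso ((EtCoh.pushComp g η).app (cst A)).symm ?_
  refine isConstructible_push_point (η ≫ g) hX (fun z => ?_) (M i)
  rw [Scheme.residueFieldMap_comp]
  exact RingHom.Finite.comp (RingHom.Finite.of_surjective _ (residueFieldMap_surjective' η z))
    (finite_residueFieldMap g (η z))

end Groth.Agent.Cons51
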