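import Groth.Agent.Cons51.Compact
import Groth.Agent.Unr55.Et.LocConstSheaf
import Groth.Agent.EtCore45.ConstSect
import Mathlib.AlgebraicGeometry.AffineTransitionLimit

/-!
Maps from constructible sheaves to direct images of constant sheaves along limits of affine morphisms.
-/

set_option autoImplicit false
set_option backward.isDefEq.respectTransparency.types false
universe u v

open CategoryTheory CategoryTheory.Limits AlgebraicGeometry Opposite TopologicalSpace
open Groth.Agent.Unr55.EtSh

namespace Groth.Agent.Cons51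

section Descent

variable {I : Type u} [SmallCategory I] [IsCofiltered I] (D : I ⥤ Scheme.{u}) (c : Cone D) (hc : IsLimit c)

include hc in
/-- A locally constant function on a limit with finitely many values comes from a finite stage. -/
theorem exists_lc_descent [∀ {i j} (f : i ⟶ j), IsAffineHom (D.map f)] [∀ i, CompactSpace (D.obj i)]
    [∀ i, QuasiSeparatedSpace (D.obj i)] {M : Type v} [Finite M] (t : LocallyConstant c.pt M) :
    ∃ (i : I) (t' : LocallyConstant (D.obj i) M), ∀ x, t' (c.π.app i x) = t x := by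
  classical
  have := Scheme.compactSpace_of_isLimit D c hc
  choose i V hVc hV using fun m : M => exists_preimage_eq D c hc ⟨t ⁻¹' {m}, t.isLocallyConstant.isOpen_fiber m⟩
    (t.isLocallyConstant.isClosed_fiber m).isCompact
  have := Fintype.ofFinite M
  obtain ⟨j, hj⟩ := IsCofiltered.inf_objs_exists (Finset.univ.image i)
  let a : ∀ m, j ⟶ i m := fun m => (hj (Finset.mem_image_of_mem i (Finset.mem_univ m))).some
  let V' : M → (D.obj j).Opens := fun m => D.map (a m) ⁻¹ᵁ V m
  have hV' : ∀ (m : M) (x : c.pt), c.π.app j x ∈ V' m ↔ t x = m := fun m x => by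
    show D.map (a m) (c.π.app j x) ∈ V m ↔ _
    rw [← Scheme.Hom.comp_apply, c.w]
    exact SetLike.ext_iff.1 (hV m) x
  have hV'c : ∀ m, IsCompact (V' m : Set (D.obj j)) := fun m =>
    QuasiCompact.isCompact_preimage (f := D.map (a m)) _ (V m).2 (hVc m)
  have hcov : c.π.app j ⁻¹ᵁ (⨆ m, V' m) = ⊤ := eq_top_iff.2 fun x _ =>
    Opens.mem_iSup.2 ⟨t x, (hV' _ x).2 rfl⟩
  obtain ⟨k₀, b₀, hb₀⟩ := exists_map_eq_top D c hc (⨆ m, V' m) hcov
  have hd : ∀ p : M × M, p.1 ≠ p.2 → ∃ (k : I) (b : k ⟶ j), D.map b ⁻¹ᵁ (V' p.1 ⊓ V' p.2) ≤ D.map b ⁻¹ᵁ ⊥ := by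
    intro p hp
    refine exists_map_preimage_le_map_preimage D c hc
      (QuasiSeparatedSpace.inter_isCompact (V' p.1 : Set (D.obj j)) (V' p.2) (V' p.1).2 (hV'c p.1) (V' p.2).2 (hV'c p.2)) fun x hx => ?_
    exact (hp (((hV' _ x).1 hx.1).symm.trans ((hV' _ x).1 hx.2))).elim
  choose k b hb using hd
  let P := {p : M × M // p.1 ≠ p.2}
  obtain ⟨l, hl₀, hl⟩ : ∃ (l : I) (g₀ : l ⟶ j), (∃ h : l ⟶ k₀, h ≫ b₀ = g₀) ∧
      ∀ p : P, ∃ h : l ⟶ k p.1 p.2, h ≫ b p.1 p.2 = g₀ := by
    obtain ⟨e, ⟨m, hm⟩⟩ : ∃ e : Option P ≃ Fin (Fintype.card (Option P)), True ∧ True :=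
      ⟨Fintype.equivFin _, trivial, trivial⟩
    let K : Option P → I := fun o => o.elim k₀ fun p => k p.1 p.2
    let B : ∀ o, K o ⟶ j := fun o => match o with
      | none => b₀
      | some p => b p.1 p.2
    obtain ⟨l, g₀, hg⟩ := Unr55.FiltColim.exists_bound (fun q : Fin (Fintype.card (Option P)) => (B (e.symm q)).op)
    have key : ∀ q, ∃ h : l.unop ⟶ K (e.symm q), h ≫ B (e.symm q) = g₀.unop := fun q => by
      obtain ⟨h, hh⟩ := hg q
      exact ⟨h.unop, congrArg Quiver.Hom.unop hh⟩
    have key' : ∀ o, ∃ h : l.unop ⟶ K o, h ≫ B o = g₀.unop := fun o => by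
      obtain ⟨q, rfl⟩ := e.symm.surjective o
      exact key q
    exact ⟨l.unop, g₀.unop, key' none, fun p => key' (some p)⟩
  obtain ⟨⟨h₀, hh₀⟩, hlp⟩ := hl
  have hex : ∀ y : D.obj l, ∃ m, D.map hl₀ y ∈ V' m := fun y => by
    refine Opens.mem_iSup.1 ?_
    rw [← hh₀, Functor.map_comp, Scheme.Hom.comp_apply]
    exact hb₀.ge (Opens.mem_top _)
  choose val hval using hex
  have huniq : ∀ y m, D.map hl₀ y ∈ V' m → val y = m := fun y m hm => by
    by_contra hne
    obtain ⟨h, hh⟩ := hlp ⟨(val y, m), hne⟩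
    have : D.map h y ∈ D.map (b (val y, m) hne) ⁻¹ᵁ (V' (val y) ⊓ V' m) := by
      show D.map (b (val y, m) hne) (D.map h y) ∈ V' (val y) ⊓ V' m
      rw [← Scheme.Hom.comp_apply, ← Functor.map_comp, hh]
      exact ⟨hval y, hm⟩
    exact (hb _ hne this)
  have hlc : IsLocallyConstant val := IsLocallyConstant.iff_isOpen_fiber.2 fun m => by
    have e : val ⁻¹' {m} = (D.map hl₀ ⁻¹ᵁ V' m : Set (D.obj l)) :=
      Set.ext fun y => ⟨fun hy => hy ▸ hval y, fun hy => huniq y m hy⟩
    rw [e]
    exact (D.map hl₀ ⁻¹ᵁ V' m).2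
  refine ⟨l, ⟨val, hlc⟩, fun x => huniq _ _ ?_⟩
  rw [← Scheme.Hom.comp_apply, c.w]
  exact (hV' _ x).2 rfl

include hc in
/-- Locally constant functions agreeing on the limit agree at a finite stage. -/
theorem exists_lc_eq [∀ {i j} (f : i ⟶ j), IsAffineHom (D.map f)] [∀ i, CompactSpace (D.obj i)]
    {M : Type v} {i : I} (t t' : LocallyConstant (D.obj i) M) (h : ∀ x, t (c.π.app i x) = t' (c.π.app i x)) :
    ∃ (j : I) (a : j ⟶ i), ∀ y, t (D.map a y) = t' (D.map a y) := by
  let O : (D.obj i).Opens := ⟨{y | t y = t' y}, by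
    rw [show {y | t y = t' y} = ⋃ m, t ⁻¹' {m} ∩ t' ⁻¹' {m} from Set.ext fun y => by simp [eq_comm]]
    exact isOpen_iUnion fun m => (t.isLocallyConstant.isOpen_fiber m).inter (t'.isLocallyConstant.isOpen_fiber m)⟩
  obtain ⟨j, a, ha⟩ := exists_map_eq_top D c hc O (eq_top_iff.2 fun x _ => h x)
  exact ⟨j, a, fun y => ha.ge (Opens.mem_top y)⟩

end Descent

variable {X : Scheme.{u}} (M : AddCommGrpCat.{u + 1})

/-- Constant functions. -/
noncomputable def constToLcPre : (Functor.const X.Etaleᵒᵖ).obj M ⟶ Unr55.LC.lcPre M where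
  app W := AddCommGrpCat.ofHom (show M →+ LocallyConstant W.unop.left M from LocallyConstant.constAddMonoidHom)
  naturality _ _ _ := rfl

instance : Presheaf.IsLocallyInjective X.smallEtaleTopology (constToLcPre (X := X) M) where
  equalizerSieve_mem := by
    intro W m n h
    exact mem_topology fun x => ⟨W.unop, 𝟙 _, x, congrArg (fun s : LocallyConstant W.unop.left M => s x) h, rfl⟩

instance : Presheaf.IsLocallySurjective X.smallEtaleTopology (constToLcPre (X := X) M) where
  imageSieve_mem := by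
    intro W t
    refine mem_topology fun x => ?_
    let t' : LocallyConstant W.left M := t
    let O : W.left.Opens := ⟨t' ⁻¹' {t' x}, t'.isLocallyConstant.isOpen_fiber _⟩
    exact ⟨openSub W O, openSubι W O, (⟨x, rfl⟩ : O), ⟨t' x, LocallyConstant.ext fun (z : O) => z.2.symm⟩, rfl⟩

/-- The constant sheaf is the sheaf of locally constant functions. -/
noncomputable def cstIsoLc : EtCore45.cst (X := X) M ≅ Unr55.LC.lc M :=
  @asIso _ _ _ _ ((presheafToSheaf X.smallEtaleTopology AddCommGrpCat.{u + 1}).map (constToLcPre M))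
      ((X.smallEtaleTopology.W_iff _).1 (X.smallEtaleTopology.W_of_isLocallyBijective (constToLcPre M))) ≪≫
    (sheafificationIso (Unr55.LC.lc (X := X) M)).symm

/-- The direct image of the sheaf of locally constant functions. -/
noncomputable abbrev pushLC {Y : Scheme.{u}} (f : Y ⟶ X) : EtCoh.Ab X := (EtCoh.push f).obj (Unr55.LC.lc M)

section pb

variable {A A' B B' B'' : Scheme.{u}}

/-- Change of the second factor of a fibre product. -/
noncomputable def pbMap (p : A ⟶ X) {f : B ⟶ X} {f' : B' ⟶ X} (h : B' ⟶ B) (w : h ≫ f = f') :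
    pullback p f' ⟶ pullback p f :=
  pullback.lift (pullback.fst p f') (pullback.snd p f' ≫ h) (by rw [Category.assoc, w]; exact pullback.condition)

theorem pbMap_fst (p : A ⟶ X) {f : B ⟶ X} {f' : B' ⟶ X} (h : B' ⟶ B) (w : h ≫ f = f') :
    pbMap p h w ≫ pullback.fst p f = pullback.fst p f' := pullback.lift_fst _ _ _

theorem pbMap_snd (p : A ⟶ X) {f : B ⟶ X} {f' : B' ⟶ X} (h : B' ⟶ B) (w : h ≫ f = f') :
    pbMap p h w ≫ pullback.snd p f = pullback.snd p f' ≫ h := pullback.lift_snd _ _ _

theorem pbMap_id (p : A ⟶ X) {f : B ⟶ X} (h : B ⟶ B) (w : h ≫ f = f) (e : h = 𝟙 B) :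
    pbMap p h w = 𝟙 _ := by
  subst e
  exact pullback.hom_ext (by rw [pbMap_fst, Category.id_comp]) (by rw [pbMap_snd, Category.id_comp, Category.comp_id])

theorem pbMap_comp (p : A ⟶ X) {f : B ⟶ X} {f' : B' ⟶ X} {f'' : B'' ⟶ X} (h : B' ⟶ B) (w : h ≫ f = f')
    (h' : B'' ⟶ B') (w' : h' ≫ f' = f'') (k : B'' ⟶ B) (wk : k ≫ f = f'') (e : k = h' ≫ h) :
    pbMap p k wk = pbMap p h' w' ≫ pbMap p h w := by
  subst e
  refine pullback.hom_ext ?_ ?_
  · rw [Category.assoc, pbMap_fst, pbMap_fst, pbMap_fst]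
  · rw [Category.assoc, pbMap_snd, pbMap_snd, ← Category.assoc (pbMap p h' w'), pbMap_snd, Category.assoc]

theorem pbMap_nat (p : A ⟶ X) (p' : A' ⟶ X) (g : A' ⟶ A) (hg : g ≫ p = p') {f : B ⟶ X} {f' : B' ⟶ X} (h : B' ⟶ B)
    (w : h ≫ f = f') :
    pbMap p' h w ≫ pullback.lift (pullback.fst p' f ≫ g) (pullback.snd p' f)
        (by rw [Category.assoc, hg]; exact pullback.condition) =
      pullback.lift (pullback.fst p' f' ≫ g) (pullback.snd p' f')
        (by rw [Category.assoc, hg]; exact pullback.condition) ≫ pbMap p h w := by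
  refine pullback.hom_ext ?_ ?_
  · refine (Category.assoc _ _ _).trans (((congrArg (pbMap p' h w ≫ ·) (pullback.lift_fst _ _ _)).trans ?_).trans
      ((Category.assoc _ _ _).trans (congrArg (_ ≫ ·) (pbMap_fst p h w))).symm)
    refine ((Category.assoc _ _ _).symm.trans (congrArg (· ≫ g) (pbMap_fst p' h w))).trans ?_
    exact (pullback.lift_fst _ _ _).symm
  · refine (Category.assoc _ _ _).trans (((congrArg (pbMap p' h w ≫ ·) (pullback.lift_snd _ _ _)).trans ?_).trans
      ((Category.assoc _ _ _).trans (congrArg (_ ≫ ·) (pbMap_snd p h w))).symm)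
    refine (pbMap_snd p' h w).trans ?_
    exact ((Category.assoc _ _ _).symm.trans (congrArg (· ≫ h) (pullback.lift_snd _ _ _))).symm

theorem pbMap_symm (p : A ⟶ X) {S T : Over X} (q : S ⟶ T) :
    (Over.pullback p ⋙ Over.forget A).map q ≫ (pullbackSymmetry T.hom p).hom =
      (pullbackSymmetry S.hom p).hom ≫ pbMap p q.left (Over.w q) := by
  refine pullback.hom_ext ?_ ?_ <;> simp [pbMap, pullback.lift_fst, pullback.lift_snd]

end pb

/-- Pullback of locally constant functions along morphisms over `X`. -/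
noncomputable def pushLCMap {Y Y' : Scheme.{u}} {f : Y ⟶ X} {f' : Y' ⟶ X} (h : Y' ⟶ Y) (w : h ≫ f = f') :
    pushLC M f ⟶ pushLC M f' :=
  ⟨{ app := fun W => AddCommGrpCat.ofHom (show
        LocallyConstant ((EtCoh.bc f).obj W.unop).left M →+ LocallyConstant ((EtCoh.bc f').obj W.unop).left M from
      LocallyConstant.comapAddMonoidHom (TopCat.Hom.hom (pbMap W.unop.hom h w).base))
     naturality := fun W W' g => ConcreteCategory.hom_ext _ _ fun t => LocallyConstant.ext fun z => by
      exact congrArg (fun q => (show LocallyConstant ((EtCoh.bc f).obj W.unop).left M from t) (q z))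
        (pbMap_nat W.unop.hom W'.unop.hom g.unop.left (Over.w g.unop.hom) h w) }⟩

theorem pushLCMap_apply {Y Y' : Scheme.{u}} {f : Y ⟶ X} {f' : Y' ⟶ X} (h : Y' ⟶ Y) (w : h ≫ f = f') (W : X.Etale)
    (t : LocallyConstant ((EtCoh.bc f).obj W).left M) (z : ((EtCoh.bc f').obj W).left) :
    (show LocallyConstant ((EtCoh.bc f').obj W).left M from (pushLCMap M h w).hom.app (op W) t) z =
      t (pbMap W.hom h w z) := rfl

/-- Compactness from a description of the sections over affines. -/
theorem compactAt_genObj_of_isColimit {J : Type u} [SmallCategory J] [IsFiltered J] {D : J ⥤ EtCoh.Ab X}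
    {c : Cocone D} {W : X.Etale}
    (hS : IsColimit ((sheafToPresheaf X.smallEtaleTopology AddCommGrpCat.{u + 1} ⋙
      (evaluation _ AddCommGrpCat.{u + 1}).obj (op W) ⋙ forget AddCommGrpCat.{u + 1}).mapCocone c)) (n : ℕ) :
    CompactAt c (EtPBC.extZeroConst W (ZMod n)) := by
  obtain ⟨g, hg, hu⟩ := exists_universal W n
  refine ⟨fun x => ?_, fun j x y hxy => ?_⟩
  · obtain ⟨j, s, hs⟩ := Types.jointly_surjective_of_isColimit hS (x.hom.app (op W) g)
    let s' : EtCoh.sect (D.obj j) W := s
    let z : EtCoh.sect (D.obj j) W := 0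
    have hs' : (c.ι.app j).hom.app (op W) s' = x.hom.app (op W) g := hs
    have h0 : (c.ι.app j).hom.app (op W) (n • s') = (c.ι.app j).hom.app (op W) z := by
      rw [map_nsmul, hs', ← map_nsmul, hg, map_zero, map_zero]
    obtain ⟨k, f, hf⟩ := (Types.FilteredColimit.isColimit_eq_iff' hS _ _).1 h0
    have hf' : (D.map f).hom.app (op W) (n • s') = (D.map f).hom.app (op W) z := hf
    obtain ⟨y, hy⟩ := (hu (D.obj k)).1 ((D.map f).hom.app (op W) s') ((map_nsmul _ n s').symm.trans
      (hf'.trans (map_zero ((D.map f).hom.app (op W)).hom)))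
    refine ⟨k, y, (hu c.pt).2 ?_⟩
    show (c.ι.app k).hom.app (op W) (y.hom.app (op W) g) = _
    rw [hy]
    exact (ConcreteCategory.congr_hom ((sheafSections _ _).obj (op W) |>.congr_map (c.w f)) s :).trans hs
  · obtain ⟨k, f, hf⟩ := (Types.FilteredColimit.isColimit_eq_iff' hS
      (x.hom.app (op W) g : EtCoh.sect (D.obj j) W) (y.hom.app (op W) g)).1
      (congrArg (fun q : EtPBC.extZeroConst W (ZMod n) ⟶ c.pt => q.hom.app (op W) g) hxy)
    exact ⟨k, f, (hu (D.obj k)).2 hf⟩

/-- A map from a constructible sheaf to `g_* M` factors through a finite stage of a limit. -/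
theorem exists_factor_pushLC [CompactSpace X] [QuasiSeparatedSpace X] [Finite M] {I : Type u} [SmallCategory I]
    [IsCofiltered I] {D : I ⥤ Over X} {c : Cone D} (hc : IsLimit c) (hD : ∀ i, IsAffineHom (D.obj i).hom)
    {F : EtCoh.Ab X} (hF : EtPBC.IsConstructible F) (α : F ⟶ pushLC M c.pt.hom) :
    ∃ (i : I) (β : F ⟶ pushLC M (D.obj i).hom), β ≫ pushLCMap M (c.π.app i).left (Over.w _) = α := by
  let K : Iᵒᵖ ⥤ EtCoh.Ab X :=
    { obj := fun i => pushLC M (D.obj i.unop).hom
      map := fun a => pushLCMap M (D.map a.unop).left (Over.w _)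
      map_id := fun i => Sheaf.hom_ext (NatTrans.ext (funext fun W => ConcreteCategory.hom_ext _ _ fun t =>
        LocallyConstant.ext fun z => by
          let t' : LocallyConstant ((EtCoh.bc (D.obj i.unop).hom).obj W.unop).left M := t
          refine (pushLCMap_apply M _ _ W.unop t' z).trans (congrArg t' ?_)
          refine congrArg (fun q : pullback W.unop.hom (D.obj i.unop).hom ⟶ pullback W.unop.hom (D.obj i.unop).hom => q z)
            (pbMap_id _ _ _ ?_ : _ = 𝟙 _)
          rw [unop_id, CategoryTheory.Functor.map_id]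
          rfl))
      map_comp := fun {i j k} a b => Sheaf.hom_ext (NatTrans.ext (funext fun W => ConcreteCategory.hom_ext _ _ fun t =>
        LocallyConstant.ext fun z => by
          let t' : LocallyConstant ((EtCoh.bc (D.obj i.unop).hom).obj W.unop).left M := t
          refine (pushLCMap_apply M _ _ W.unop t' z).trans (Eq.trans (congrArg t' ?_)
            ((pushLCMap_apply M _ (Over.w (D.map b.unop)) W.unop _ z).trans
              (pushLCMap_apply M _ (Over.w (D.map a.unop)) W.unop t' _)).symm)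
          rw [← Scheme.Hom.comp_apply]
          refine congrArg (fun q : pullback W.unop.hom (D.obj k.unop).hom ⟶ pullback W.unop.hom (D.obj i.unop).hom => q z)
            (pbMap_comp _ _ _ _ _ _ _ ?_)
          rw [unop_comp, Functor.map_comp, Over.comp_left])) }
  let co : Cocone K :=
    { pt := pushLC M c.pt.hom
      ι :=
        { app := fun i => pushLCMap M (c.π.app i.unop).left (Over.w _)
          naturality := fun i j a => Sheaf.hom_ext (NatTrans.ext (funext fun W => ConcreteCategory.hom_ext _ _ fun t =>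
            LocallyConstant.ext fun z => by
              let t' : LocallyConstant ((EtCoh.bc (D.obj i.unop).hom).obj W.unop).left M := t
              refine ((pushLCMap_apply M _ (Over.w (c.π.app j.unop)) W.unop _ z).trans
                (pushLCMap_apply M _ (Over.w (D.map a.unop)) W.unop t' _)).trans ?_
              refine Eq.trans (congrArg t' ?_) (pushLCMap_apply M _ _ W.unop t' z).symm
              rw [← Scheme.Hom.comp_apply]
              refine congrArg (fun q : pullback W.unop.hom c.pt.hom ⟶ pullback W.unop.hom (D.obj i.unop).hom => q z)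
                (pbMap_comp _ _ _ _ _ _ _ ?_).symm
              rw [← Over.comp_left, c.w])) } }
  have hS : ∀ W : X.Etale, IsAffine W.left → Nonempty (IsColimit ((sheafToPresheaf X.smallEtaleTopology
      AddCommGrpCat.{u + 1} ⋙ (evaluation _ AddCommGrpCat.{u + 1}).obj (op W) ⋙
        forget AddCommGrpCat.{u + 1}).mapCocone co)) := by
    intro W hW
    let wh : W.left ⟶ X := W.hom
    let P := Over.pullback wh ⋙ Over.forget W.left
    have : IsConnected I := IsCofiltered.isConnected I
    have : PreservesLimitsOfShape I (Over.pullback wh) :=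
      (Over.mapPullbackAdj wh).rightAdjoint_preservesLimits.preservesLimitsOfShape
    let hcW := isLimitOfPreserves P hc
    have haff : ∀ i, IsAffine ((D ⋙ P).obj i) := fun i => by
      let p : pullback (D.obj i).hom wh ⟶ W.left := pullback.snd (D.obj i).hom wh
      have hp : IsAffineHom p := MorphismProperty.pullback_snd _ _ (hD i)
      exact @isAffine_of_isAffineHom _ _ p hp hW
    have : ∀ i, CompactSpace ((D ⋙ P).obj i) := fun i => by have := haff i; infer_instance
    have : ∀ i, QuasiSeparatedSpace ((D ⋙ P).obj i) := fun i => by have := haff i; infer_instance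
    have : ∀ {i j} (f : i ⟶ j), IsAffineHom ((D ⋙ P).map f) := fun {i j} f => by
      have := haff i; have := haff j; infer_instance
    let τ : ∀ T : Over X, pullback T.hom wh ≅ pullback wh T.hom := fun T => pullbackSymmetry _ _
    have hτ : ∀ {S T : Over X} (q : S ⟶ T) (z : (pullback S.hom wh : Scheme.{u})),
        (τ T).hom (P.map q z) = pbMap wh q.left (Over.w q) ((τ S).hom z) := fun {S T} q z =>
      congrArg (fun r : pullback S.hom wh ⟶ pullback wh T.hom => r z) (pbMap_symm wh q)
    refine ⟨Types.FilteredColimit.isColimitOf' _ _ (fun x => ?_) fun i x y hxy => ?_⟩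
    · let x' : LocallyConstant ((EtCoh.bc c.pt.hom).obj W).left M := x
      obtain ⟨i, t, ht⟩ := exists_lc_descent (D ⋙ P) (P.mapCone c) hcW
        (x'.comap ⟨(τ c.pt).hom, (τ c.pt).hom.continuous⟩)
      refine ⟨op i, t.comap ⟨(τ (D.obj i)).inv, (τ (D.obj i)).inv.continuous⟩, LocallyConstant.ext fun z => ?_⟩
      refine Eq.trans ?_ (pushLCMap_apply M (c.π.app i).left (Over.w _) W _ z).symm
      have h := (hτ (c.π.app i) ((τ c.pt).inv z)).trans
        (congrArg (pbMap wh (c.π.app i).left (Over.w _)) (Scheme.inv_hom_apply (τ c.pt) z))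
      refine Eq.trans ?_ (congrArg (fun y => t ((τ (D.obj i)).inv y)) h)
      refine Eq.trans ?_ (congrArg t (Scheme.hom_inv_apply (τ (D.obj i)) _).symm)
      exact ((ht _).trans (congrArg x' (Scheme.inv_hom_apply (τ c.pt) z))).symm
    · let x' : LocallyConstant ((EtCoh.bc (D.obj i.unop).hom).obj W).left M := x
      let y' : LocallyConstant ((EtCoh.bc (D.obj i.unop).hom).obj W).left M := y
      let s : C((pullback (D.obj i.unop).hom wh : Scheme.{u}), (pullback wh (D.obj i.unop).hom : Scheme.{u})) :=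
        ⟨(τ (D.obj i.unop)).hom, (τ (D.obj i.unop)).hom.continuous⟩
      obtain ⟨j, a, ha⟩ := exists_lc_eq (D ⋙ P) (P.mapCone c) hcW (i := i.unop) (x'.comap s) (y'.comap s) (fun z => by
        refine (congrArg x' (hτ (c.π.app i.unop) z)).trans (Eq.trans ?_ (congrArg y' (hτ (c.π.app i.unop) z)).symm)
        exact ((pushLCMap_apply M (c.π.app i.unop).left (Over.w _) W x' ((τ c.pt).hom z)).symm.trans
          (congrArg (fun r : LocallyConstant ((EtCoh.bc c.pt.hom).obj W).left M => r ((τ c.pt).hom z)) hxy)).trans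
          (pushLCMap_apply M (c.π.app i.unop).left (Over.w _) W y' ((τ c.pt).hom z)))
      refine ⟨op j, a.op, LocallyConstant.ext fun z => ?_⟩
      refine (pushLCMap_apply M (D.map a).left (Over.w _) W x' z).trans
        (Eq.trans ?_ (pushLCMap_apply M (D.map a).left (Over.w _) W y' z).symm)
      have h := (hτ (D.map a) ((τ (D.obj j)).inv z)).trans
        (congrArg (pbMap wh (D.map a).left (Over.w _)) (Scheme.inv_hom_apply (τ (D.obj j)) z))
      exact ((congrArg x' h).symm.trans (ha _)).trans (congrArg y' h)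
  obtain ⟨n, hn, hFn⟩ := exists_killedBy hF
  obtain ⟨a, b, V, U, hV, hU, φ, ⟨e⟩⟩ := exists_presentation hn hF hFn
  have hcmp : CompactAt co F :=
    ((CompactAt.biproduct fun i => compactAt_genObj_of_isColimit (hS _ (hV i)).some n).cokernel φ
      (CompactAt.biproduct fun i => compactAt_genObj_of_isColimit (hS _ (hU i)).some n)).of_iso e.symm
  obtain ⟨i, β, hβ⟩ := hcmp.1 α
  exact ⟨i.unop, β, hβ⟩

end Groth.Agent.Cons51
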