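import Groth.Agent.Cons51.TorsionCoh
import Groth.Agent.Cons51.Compact
import Mathlib.Algebra.Module.LocalizedModule.Basic

/-!
Cohomology commutes with localization at a multiplicative set of integers.
-/

set_option autoImplicit false
set_option backward.isDefEq.respectTransparency.types false
universe u

open CategoryTheory CategoryTheory.Limits CategoryTheory.Abelian AlgebraicGeometry Opposite
open Groth.Agent.Unr55.EtSh

namespace Groth.Agent.Cons51

variable {X : Scheme.{u}} (S : Submonoid ℤ)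

/-- Denominators. -/
structure Den : Type (u + 1) where
  /-- The denominator. -/
  s : S

/-- Morphisms of denominators are multipliers. -/
instance : SmallCategory (Den.{u} S) where
  Hom a b := ULift.{u + 1} {t : S // t * a.s = b.s}
  id a := ⟨⟨1, one_mul _⟩⟩
  comp f g := ⟨⟨g.down.1 * f.down.1, by rw [mul_assoc, f.down.2, g.down.2]⟩⟩
  id_comp f := ULift.ext _ _ (Subtype.ext (mul_one _))
  comp_id f := ULift.ext _ _ (Subtype.ext (one_mul _))
  assoc f g h := ULift.ext _ _ (Subtype.ext (mul_assoc _ _ _).symm)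

/-- The morphism given by a multiplier. -/
def Den.hom {a b : Den.{u} S} (t : S) (h : t * a.s = b.s) : a ⟶ b := ⟨⟨t, h⟩⟩

theorem isFiltered_den : IsFiltered (Den.{u} S) := by
  have : Nonempty (Den.{u} S) := ⟨⟨1⟩⟩
  refine { cocone_objs := fun a b => ⟨⟨b.s * a.s⟩, Den.hom S b.s rfl, Den.hom S a.s (mul_comm _ _), trivial⟩,
           cocone_maps := fun a b f g => ⟨⟨a.s * b.s⟩, Den.hom S a.s rfl, ?_⟩ }
  refine ULift.ext _ _ (Subtype.ext ?_)
  show a.s * f.down.1 = a.s * g.down.1
  rw [mul_comm, f.down.2, mul_comm, g.down.2]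

/-- The localization system of a sheaf. -/
noncomputable def denDiag (F : EtCoh.Ab X) : Den.{u} S ⥤ EtCoh.Ab X where
  obj _ := F
  map f := (f.down.1 : ℤ) • 𝟙 F
  map_id _ := by
    show ((1 : S) : ℤ) • 𝟙 F = 𝟙 F
    rw [OneMemClass.coe_one, one_zsmul]
  map_comp f g := by
    show ((g.down.1 * f.down.1 : S) : ℤ) • 𝟙 F = ((f.down.1 : ℤ) • 𝟙 F) ≫ ((g.down.1 : ℤ) • 𝟙 F)
    rw [Preadditive.zsmul_comp, Category.id_comp, smul_smul, Submonoid.coe_mul, mul_comm]

theorem zsmul_app {F G : EtCoh.Ab X} (k : ℤ) (f : F ⟶ G) (W : X.Etale) (s : EtCoh.sect F W) :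
    (k • f).hom.app (op W) s = k • f.hom.app (op W) s :=
  map_zsmul (AddMonoidHom.mk' (fun f : F ⟶ G => f.hom.app (op W) s) fun _ _ => rfl) k f

theorem isIso_zsmul {F G : EtCoh.Ab X} (φ : F ⟶ G)
    (hφ : ∀ U : X.Etale, IsAffine U.left → IsLocalizedModule S (φ.hom.app (op U)).hom.toIntLinearMap) (s : S) :
    IsIso ((s : ℤ) • 𝟙 G) := by
  have hb : ∀ W : X.Etale, IsAffine W.left → Function.Bijective (((s : ℤ) • 𝟙 G).hom.app (op W)) := by
    intro W hW
    have e : (fun x => ((s : ℤ) • 𝟙 G).hom.app (op W) x) = fun x : EtCoh.sect G W => (s : ℤ) • x :=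
      funext fun x => by rw [zsmul_app]; rfl
    rw [show ⇑(((s : ℤ) • 𝟙 G).hom.app (op W)) = fun x : EtCoh.sect G W => (s : ℤ) • x from e]
    have h := (Module.End.isUnit_iff _).1 ((hφ W hW).map_units s)
    exact h
  refine isIso_of_stalks _ fun K _ _ η => ⟨?_, fun a => ?_⟩
  · refine (injective_iff_map_eq_zero ((EtCoh.stalk η).map ((s : ℤ) • 𝟙 G)).hom).2 fun a ha => ?_
    obtain ⟨W, hW, t, σ, rfl⟩ := exists_germ_affine η G a
    rw [stalk_map_germ] at ha
    obtain ⟨V, g, t', h1, h2⟩ := (germ_eq_zero_iff η G t _).1 ha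
    obtain ⟨B, hB, htB, -⟩ :=
      exists_isAffineOpen_mem_and_subset (X := V.left) (x := hom η t' default) (U := ⊤) trivial
    have e : ((s : ℤ) • 𝟙 G).hom.app (op (openSub V B)) (G.obj.map (openSubι V B ≫ g).op σ) = 0 := by
      refine (NatTrans.naturality_apply ((s : ℤ) • 𝟙 G).hom (openSubι V B ≫ g).op σ).trans ?_
      rw [op_comp, Functor.map_comp, ConcreteCategory.comp_apply, h2, map_zero]
    have h0 := (hb (openSub V B) hB).injective (e.trans (map_zero _).symm)
    rw [← h1, ← map_ptOpen B t' htB, ← germ_map, ← germ_map, ← ConcreteCategory.comp_apply, ← Functor.map_comp,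
      ← op_comp]
    exact (congrArg (germ η G (ptOpen B t' htB)) h0).trans (map_zero _)
  · obtain ⟨W, hW, t, σ, rfl⟩ := exists_germ_affine η G a
    obtain ⟨τ, rfl⟩ := (hb W hW).surjective σ
    exact ⟨germ η G t τ, stalk_map_germ η _ t τ⟩

theorem isLocalizedModule_H [CompactSpace X] [QuasiSeparatedSpace X] {F G : EtCoh.Ab X} (φ : F ⟶ G)
    (hφ : ∀ U : X.Etale, IsAffine U.left → IsLocalizedModule S (φ.hom.app (op U)).hom.toIntLinearMap) (i : ℕ) :
    IsLocalizedModule S ((EtCoh.HF X i).map φ).hom.toIntLinearMap := by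
  have := isFiltered_den.{u} S
  have hiso := isIso_zsmul S φ hφ
  let D := denDiag S F
  let lam : ∀ a : Den.{u} S, F ⟶ G := fun a => φ ≫ inv ((a.s : ℤ) • 𝟙 G)
  have hlam : ∀ a : Den.{u} S, (a.s : ℤ) • lam a = φ := fun a => by
    have e : inv ((a.s : ℤ) • 𝟙 G) ≫ ((a.s : ℤ) • 𝟙 G) = 𝟙 G := IsIso.inv_hom_id _
    rw [Preadditive.comp_zsmul, Category.comp_id] at e
    simp only [lam]
    rw [← Preadditive.comp_zsmul, e, Category.comp_id]
  let c : Cocone D :=
    { pt := G
      ι :=
        { app := fun a => lam a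
          naturality := fun a b f => by
            show ((f.down.1 : ℤ) • 𝟙 F) ≫ lam b = lam a ≫ 𝟙 G
            rw [Preadditive.zsmul_comp, Category.id_comp, Category.comp_id]
            refine (cancel_mono ((a.s : ℤ) • 𝟙 G)).1 ?_
            rw [Preadditive.comp_zsmul, Category.comp_id, Preadditive.comp_zsmul, Category.comp_id, hlam, smul_smul,
              ← Submonoid.coe_mul, mul_comm, f.down.2, hlam] } }
  let q : colimit D ⟶ G := colimit.desc D c
  have hq : IsIso q := by
    let ι : ∀ a : Den.{u} S, F ⟶ colimit D := fun a => colimit.ι D a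
    have hιq : ∀ a, ι a ≫ q = lam a := fun a => colimit.ι_desc c a
    have key : ∀ (W : X.Etale), IsAffine W.left → Function.Bijective (q.hom.app (op W)) := by
      intro W hW
      have := preservesColimitsOfShape_sect W (Den.{u} S)
      let P := sheafToPresheaf X.smallEtaleTopology AddCommGrpCat.{u + 1} ⋙
        (evaluation _ AddCommGrpCat.{u + 1}).obj (op W) ⋙ forget AddCommGrpCat.{u + 1}
      let hc := isColimitOfPreserves P (colimit.isColimit D)
      have := hφ W hW
      have hval : ∀ (a : Den.{u} S) (x : EtCoh.sect F W),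
          (a.s : ℤ) • q.hom.app (op W) ((ι a).hom.app (op W) x) = φ.hom.app (op W) x := fun a x => by
        rw [← hlam a, zsmul_app, ← hιq a]
        rfl
      refine ⟨(injective_iff_map_eq_zero (q.hom.app (op W)).hom).2 fun z hz => ?_, fun z => ?_⟩
      · obtain ⟨a, x, rfl⟩ := Types.jointly_surjective_of_isColimit hc z
        have h0 : φ.hom.app (op W) x = 0 := by
          rw [← hval a x]
          exact (congrArg ((a.s : ℤ) • ·) hz).trans (smul_zero _)
        let x' : EtCoh.sect F W := x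
        obtain ⟨t, ht⟩ := (IsLocalizedModule.exists_of_eq (S := S)
          (f := (φ.hom.app (op W)).hom.toIntLinearMap) (x₁ := x') (x₂ := (0 : EtCoh.sect F W))
          (h0.trans (map_zero (φ.hom.app (op W)).hom).symm))
        have htx : (t : ℤ) • x' = 0 := ht.trans (smul_zero _)
        let f : a ⟶ ⟨t * a.s⟩ := Den.hom S t rfl
        have hw : ι a = (((t : S) : ℤ) • 𝟙 F) ≫ ι ⟨t * a.s⟩ := (colimit.w D f).symm
        show (ι a).hom.app (op W) x = 0
        rw [hw, Preadditive.zsmul_comp, Category.id_comp, zsmul_app, ← map_zsmul, htx, map_zero]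
      · obtain ⟨⟨x, s⟩, hxs⟩ := IsLocalizedModule.surj S (φ.hom.app (op W)).hom.toIntLinearMap z
        refine ⟨(ι ⟨s⟩).hom.app (op W) x, ?_⟩
        exact ((Module.End.isUnit_iff _).1 ((hφ W hW).map_units s)).injective ((hval ⟨s⟩ x).trans hxs.symm)
    refine isIso_of_stalks _ fun K _ _ η => ⟨?_, fun a => ?_⟩
    · refine (injective_iff_map_eq_zero ((EtCoh.stalk η).map q).hom).2 fun a ha => ?_
      obtain ⟨W, hW, t, σ, rfl⟩ := exists_germ_affine η (colimit D) a
      rw [stalk_map_germ] at ha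
      obtain ⟨V, g, t', h1, h2⟩ := (germ_eq_zero_iff η G t _).1 ha
      obtain ⟨B, hB, htB, -⟩ :=
        exists_isAffineOpen_mem_and_subset (X := V.left) (x := hom η t' default) (U := ⊤) trivial
      have e : q.hom.app (op (openSub V B)) ((colimit D).obj.map (openSubι V B ≫ g).op σ) = 0 := by
        refine (NatTrans.naturality_apply q.hom (openSubι V B ≫ g).op σ).trans ?_
        rw [op_comp, Functor.map_comp, ConcreteCategory.comp_apply, h2, map_zero]
      have h0 := (key (openSub V B) hB).injective (e.trans (map_zero _).symm)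
      rw [← h1, ← map_ptOpen B t' htB, ← germ_map, ← germ_map, ← ConcreteCategory.comp_apply, ← Functor.map_comp,
        ← op_comp]
      exact (congrArg (germ η (colimit D) (ptOpen B t' htB)) h0).trans (map_zero _)
    · obtain ⟨W, hW, t, σ, rfl⟩ := exists_germ_affine η G a
      obtain ⟨τ, rfl⟩ := (key W hW).surjective σ
      exact ⟨germ η _ t τ, stalk_map_germ η _ t τ⟩
  let hc0 : IsColimit c := (colimit.isColimit D).ofIsoColimit
    (Cocone.ext (asIso q) fun a => colimit.ι_desc c a)
  have := Unr55.HColim.preservesColimitsOfShape_HF (X := X) (Den.{u} S) i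
  let hH := isColimitOfPreserves (EtCoh.HF X i ⋙ forget AddCommGrpCat.{u + 1}) hc0
  have hsm : ∀ {A B : EtCoh.Ab X} (k : ℤ) (f : A ⟶ B) (x : EtCoh.H X A i),
      (EtCoh.HF X i).map (k • f) x = k • (EtCoh.HF X i).map f x := fun k f x =>
    map_zsmul (AddMonoidHom.mk' (fun f => Sheaf.H.map f i x) fun f g => Sheaf.H.map_add_apply f g x) k f
  refine ⟨fun s => (Module.End.isUnit_iff _).2 ?_, fun z => ?_, fun {x₁ x₂} h => ?_⟩
  · have := hiso s
    have hb := (ConcreteCategory.isIso_iff_bijective ((EtCoh.HF X i).map ((s : ℤ) • 𝟙 G))).1 inferInstance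
    convert hb using 1
    funext x
    show (s : ℤ) • x = _
    exact ((hsm (s : ℤ) (𝟙 G) x).trans (congrArg ((s : ℤ) • ·) (Sheaf.H.map_id_apply x))).symm
  · obtain ⟨a, w, hw⟩ := Types.jointly_surjective_of_isColimit hH z
    refine ⟨⟨w, a.s⟩, ?_⟩
    show (a.s : ℤ) • z = (EtCoh.HF X i).map φ w
    rw [← hlam a, hsm]
    exact congrArg ((a.s : ℤ) • ·) hw.symm
  · let a : Den.{u} S := ⟨1⟩
    have e : lam a = φ := by
      have := hlam a
      simpa [a] using this
    obtain ⟨b, f, hf⟩ := (Types.FilteredColimit.isColimit_eq_iff' (i := a) hH x₁ x₂).1 (by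
      show (EtCoh.HF X i).map (lam a) x₁ = (EtCoh.HF X i).map (lam a) x₂
      rw [e]; exact h)
    refine ⟨f.down.1, ?_⟩
    have hf' : (EtCoh.HF X i).map ((f.down.1 : ℤ) • 𝟙 F) x₁ = (EtCoh.HF X i).map ((f.down.1 : ℤ) • 𝟙 F) x₂ := hf
    rw [hsm, hsm] at hf'
    exact ((congrArg ((f.down.1 : ℤ) • ·) (Sheaf.H.map_id_apply x₁)).symm.trans hf').trans
      (congrArg ((f.down.1 : ℤ) • ·) (Sheaf.H.map_id_apply x₂))

end Groth.Agent.Cons51
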