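import Groth.Agent.Mod48.ProperStalk
import Groth.Agent.Mod48.GermEtale
import Groth.Agent.EtCore45.BaseChange
import Groth.Agent.EtCore45.AlgClosedPts
import Groth.Agent.ProEt91.Cont
import Groth.Prelude.Def_EtCore

/-!
Proper base change in degree zero.
-/

set_option autoImplicit false
set_option backward.isDefEq.respectTransparency.types false
set_option linter.style.haveILetI false
universe u

open CategoryTheory CategoryTheory.Limits AlgebraicGeometry Opposite
open Groth.Agent.Unr55.EtSh Groth.Agent.EtCore45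
open Groth.Agent.Mod48 (GPt GSite etaleGSite fppfGSite toBigRes val_toBigRes toBig)

namespace Groth.Agent.Cons51

variable {S T : Scheme.{u}}

/-- Values of the etale germ description are germs. -/
theorem theta_val (f : T ⟶ S) (F : EtCoh.Ab S) {k : Type u} [Field k] [IsAlgClosed k]
    (ξ : Spec (CommRingCat.of k) ⟶ T) {P : T.Etale} (p : Pt ξ P) (v : (etaleGSite f).Pts ⟨k, ξ ≫ f⟩ P)
    (hv : v.left = hom ξ p) (σ : EtCoh.sect ((EtCoh.pull f).obj F) P) :
    theta f ξ F ((etaleGSite f).val F ⟨k, ξ ≫ f⟩ v σ) = germ ξ ((EtCoh.pull f).obj F) p σ := by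
  let G := (EtCoh.pull f).obj F
  obtain ⟨a, ha⟩ := (theta_bijective f ξ F).2 (germ ξ G p σ)
  obtain ⟨W, t, τ, rfl⟩ := exists_germ_eq (ξ ≫ f) F a
  rw [theta_germ] at ha
  let τ' := ((EtCoh.pullPushAdj f).unit.app F).hom.app (op W) τ
  obtain ⟨⟨R, r⟩, m₁, m₂, -⟩ := IsCofiltered.toIsCofilteredOrEmpty.cone_objs
    (C := (Scheme.pointSmallEtale ξ).fiber.Elements) ⟨P, p⟩ ⟨(EtCoh.bc f).obj W, ptUp f ξ t⟩
  have h0 : germ ξ G r (G.obj.map m₁.val.op σ - G.obj.map m₂.val.op τ') = 0 := by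
    rw [map_sub, germ_map, germ_map, m₁.property, m₂.property, sub_eq_zero]
    exact ha.symm
  obtain ⟨R', n, r', hn, hz⟩ := (germ_eq_zero_iff ξ G r _).1 h0
  rw [map_sub, sub_eq_zero] at hz
  let w : (etaleGSite f).Pts ⟨k, ξ ≫ f⟩ R' := Over.homMk (hom ξ r') (by
    show hom ξ r' ≫ R'.hom ≫ f = ξ ≫ f
    rw [← Category.assoc]
    exact congrArg (· ≫ f) (Over.w r'))
  have e1 : (Scheme.pointSmallEtale ξ).fiber.map (n ≫ m₁.val) r' = p := by
    rw [Functor.map_comp, ConcreteCategory.comp_apply, hn]; exact m₁.property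
  have e2 : (Scheme.pointSmallEtale ξ).fiber.map (n ≫ m₂.val) r' = ptUp f ξ t := by
    rw [Functor.map_comp, ConcreteCategory.comp_apply, hn]; exact m₂.property
  have hw1 : w ≫ (etaleGSite f).U.map (n ≫ m₁.val) = v :=
    Over.OverMorphism.ext ((congrArg (hom ξ) e1).trans hv.symm)
  have key : (etaleGSite f).val F ⟨k, ξ ≫ f⟩ v σ = germ (ξ ≫ f) F t τ := by
    rw [← hw1, ← GSite.val_map, op_comp, Functor.map_comp, ConcreteCategory.comp_apply, hz,
      ← ConcreteCategory.comp_apply, ← Functor.map_comp, ← op_comp, GSite.val_map]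
    refine ((etaleGSite f).val_eta F ⟨k, ξ ≫ f⟩ _ τ).trans ?_
    refine congrArg (fun q => germ (ξ ≫ f) F q τ) (Over.OverMorphism.ext ?_)
    show hom ξ ((Scheme.pointSmallEtale ξ).fiber.map (n ≫ m₂.val) r') ≫ pullback.fst W.hom f = hom _ t
    rw [e2]
    exact pullback.lift_fst _ _ _
  rw [key, theta_germ]
  exact ha

variable {X Y X' Y' : Scheme.{u}}

/-- The base change of the terminal object is terminal. -/
noncomputable def bcTopIso (f : X ⟶ Y) : (EtCoh.bc f).obj (EtCoh.top Y) ≅ EtCoh.top X :=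
  MorphismProperty.Over.isoMk
    (@asIso _ _ _ _ (pullback.snd (𝟙 Y) f) ((IsPullback.of_hasPullback (𝟙 Y) f).isIso_snd_of_isIso inferInstance))
    (Category.comp_id _)

/-- Over a separably closed field the stalk is the group of global sections. -/
theorem germ_top_bijective_id {Ω : Type u} [Field Ω] [IsSepClosed Ω] (A : EtCoh.Ab (Spec (CommRingCat.of Ω))) :
    Function.Bijective (germ (𝟙 _) A (mkPt (𝟙 _) (U := EtCoh.top _) (𝟙 _) (Category.comp_id _))) := by
  let t₀ : Pt (𝟙 (Spec (CommRingCat.of Ω))) (EtCoh.top _) := mkPt _ (𝟙 _) (Category.comp_id _)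
  have sec : ∀ {U : (Spec (CommRingCat.of Ω)).Etale} (t : Pt (𝟙 _) U),
      ∃ g : EtCoh.top _ ⟶ U, (Scheme.pointSmallEtale (𝟙 _)).fiber.map g t₀ = t := fun t =>
    ⟨MorphismProperty.Over.homMk (hom _ t) (Over.w t) trivial, Over.OverMorphism.ext (Category.id_comp _)⟩
  refine ⟨(injective_iff_map_eq_zero _).2 fun σ hσ => ?_, fun a => ?_⟩
  · obtain ⟨V, g, t, -, h2⟩ := (germ_eq_zero_iff _ A _ σ).1 hσ
    obtain ⟨s, -⟩ := sec t
    have hid : s ≫ g = 𝟙 _ := (EtCore.topIsTerminal _).hom_ext _ _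
    calc σ = A.obj.map (s ≫ g).op σ := by rw [hid, op_id, CategoryTheory.Functor.map_id, ConcreteCategory.id_apply]
      _ = A.obj.map s.op (A.obj.map g.op σ) := by rw [op_comp, Functor.map_comp, ConcreteCategory.comp_apply]
      _ = 0 := by rw [h2, map_zero]
  · obtain ⟨U, t, τ, rfl⟩ := exists_germ_eq (𝟙 _) A a
    obtain ⟨g, hg⟩ := sec t
    exact ⟨A.obj.map g.op τ, (germ_map _ A g t₀ τ).trans (by rw [hg])⟩

theorem isIso_baseChange0_proper (f : X ⟶ Y) [IsProper f] (g : Y' ⟶ Y)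
    (f' : X' ⟶ Y') (g' : X' ⟶ X) (h : IsPullback g' f' f g) (F : EtCoh.Ab X) :
    IsIso (EtCoh.baseChange0 f g f' g' h.w F) := by
  have : IsProper f' := MorphismProperty.of_isPullback h inferInstance
  have := ProEt91.epsCont X
  have := Mod48.aCont X
  have := Mod48.aCont Y
  refine isIso_of_stalks_algClosed _ fun K _ _ η => ⟨?_, fun b => ?_⟩
  · refine (injective_iff_map_eq_zero ((EtCoh.stalk η).map _).hom).2 fun b hb => ?_
    obtain ⟨a, rfl⟩ := (theta_bijective g η ((EtCoh.push f).obj F)).2 b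
    rw [show a = 0 from Mod48.pushMapAt_injective_proper f F ⟨K, η ≫ g⟩ a fun ξ hξ => ?_, map_zero]
    obtain ⟨ξ', rfl, h2⟩ : ∃ ξ', ξ' ≫ g' = ξ ∧ ξ' ≫ f' = η := ⟨h.lift ξ η hξ, h.lift_fst _ _ _, h.lift_snd _ _ _⟩
    have e := pushMapAt_bc0 f g f' g' h.w F η ξ' h2 hξ a
    refine (theta_bijective g' ξ' F).1 ?_
    rw [← e, map_zero]
    exact (congrArg (pushMapAt f' h2 ((EtCoh.pull g').obj F)) hb).trans (map_zero _)
  · obtain ⟨V, s, σ, hσ⟩ := exists_germ_eq η ((EtCoh.push f').obj ((EtCoh.pull g').obj F)) b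
    let σ' : EtCoh.sect ((EtCoh.pull g').obj F) ((EtCoh.bc f').obj V) := σ
    let Q := pullback (η ≫ g) f
    let l : Q ⟶ X' := h.lift (pullback.snd (η ≫ g) f) (pullback.fst (η ≫ g) f ≫ η) (by
      rw [Category.assoc]; exact pullback.condition.symm)
    have hl1 : l ≫ g' = pullback.snd (η ≫ g) f := h.lift_fst _ _ _
    have hl2 : l ≫ f' = pullback.fst (η ≫ g) f ≫ η := h.lift_snd _ _ _
    let m₀ : Q ⟶ pullback V.hom f' := pullback.lift (pullback.fst (η ≫ g) f ≫ hom η s) l (by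
      rw [Category.assoc, hl2]; exact congrArg (_ ≫ ·) (Over.w s))
    let m : (Over.pullback f).obj (Over.mk (η ≫ g)) ⟶ (toBig g').obj ((EtCoh.bc f').obj V) :=
      Over.homMk m₀ (by
        show m₀ ≫ pullback.snd V.hom f' ≫ g' = pullback.snd (η ≫ g) f
        rw [pullback.lift_snd_assoc, hl1])
    obtain ⟨a, ha⟩ := Mod48.exists_stalk_rep f F ⟨K, η ≫ g⟩
      (((EtFppf.aPull X).obj F).obj.map m.op ((toBigRes g' F).hom.app (op ((EtCoh.bc f').obj V)) σ'))
    refine ⟨theta g η _ a, sub_eq_zero.1 (Mod48.pushMapAt_injective_proper f' _ ⟨K, η⟩ _ fun ξ' h2 => ?_)⟩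
    have hξ : (ξ' ≫ g') ≫ f = η ≫ g := by rw [Category.assoc, h.w, ← Category.assoc]; exact congrArg (· ≫ g) h2
    rw [map_sub, pushMapAt_bc0 f g f' g' h.w F η ξ' h2 hξ a, ha _ hξ, sub_eq_zero, ← hσ, pushMapAt_germ]
    let lQ : Spec (CommRingCat.of K) ⟶ Q := pullback.lift (𝟙 _) (ξ' ≫ g') (by rw [Category.id_comp, hξ])
    have hlQ : lQ ≫ l = ξ' := by
      refine h.hom_ext ?_ ?_
      · rw [Category.assoc, hl1, pullback.lift_snd]
      · rw [Category.assoc, hl2, pullback.lift_fst_assoc, Category.id_comp]; exact h2.symm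
    let v : (etaleGSite g').Pts ⟨K, ξ' ≫ g'⟩ ((EtCoh.bc f').obj V) :=
      Over.homMk (hom ξ' (ptUpAt f' h2 s)) (by
        show hom ξ' (ptUpAt f' h2 s) ≫ pullback.snd V.hom f' ≫ g' = ξ' ≫ g'
        exact (Category.assoc _ _ _).symm.trans (congrArg (· ≫ g') (pullback.lift_snd _ _ _)))
    refine Eq.trans ?_ (theta_val g' F ξ' (ptUpAt f' h2 s) v rfl σ')
    congr 1
    refine ((fppfGSite X).val_map F m ⟨K, ξ' ≫ g'⟩ _ _).trans (Eq.trans ?_ (val_toBigRes g' F ⟨K, ξ' ≫ g'⟩ v σ'))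
    refine congrArg (fun w => (fppfGSite X).val F ⟨K, ξ' ≫ g'⟩ w _) (Over.OverMorphism.ext ?_)
    show lQ ≫ m₀ = hom ξ' (ptUpAt f' h2 s)
    refine pullback.hom_ext ?_ ?_
    · rw [Category.assoc, pullback.lift_fst, pullback.lift_fst_assoc, Category.id_comp]
      exact (pullback.lift_fst _ _ _).symm
    · rw [Category.assoc, pullback.lift_snd, hlQ]
      exact (pullback.lift_snd _ _ _).symm

end Groth.Agent.Cons51
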