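import Groth.Agent.Cons51.Reduced
import Groth.Agent.Unr55.Et.PullExact
import Groth.Agent.SpecSp50.Basic
import Mathlib.AlgebraicGeometry.Noetherian

/-!
Functoriality and locality of constructible abelian étale sheaves.
-/

set_option autoImplicit false
set_option backward.isDefEq.respectTransparency.types false
universe u

open CategoryTheory CategoryTheory.Limits AlgebraicGeometry Topology
open Groth.Agent.FlatMor66 (isClopen_constructibleTopology_of_isConstructible)

namespace Groth.Agent.Cons51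

variable {X Y : Scheme.{u}}

theorem isConstructible_of_open_cover (F : EtCoh.Ab X) {ι : Type*} (U : ι → X.Opens) (hU : ⨆ i, U i = ⊤)
    (h : ∀ i, EtPBC.IsConstructible ((EtCoh.pull (U i).ι).obj F)) : EtPBC.IsConstructible F := by
  refine isConstructible_of_nhds F fun x => ?_
  obtain ⟨i, hi⟩ := TopologicalSpace.Opens.mem_iSup.1 (hU.ge (show x ∈ (⊤ : X.Opens) from trivial))
  obtain ⟨V, hV, hxV, -, hcov⟩ := exists_strataCover (h i) isOpen_univ (x := (⟨x, hi⟩ : (U i).toScheme)) trivial
  exact ⟨(U i).ι '' (V : Set (U i).toScheme), (U i).ι.isOpenEmbedding.isOpenMap _ V.2, ⟨_, hxV, rfl⟩, hcov.image⟩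

theorem isConstructible_pull (f : X ⟶ Y) {F : EtCoh.Ab Y} (hF : EtPBC.IsConstructible F) :
    EtPBC.IsConstructible ((EtCoh.pull f).obj F) := by
  refine isConstructible_of_nhds _ fun x => ?_
  obtain ⟨V, hV, hxV, -, ι, hι, E, hES, hEc, hcov, hflc⟩ := exists_strataCover hF isOpen_univ (x := f x) trivial
  obtain ⟨W, hW, hxW, hWV⟩ := exists_isAffineOpen_mem_and_subset (X := X) (x := x) (U := f ⁻¹ᵁ V) hxV
  refine ⟨W, W.2, hxW, ι, hι, fun i => f ⁻¹' E i ∩ W, fun i => Set.inter_subset_right, fun i => ?_, fun w hw => ?_,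
    fun i => ((hflc i).preimage f).mono Set.inter_subset_left
      (((hflc i).isLocallyClosed.preimage f.continuous).inter W.2.isLocallyClosed)⟩
  · have : IsAffine W.toScheme := hW
    have : IsAffine V.toScheme := hV
    have : CompactSpace (V : Set Y) := isCompact_iff_compactSpace.1 hV.isCompact
    have : QuasiSeparatedSpace (W : Set X) := quasiSeparatedSpace_of_affine hW
    let g := f.resLE V W hWV
    let g' : ↥(W : Set X) → ↥(V : Set Y) := fun w => ⟨f w.1, hWV w.2⟩
    have hg : ∀ w : W.toScheme, g w = g' w := fun w =>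
      V.ι.isOpenEmbedding.injective (by rw [← Scheme.Hom.comp_apply, Scheme.Hom.resLE_comp_ι]; rfl)
    have := isConstructible_preimage (f := g') (f.continuous.comp continuous_subtype_val |>.subtype_mk _)
      (fun O ho hc => by
        have h := QuasiCompact.isCompact_preimage (f := g) O ho hc
        rw [funext hg] at h
        exact h) (hEc i)
    convert this using 1
    ext z
    exact ⟨fun hz => hz.1, fun hz => ⟨hz, z.2⟩⟩
  · obtain ⟨i, hi⟩ := Set.mem_iUnion.1 (hcov (hWV hw))
    exact Set.mem_iUnion.2 ⟨i, hi, hw⟩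

theorem isConstructible_iff_adapted_univ [CompactSpace X] [QuasiSeparatedSpace X] (F : EtCoh.Ab X) :
    EtPBC.IsConstructible F ↔ EtPBC.AdaptedStrata F (Set.univ : Set X) := by
  constructor
  · intro hF
    have : QuasiSeparatedSpace (Set.univ : Set X) :=
      (IsOpen.isOpenEmbedding_subtypeVal isOpen_univ).quasiSeparatedSpace
    refine adapted_of_strataCover isOpen_univ.isLocallyClosed
      (strataCover_of_nhds isOpen_univ isCompact_univ fun x _ => ?_)
    obtain ⟨V, -, hxV, -, h⟩ := exists_strataCover hF isOpen_univ (x := x) trivial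
    exact ⟨V, V.2, hxV, h⟩
  · exact fun h => isConstructible_of_nhds F fun x =>
      ⟨Set.univ, isOpen_univ, trivial, strataCover_of_adapted h⟩

theorem isConstructible_of_immersions [CompactSpace X] [QuasiSeparatedSpace X] (F : EtCoh.Ab X) {ι : Type*}
    (T : ι → Scheme.{u}) (g : ∀ i, T i ⟶ X) [∀ i, IsImmersion (g i)]
    (hc : ∀ i, Topology.IsConstructible (Set.range (g i))) (hcov : (⋃ i, Set.range (g i)) = Set.univ)
    (h : ∀ i, EtPBC.IsConstructible ((EtCoh.pull (g i)).obj F)) : EtPBC.IsConstructible F := by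
  have : SpectralSpace X := { }
  obtain ⟨L, hL⟩ := (isCompact_univ (X := WithConstructibleTopology X)).elim_finite_subcover
    (fun i : ι => WithTopology.ofTopology ⁻¹' Set.range (g i))
    (fun i => WithConstructibleTopology.isOpen_iff.mpr
      (isClopen_constructibleTopology_of_isConstructible (hc i)).1)
    (fun z _ => by
      obtain ⟨i, hi⟩ := Set.mem_iUnion.1 (hcov.ge (Set.mem_univ (WithTopology.ofTopology z)))
      exact Set.mem_iUnion.2 ⟨i, hi⟩)
  have hpiece : ∀ i, ∃ (κ : Type) (_ : Finite κ) (E : κ → Set X), (∀ k, Topology.IsConstructible (E k)) ∧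
      Set.range (g i) ⊆ (⋃ k, E k) ∧ ∀ k, FlcOn F (E k) := by
    intro i
    have hrc : IsCompact (Set.range (g i)) :=
      SpecSp50.isCompact_of_compact_of_le SpecSp50.cons_le SpecSp50.compactSpace_cons
        ((@isOpen_compl_iff X (Set.range (g i)) (constructibleTopology X)).1
          (isClopen_constructibleTopology_of_isConstructible (hc i)).2)
    have : CompactSpace (T i) := ⟨(g i).isEmbedding.isInducing.isCompact_iff.2 (by rwa [Set.image_univ])⟩
    have : QuasiSeparatedSpace (T i) := quasiSeparatedSpace_of_quasiSeparated (g i)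
    obtain ⟨κ, hκ, E, -, hEc, hEcov, hflc⟩ :=
      strataCover_of_adapted ((isConstructible_iff_adapted_univ _).1 (h i))
    refine ⟨κ, hκ, fun k => g i '' E k, fun k => isConstructible_image (g i).isEmbedding (hc i) ?_, ?_,
      fun k => (hflc k).image⟩
    · exact (isConstructible_preimage_iff_of_isOpenEmbedding isOpen_univ.isOpenEmbedding_subtypeVal
        (by simp) (by simp)).1 (hEc k)
    · rintro _ ⟨t, rfl⟩
      obtain ⟨k, hk⟩ := Set.mem_iUnion.1 (hEcov (Set.mem_univ t))
      exact Set.mem_iUnion.2 ⟨k, t, hk, rfl⟩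
  choose κ hκ E hEc hEcov hflc using hpiece
  refine (isConstructible_iff_adapted_univ F).2 (adapted_of_strataCover isOpen_univ.isLocallyClosed ?_)
  obtain ⟨n, ⟨e⟩⟩ := Finite.exists_equiv_fin L
  have := hκ
  refine ⟨Σ j : Fin n, κ (e.symm j).1, inferInstance, fun p => E (e.symm p.1).1 p.2, fun p => Set.subset_univ _,
    fun p => (hEc _ _).preimage_of_isOpenEmbedding isOpen_univ.isOpenEmbedding_subtypeVal, fun x _ => ?_,
    fun p => hflc _ _⟩
  obtain ⟨i, hi, hx⟩ := Set.mem_iUnion₂.1 (hL (Set.mem_univ (WithTopology.toTopology _ x)))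
  obtain ⟨j, hj⟩ := e.symm.surjective ⟨i, hi⟩
  have hx' : x ∈ Set.range (g (e.symm j).1) := by rw [hj]; exact hx
  obtain ⟨k, hk⟩ := Set.mem_iUnion.1 (hEcov _ hx')
  exact Set.mem_iUnion.2 ⟨⟨j, k⟩, hk⟩

theorem isConstructible_kernel_cokernel {F G : EtCoh.Ab X} (φ : F ⟶ G) (hF : EtPBC.IsConstructible F)
    (hG : EtPBC.IsConstructible G) :
    EtPBC.IsConstructible (kernel φ) ∧ EtPBC.IsConstructible (cokernel φ) := by
  have key : ∀ x : X, ∃ W : Set X, IsOpen W ∧ x ∈ W ∧ StrataCover (kernel φ) W ∧ StrataCover (cokernel φ) W := by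
    intro x
    obtain ⟨V, hV, hxV, -, hcF⟩ := exists_strataCover hF isOpen_univ (x := x) trivial
    obtain ⟨ι, hι, E, hES, hEc, hcov, hT⟩ := hcF.inter (strataCover_of_adapted (hG V hV))
    choose T g hg hgr h1 h2 using hT
    refine ⟨V, V.2, hxV, ⟨ι, hι, E, hES, hEc, hcov, fun i => ?_⟩, ⟨ι, hι, E, hES, hEc, hcov, fun i => ?_⟩⟩
    · have := Unr55.EtSh.preservesFiniteLimits_pull (g i)
      exact ⟨T i, g i, hg i, hgr i, flc_of_iso (PreservesKernel.iso (EtCoh.pull (g i)) φ).symm
        ((LocConst45.flc_weakSerre (T i)).1 _ _ _ (h1 i) (h2 i)).1⟩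
    · exact ⟨T i, g i, hg i, hgr i, flc_of_iso (PreservesCokernel.iso (EtCoh.pull (g i)) φ).symm
        ((LocConst45.flc_weakSerre (T i)).1 _ _ _ (h1 i) (h2 i)).2⟩
  exact ⟨isConstructible_of_nhds _ fun x => (key x).imp fun W h => ⟨h.1, h.2.1, h.2.2.1⟩,
    isConstructible_of_nhds _ fun x => (key x).imp fun W h => ⟨h.1, h.2.1, h.2.2.2⟩⟩

theorem isConstructible_extension (S : ShortComplex (EtCoh.Ab X)) (hS : S.ShortExact)
    (h1 : EtPBC.IsConstructible S.X₁) (h3 : EtPBC.IsConstructible S.X₃) : EtPBC.IsConstructible S.X₂ := by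
  refine isConstructible_of_nhds _ fun x => ?_
  obtain ⟨V, hV, hxV, -, hc1⟩ := exists_strataCover h1 isOpen_univ (x := x) trivial
  obtain ⟨ι, hι, E, hES, hEc, hcov, hT⟩ := hc1.inter (strataCover_of_adapted (h3 V hV))
  choose T g hg hgr e1 e3 using hT
  refine ⟨V, V.2, hxV, ι, hι, E, hES, hEc, hcov, fun i => ⟨T i, g i, hg i, hgr i, ?_⟩⟩
  have := Unr55.EtSh.preservesFiniteLimits_pull (g i)
  exact (LocConst45.flc_weakSerre (T i)).2.prop_X₂_of_shortExact (hS.map_of_exact (EtCoh.pull (g i))) (e1 i) (e3 i)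

theorem isConstructible_iff_closures [IsLocallyNoetherian X] (F : EtCoh.Ab X) :
    EtPBC.IsConstructible F ↔
      ∀ x : X, ∃ (V : X.Opens) (T : Scheme.{u}) (g : T ⟶ X), IsImmersion g ∧ x ∈ V ∧
        Set.range g.base = (V : Set X) ∩ closure {x} ∧
        EtCoh.IsFiniteLocallyConstant ((EtCoh.pull g).obj F) := by
  constructor
  · intro hF x
    obtain ⟨U, hU, hxU, -, ι, hι, E, hES, hEc, hcov, hflc⟩ := exists_strataCover hF isOpen_univ (x := x) trivial
    obtain ⟨i, hi⟩ := Set.mem_iUnion.1 (hcov hxU)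
    obtain ⟨O, C, hO, hC, hE⟩ := (hflc i).isLocallyClosed
    have hx : x ∈ O ∩ C := hE ▸ hi
    have hsub : O ∩ closure {x} ⊆ E i := by
      rw [hE]
      exact Set.inter_subset_inter_right _ (closure_minimal (Set.singleton_subset_iff.2 hx.2) hC)
    obtain ⟨T, g, hg, hgr, hgF⟩ := (hflc i).mono hsub (hO.isLocallyClosed.inter isClosed_closure.isLocallyClosed)
    exact ⟨⟨O, hO⟩, T, g, hg, hx.1, hgr, hgF⟩
  intro h
  refine isConstructible_of_nhds F fun x => ?_
  obtain ⟨U, hU, hxU, -⟩ := exists_isAffineOpen_mem_and_subset (X := X) (x := x) (U := ⊤) trivial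
  have : IsAffine U.toScheme := hU
  have : IsNoetherian U.toScheme := { toIsLocallyNoetherian := inferInstance, toCompactSpace := inferInstance }
  have : TopologicalSpace.NoetherianSpace (U : Set X) := inferInstanceAs (TopologicalSpace.NoetherianSpace U.toScheme)
  have : QuasiSober (U : Set X) := inferInstanceAs (QuasiSober U.toScheme)
  have hcons : ∀ A : Set (U : Set X), IsLocallyClosed A → Topology.IsConstructible A := by
    rintro A ⟨O, C, hO, hC, rfl⟩
    exact ((TopologicalSpace.NoetherianSpace.isCompact O).isConstructible hO).inter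
      (isConstructible_compl.1 ((TopologicalSpace.NoetherianSpace.isCompact Cᶜ).isConstructible hC.isOpen_compl))
  have key : ∀ C : TopologicalSpace.Closeds (U : Set X), ∃ (ι : Type) (_ : Finite ι) (E : ι → Set X),
      (∀ i, E i ⊆ U) ∧ (∀ i, Topology.IsConstructible ((Subtype.val : ↥(U : Set X) → X) ⁻¹' E i)) ∧
      Subtype.val '' (C : Set (U : Set X)) ⊆ (⋃ i, E i) ∧ ∀ i, FlcOn F (E i) := by
    intro C
    induction C using WellFoundedLT.induction with
    | ind C ih =>
      by_cases hirr : IsIrreducible (C : Set (U : Set X))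
      · obtain ⟨η, hη⟩ : ∃ η, closure {η} = (C : Set (U : Set X)) :=
          ⟨_, hirr.genericPoint_closure_eq.trans C.isClosed.closure_eq⟩
        obtain ⟨V, T, g, hg, hηV, hgr, hgF⟩ := h η.1
        let A : Set X := ((V : Set X) ∩ closure {η.1}) ∩ U
        have hAl : IsLocallyClosed A := (V.2.isLocallyClosed.inter isClosed_closure.isLocallyClosed).inter U.2.isLocallyClosed
        have hAF : FlcOn F A := FlcOn.mono ⟨T, g, hg, hgr, hgF⟩ Set.inter_subset_left hAl
        let C' : TopologicalSpace.Closeds (U : Set X) :=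
          ⟨(C : Set (U : Set X)) \ (Subtype.val ⁻¹' (V : Set X)), C.isClosed.sdiff (V.2.preimage continuous_subtype_val)⟩
        have hlt : C' < C := by
          refine lt_of_le_of_ne (fun z hz => hz.1) fun he => ?_
          have : η ∈ (C : Set (U : Set X)) := hη ▸ subset_closure rfl
          rw [← he] at this
          exact this.2 hηV
        obtain ⟨ι, hι, E, hES, hEc, hcov, hflc⟩ := ih C' hlt
        refine ⟨Option ι, inferInstance, fun o => o.elim A E, ?_, ?_, ?_, ?_⟩
        · rintro (_ | i)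
          exacts [Set.inter_subset_right, hES i]
        · rintro (_ | i)
          exacts [hcons _ (hAl.preimage continuous_subtype_val), hEc i]
        · rintro _ ⟨z, hz, rfl⟩
          by_cases hzV : z.1 ∈ V
          · refine Set.mem_iUnion.2 ⟨none, ⟨hzV, ?_⟩, z.2⟩
            have : η ⤳ z := specializes_iff_mem_closure.2 (hη.ge hz)
            exact specializes_iff_mem_closure.1 (this.map continuous_subtype_val)
          · obtain ⟨i, hi⟩ := Set.mem_iUnion.1 (hcov ⟨z, ⟨hz, hzV⟩, rfl⟩)
            exact Set.mem_iUnion.2 ⟨some i, hi⟩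
        · rintro (_ | i)
          exacts [hAF, hflc i]
      · rcases Set.eq_empty_or_nonempty (C : Set (U : Set X)) with hC | hne
        · exact ⟨Empty, inferInstance, fun e => e.elim, fun e => e.elim, fun e => e.elim,
            by rw [hC, Set.image_empty]; exact Set.empty_subset _, fun e => e.elim⟩
        have hp : ¬ IsPreirreducible (C : Set (U : Set X)) := fun hp => hirr ⟨hne, hp⟩
        rw [isPreirreducible_iff_isClosed_union_isClosed] at hp
        push Not at hp
        obtain ⟨z₁, z₂, hz₁, hz₂, hsub, hn₁, hn₂⟩ := hp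
        have hlt : ∀ z : Set (U : Set X), ∀ hz : IsClosed z, ¬ (C : Set (U : Set X)) ⊆ z →
            C ⊓ ⟨z, hz⟩ < C := fun z hz hn => lt_of_le_of_ne inf_le_left fun he => hn fun w hw => by
          have h' := he.ge hw
          exact h'.2
        obtain ⟨ι₁, hι₁, E₁, hS₁, hc₁, hcov₁, hf₁⟩ := ih _ (hlt z₁ hz₁ hn₁)
        obtain ⟨ι₂, hι₂, E₂, hS₂, hc₂, hcov₂, hf₂⟩ := ih _ (hlt z₂ hz₂ hn₂)
        refine ⟨ι₁ ⊕ ι₂, inferInstance, Sum.elim E₁ E₂, ?_, ?_, ?_, ?_⟩
        · rintro (i | i)
          exacts [hS₁ i, hS₂ i]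
        · rintro (i | i)
          exacts [hc₁ i, hc₂ i]
        · rintro _ ⟨z, hz, rfl⟩
          rcases hsub hz with hz' | hz'
          · obtain ⟨i, hi⟩ := Set.mem_iUnion.1 (hcov₁ ⟨z, ⟨hz, hz'⟩, rfl⟩)
            exact Set.mem_iUnion.2 ⟨Sum.inl i, hi⟩
          · obtain ⟨i, hi⟩ := Set.mem_iUnion.1 (hcov₂ ⟨z, ⟨hz, hz'⟩, rfl⟩)
            exact Set.mem_iUnion.2 ⟨Sum.inr i, hi⟩
        · rintro (i | i)
          exacts [hf₁ i, hf₂ i]
  obtain ⟨ι, hι, E, hES, hEc, hcov, hflc⟩ := key ⊤
  exact ⟨U, U.2, hxU, ι, hι, E, hES, hEc, fun z hz => hcov ⟨⟨z, hz⟩, trivial, rfl⟩, hflc⟩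

end Groth.Agent.Cons51
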