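import Groth.Agent.SpPts86.EtLocalStrict
import Groth.Agent.Henz21.FaithfullyFlat
import Groth.Agent.Cons51.Count

/-!
Specialisation arrows between geometric points.
-/

set_option autoImplicit false
set_option backward.isDefEq.respectTransparency.types false
universe u

open CategoryTheory CategoryTheory.Limits AlgebraicGeometry Opposite IsLocalRing
open Groth.Agent.Unr55.EtSh

namespace Groth.Agent.Cons51

variable {X : Scheme.{u}}

attribute [local instance] SpPts86.isLocalRing_etaleLocalRing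

/-- The spectrum of the etale local ring hits every generisation of the point. -/
theorem exists_eta_eq {Ω : Type u} [Field Ω] [IsSepClosed Ω] (ξ : Spec (CommRingCat.of Ω) ⟶ X) (g : X)
    (h : g ⤳ ξ default) : ∃ q, SpPts86.eta ξ q = g := by
  let x₀ := SpPts86.eta ξ (closedPoint (EtBase.etaleLocalRing ξ : Type u))
  let φ := Scheme.stalkClosedPointTo (SpPts86.eta ξ)
  letI : Algebra (X.presheaf.stalk x₀) (EtBase.etaleLocalRing ξ : Type u) := φ.hom.toAlgebra
  obtain ⟨hloc, hS⟩ := SpPts86.isStrictHenselization_eta ξ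
  have : Hensel.IsStrictHenselization (X.presheaf.stalk x₀) (EtBase.etaleLocalRing ξ : Type u) := hS
  have := Henz21.strictHenselization_faithfullyFlat (R := X.presheaf.stalk x₀) (EtBase.etaleLocalRing ξ : Type u)
  obtain ⟨p, hp⟩ : g ∈ Set.range (X.fromSpecStalk x₀) := by
    rw [Scheme.range_fromSpecStalk]
    show g ⤳ x₀
    rw [show x₀ = ξ default from SpPts86.eta_closedPoint ξ]
    exact h
  obtain ⟨q, hq⟩ := PrimeSpectrum.comap_surjective_of_faithfullyFlat (A := X.presheaf.stalk x₀)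
    (B := (EtBase.etaleLocalRing ξ : Type u)) p
  refine ⟨q, ?_⟩
  rw [← Scheme.Spec_stalkClosedPointTo_fromSpecStalk (SpPts86.eta ξ), Scheme.Hom.comp_apply]
  refine (congrArg (X.fromSpecStalk x₀) ?_).trans hp
  exact hq

variable {Ω : Type u} [Field Ω] [IsSepClosed Ω] (ξ : Spec (CommRingCat.of Ω) ⟶ X)

/-- A generisation of a point of an etale neighbourhood is the image of a specialisation arrow. -/
theorem exists_specArrow {U : X.Etale} (p : Pt ξ U) (g : U.left) (h : g ⤳ hom ξ p default) :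
    ∃ (Ω' : Type u) (_ : Field Ω') (_ : IsSepClosed Ω') (ξ' : Spec (CommRingCat.of Ω') ⟶ X)
      (φ : Scheme.pointSmallEtale ξ' ⟶ Scheme.pointSmallEtale ξ), hom ξ' (φ.hom.app U p) default = g := by
  let ζ : Spec (CommRingCat.of Ω) ⟶ U.left := hom ξ p
  have hζ : ζ ≫ U.hom = ξ := Over.w p
  obtain ⟨q, hq⟩ := exists_eta_eq ζ g h
  let K := AlgebraicClosure ((Spec (EtBase.etaleLocalRing ζ)).residueField q)
  obtain ⟨k, hk⟩ : ∃ k : Spec (CommRingCat.of K) ⟶ Spec (EtBase.etaleLocalRing ζ), k default = q :=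
    ⟨Spec.map (CommRingCat.ofHom (algebraMap ((Spec (EtBase.etaleLocalRing ζ)).residueField q) K)) ≫
      (Spec (EtBase.etaleLocalRing ζ)).fromSpecResidueField q,
      (Scheme.Hom.comp_apply _ _ _).trans (Scheme.fromSpecResidueField_apply q _)⟩
  let ξ' : Spec (CommRingCat.of K) ⟶ X := (k ≫ SpPts86.eta ζ) ≫ U.hom
  let cast : ∀ {V : X.Etale}, Pt ξ V → Pt (ζ ≫ U.hom) V := fun t => mkPt _ (hom ξ t) ((Over.w t).trans hζ.symm)
  have hw : ∀ {V : X.Etale} (t : Pt ξ V),
      (k ≫ SpPts86.theta ζ (ptUp U.hom ζ (cast t)) ≫ pullback.fst V.hom U.hom) ≫ V.hom = ξ' := fun {V} t => by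
    refine (Category.assoc _ _ _).trans ((congrArg (k ≫ ·) ?_).trans (Category.assoc _ _ _).symm)
    refine (Category.assoc _ _ _).trans ((congrArg (SpPts86.theta ζ (ptUp U.hom ζ (cast t)) ≫ ·) pullback.condition).trans ?_)
    exact (Category.assoc _ _ _).symm.trans (congrArg (· ≫ U.hom) (SpPts86.theta_hom ζ _))
  let ψ : (Scheme.pointSmallEtale ξ).fiber ⟶ (Scheme.pointSmallEtale ξ').fiber :=
    { app := fun V => TypeCat.ofHom fun t => mkPt _ _ (hw t)
      naturality := fun V W a => ConcreteCategory.hom_ext _ _ fun t => Over.OverMorphism.ext (by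
        show k ≫ SpPts86.theta ζ (ptUp U.hom ζ (cast ((Scheme.pointSmallEtale ξ).fiber.map a t))) ≫
            pullback.fst W.hom U.hom =
          (k ≫ SpPts86.theta ζ (ptUp U.hom ζ (cast t)) ≫ pullback.fst V.hom U.hom) ≫ a.left
        rw [show cast ((Scheme.pointSmallEtale ξ).fiber.map a t) =
          (Scheme.pointSmallEtale (ζ ≫ U.hom)).fiber.map a (cast t) from Over.OverMorphism.ext rfl,
          ptUp_map, SpPts86.theta_map]
        refine (congrArg (k ≫ ·) ?_).trans (Category.assoc _ _ _).symm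
        refine (Category.assoc _ _ _).trans ((congrArg (SpPts86.theta ζ (ptUp U.hom ζ (cast t)) ≫ ·)
          (EtCoh.isPullback_bc_map U.hom a).w).trans ?_)
        exact (Category.assoc _ _ _).symm) }
  refine ⟨K, inferInstance, inferInstance, ξ', ⟨ψ⟩, ?_⟩
  let Δ : EtCoh.top U.left ⟶ (EtCoh.bc U.hom).obj U :=
    MorphismProperty.Over.homMk (pullback.lift (𝟙 _) (𝟙 _) rfl) (pullback.lift_snd _ _ _) trivial
  let q₀ : Pt ζ (EtCoh.top U.left) := mkPt _ ζ (Category.comp_id _)
  have hs : (Scheme.pointSmallEtale ζ).fiber.map Δ q₀ = ptUp U.hom ζ (cast p) := by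
    refine Over.OverMorphism.ext ?_
    show ζ ≫ pullback.lift (𝟙 _) (𝟙 _) rfl = pullback.lift ζ ζ rfl
    exact pullback.hom_ext
      ((Category.assoc _ _ _).trans ((congrArg (ζ ≫ ·) (pullback.lift_fst _ _ _)).trans
        ((Category.comp_id _).trans (pullback.lift_fst _ _ _).symm)))
      ((Category.assoc _ _ _).trans ((congrArg (ζ ≫ ·) (pullback.lift_snd _ _ _)).trans
        ((Category.comp_id _).trans (pullback.lift_snd _ _ _).symm)))
  show (k ≫ SpPts86.theta ζ (ptUp U.hom ζ (cast p)) ≫ pullback.fst U.hom U.hom) default = g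
  rw [← hs, SpPts86.theta_map]
  have ht : SpPts86.theta ζ q₀ = SpPts86.eta ζ := (Category.comp_id _).symm.trans (SpPts86.theta_hom ζ q₀)
  rw [ht]
  have e : (SpPts86.eta ζ ≫ Δ.left) ≫ pullback.fst U.hom U.hom = SpPts86.eta ζ :=
    (Category.assoc _ _ _).trans ((congrArg (SpPts86.eta ζ ≫ ·) (pullback.lift_fst _ _ _)).trans (Category.comp_id _))
  refine (congrArg (fun r => (k ≫ r) default) e).trans ?_
  show (k ≫ SpPts86.eta ζ) default = g
  rw [Scheme.Hom.comp_apply, hk, hq]

end Groth.Agent.Cons51
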