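import Groth.Agent.Cons51.SpecArrow
import Groth.Agent.Cons51.StalkExt

/-!
Specialisation maps, finite local constancy and constructibility.
-/

set_option autoImplicit false
set_option backward.isDefEq.respectTransparency.types false
universe u

open CategoryTheory CategoryTheory.Limits AlgebraicGeometry Topology Opposite
open Groth.Agent.Unr55.EtSh Groth.Agent.LocConst45

namespace Groth.Agent.Cons51

variable {X : Scheme.{u}} {F : EtCoh.Ab X}

theorem sheafFiber_germ {Ω Ω' : Type u} [Field Ω] [IsSepClosed Ω] [Field Ω'] [IsSepClosed Ω']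
    {ξ : Spec (CommRingCat.of Ω) ⟶ X} {ξ' : Spec (CommRingCat.of Ω') ⟶ X}
    (φ : Scheme.pointSmallEtale ξ' ⟶ Scheme.pointSmallEtale ξ) {U : X.Etale} (p : Pt ξ U) (s : EtCoh.sect F U) :
    ((GrothendieckTopology.Point.Hom.sheafFiber (A := AddCommGrpCat.{u + 1}) φ).app F) (germ ξ F p s) =
      germ ξ' F (φ.hom.app U p) s :=
  ConcreteCategory.congr_hom ((Scheme.pointSmallEtale ξ).toPresheafFiber_presheafFiberDesc
    (P := F.obj) (fun V x => (Scheme.pointSmallEtale ξ').toPresheafFiber V (φ.hom.app V x) F.obj)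
    (fun V W f x => ((Scheme.pointSmallEtale ξ').toPresheafFiber_w f (φ.hom.app V x) F.obj).trans
      (congrArg (fun y => (Scheme.pointSmallEtale ξ').toPresheafFiber W y F.obj)
        (ConcreteCategory.congr_hom (φ.hom.naturality f) x).symm)) U p) s

/-- Finite locally constant sheaves have bijective specialisation maps. -/
theorem isIso_sheafFiber_of_flc (hF : EtCoh.IsFiniteLocallyConstant F) {Ω Ω' : Type u} [Field Ω] [IsSepClosed Ω]
    [Field Ω'] [IsSepClosed Ω'] (ξ : Spec (CommRingCat.of Ω) ⟶ X) (ξ' : Spec (CommRingCat.of Ω') ⟶ X)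
    (φ : Scheme.pointSmallEtale ξ' ⟶ Scheme.pointSmallEtale ξ) :
    IsIso ((GrothendieckTopology.Point.Hom.sheafFiber (A := AddCommGrpCat.{u + 1}) φ).app F) := by
  obtain ⟨U, u, M, _, _, σ, hu, hσ⟩ := (finiteLocallyConstant_iff F).1 hF (ξ default)
  obtain ⟨p⟩ := EtCore45.exists_pt U ξ ⟨u, hu⟩
  refine (ConcreteCategory.isIso_iff_bijective _).2
    ((Function.Bijective.of_comp_iff _ (bijective_germ_of_triv hσ p)).1 ?_)
  convert bijective_germ_of_triv hσ (φ.hom.app U p) using 1
  funext m
  exact sheafFiber_germ φ p (σ m)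

/-- Stalk cardinalities depend only on the point. -/
theorem card_stalk_eq {Ω Ω' : Type u} [Field Ω] [IsSepClosed Ω] [Field Ω'] [IsSepClosed Ω'] (F : EtCoh.Ab X)
    (η : Spec (CommRingCat.of Ω) ⟶ X) (η' : Spec (CommRingCat.of Ω') ⟶ X) (h : η default = η' default) :
    Nat.card ((EtCoh.stalk η).obj F) = Nat.card ((EtCoh.stalk η').obj F) := by
  obtain ⟨z, -, -⟩ := Scheme.Pullback.exists_preimage_pullback (f := η) (g := η') default default h
  let K := AlgebraicClosure ((pullback η η').residueField z)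
  let k : Spec (CommRingCat.of K) ⟶ pullback η η' :=
    Spec.map (CommRingCat.ofHom (algebraMap ((pullback η η').residueField z) K)) ≫
      (pullback η η').fromSpecResidueField z
  have hk : (k ≫ pullback.fst η η') ≫ η = (k ≫ pullback.snd η η') ≫ η' := by
    simp only [Category.assoc, pullback.condition]
  have h1 := Nat.card_congr (Equiv.ofBijective _ (stalkExt_bijective (k ≫ pullback.fst η η') η F))
  rw [hk] at h1
  exact h1.trans (Nat.card_congr (Equiv.ofBijective _ (stalkExt_bijective (k ≫ pullback.snd η η') η' F))).symm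

/-- Germs at two geometric points of a neighbourhood over the same point. -/
theorem bijective_germ_of_same_image {U : X.Etale} {M : Type (u + 1)} [AddCommGroup M] (σ : M →+ EtCoh.sect F U)
    {Ω Ω' : Type u} [Field Ω] [IsSepClosed Ω] [Field Ω'] [IsSepClosed Ω']
    {η : Spec (CommRingCat.of Ω) ⟶ X} {η' : Spec (CommRingCat.of Ω') ⟶ X} (p : Pt η U) (p' : Pt η' U)
    (h : hom η p default = hom η' p' default) (hb : Function.Bijective fun m => germ η F p (σ m)) :
    Function.Bijective fun m => germ η' F p' (σ m) := by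
  obtain ⟨z, -, -⟩ := Scheme.Pullback.exists_preimage_pullback (f := hom η p) (g := hom η' p') default default h
  let K := AlgebraicClosure ((pullback (hom η p) (hom η' p')).residueField z)
  let k : Spec (CommRingCat.of K) ⟶ pullback (hom η p) (hom η' p') :=
    Spec.map (CommRingCat.ofHom (algebraMap ((pullback (hom η p) (hom η' p')).residueField z) K)) ≫
      (pullback (hom η p) (hom η' p')).fromSpecResidueField z
  let a := k ≫ pullback.fst (hom η p) (hom η' p')
  let b := k ≫ pullback.snd (hom η p) (hom η' p')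
  have hab : a ≫ hom η p = b ≫ hom η' p' := by simp only [a, b, Category.assoc, pullback.condition]
  have key : ∀ (κ κ' : Spec (CommRingCat.of K) ⟶ X) (q : Pt κ U) (q' : Pt κ' U), κ = κ' →
      hom κ q = hom κ' q' → (Function.Bijective fun m => germ κ F q (σ m)) →
        Function.Bijective fun m => germ κ' F q' (σ m) := by
    rintro κ _ q q' rfl hq hb'
    obtain rfl := Unr55.EtSh.hom_ext κ hq
    exact hb'
  have hbase : a ≫ η = b ≫ η' := by
    exact ((congrArg (a ≫ ·) (Over.w p :).symm).trans ((Category.assoc _ _ _).symm.trans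
      ((congrArg (· ≫ U.hom) hab).trans (Category.assoc _ _ _)))).trans (congrArg (b ≫ ·) (Over.w p' :))
  have h1 : Function.Bijective fun m => germ (a ≫ η) F (ptExt a η p) (σ m) := by
    convert (stalkExt_bijective a η F).comp hb using 1
    funext m
    exact (stalkExt_germ a η F p (σ m)).symm
  have h2 := key _ _ (ptExt a η p) (ptExt b η' p') hbase hab h1
  refine (Function.Bijective.of_comp_iff' (stalkExt_bijective b η' F) _).1 ?_
  convert h2 using 1
  funext m
  exact stalkExt_germ b η' F p' (σ m)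

/-- A sheaf with finite stalks and bijective specialisation maps is finite locally constant. -/
theorem flc_of_isIso_sheafFiber [IsLocallyNoetherian X]
    (hfin : ∀ (Ω : Type u) [Field Ω] [IsSepClosed Ω] (ξ : Spec (CommRingCat.of Ω) ⟶ X),
      Finite ((EtCoh.stalk ξ).obj F))
    (h : ∀ (Ω Ω' : Type u) [Field Ω] [IsSepClosed Ω] [Field Ω'] [IsSepClosed Ω']
      (ξ : Spec (CommRingCat.of Ω) ⟶ X) (ξ' : Spec (CommRingCat.of Ω') ⟶ X)
      (φ : Scheme.pointSmallEtale ξ' ⟶ Scheme.pointSmallEtale ξ),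
      IsIso ((GrothendieckTopology.Point.Hom.sheafFiber (A := AddCommGrpCat.{u + 1}) φ).app F)) :
    EtCoh.IsFiniteLocallyConstant F := by
  refine (finiteLocallyConstant_iff F).2 fun x => ?_
  obtain ⟨Ω, _, _, ξ, t₀, ht₀⟩ := point_over (EtCoh.top X) x
  have hx : ξ default = x := by
    have : hom ξ t₀ = ξ := (Category.comp_id _).symm.trans (Over.w t₀)
    rwa [this] at ht₀
  have := hfin Ω ξ
  obtain ⟨U, p, σ, hσ⟩ := exists_stalk_realisation F ξ
  let uu := hom ξ p default
  have : Etale U.hom := U.prop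
  have : IsLocallyNoetherian ((Functor.fromPUnit X).obj U.right) := ‹IsLocallyNoetherian X›
  have : IsLocallyNoetherian U.left := LocallyOfFiniteType.isLocallyNoetherian U.hom
  obtain ⟨B, hB, huB, -⟩ := exists_isAffineOpen_mem_and_subset (X := U.left) (x := uu) (U := ⊤) trivial
  have : IsAffine B.toScheme := hB
  have : IsNoetherian B.toScheme := { }
  let R : Set B.toScheme := ⋃ Z ∈ {Z ∈ irreducibleComponents ↥B.toScheme | (⟨uu, huB⟩ : B.toScheme) ∉ Z}, Z
  have hR : IsClosed R := (TopologicalSpace.NoetherianSpace.finite_irreducibleComponents.subset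
    fun _ hZ => hZ.1).isClosed_biUnion fun Z hZ => isClosed_of_mem_irreducibleComponents Z hZ.1
  let O : U.left.Opens := B.ι ''ᵁ ⟨Rᶜ, hR.isOpen_compl⟩
  have huO : uu ∈ O := ⟨⟨uu, huB⟩, fun hR' => by
    obtain ⟨Z, hZ, hz⟩ := Set.mem_iUnion₂.1 hR'
    exact hZ.2 hz, rfl⟩
  have hnear : ∀ y ∈ O, ∃ g : U.left, g ⤳ y ∧ g ⤳ uu := by
    rintro _ ⟨b, hb, rfl⟩
    have hu' : (⟨uu, huB⟩ : B.toScheme) ∈ irreducibleComponent b := by
      by_contra hc
      exact hb (Set.mem_biUnion (x := irreducibleComponent b)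
        ⟨irreducibleComponent_mem_irreducibleComponents b, hc⟩ mem_irreducibleComponent)
    obtain ⟨g, hg⟩ := QuasiSober.sober (isIrreducible_irreducibleComponent (x := b)) isClosed_irreducibleComponent
    exact ⟨B.ι g, (hg.specializes mem_irreducibleComponent).map B.ι.continuous,
      (hg.specializes hu').map B.ι.continuous⟩
  have hσb : Function.Bijective fun m => germ ξ F p (σ m) := by
    simp only [hσ]
    exact Function.bijective_id
  have hgood : ∀ g : U.left, g ⤳ uu → ∃ (K : Type u) (_ : Field K) (_ : IsSepClosed K)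
      (η : Spec (CommRingCat.of K) ⟶ X) (q : Pt η U), hom η q default = g ∧
        Function.Bijective fun m => germ η F q (σ m) := fun g hg => by
    obtain ⟨K, _, _, η, φ, hφ⟩ := exists_specArrow ξ p g hg
    have := h Ω K ξ η φ
    refine ⟨K, inferInstance, inferInstance, η, φ.hom.app U p, hφ, ?_⟩
    convert ((ConcreteCategory.isIso_iff_bijective
      ((GrothendieckTopology.Point.Hom.sheafFiber (A := AddCommGrpCat.{u + 1}) φ).app F)).1 this).comp hσb using 1
    funext m
    exact (sheafFiber_germ φ p (σ m)).symm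
  refine ⟨openSub U O, (⟨uu, huO⟩ : O.toScheme), _, inferInstance, inferInstance,
    (F.obj.map (openSubι U O).op).hom.comp σ, ?_, fun V a m ⟨v⟩ hm => ?_, fun W a s w => ?_⟩
  · show U.hom uu = x
    rw [← hx, ← Scheme.Hom.comp_apply]
    exact congrArg (fun r : Spec (CommRingCat.of Ω) ⟶ X => r default) (Over.w p)
  · let b := a ≫ openSubι U O
    have := etale_left b
    obtain ⟨g, hgy, hgu⟩ := hnear (b.left v) (O.range_ι.le ⟨a.left v, rfl⟩)
    obtain ⟨K, _, _, η, q, hq, hbij⟩ := hgood g hgu
    obtain ⟨v', hv'⟩ : g ∈ Set.range b.left := hgy.mem_open (isOpen_range_left _) ⟨v, rfl⟩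
    obtain ⟨t, ht⟩ := exists_pt_over b q v' (hv'.trans hq.symm)
    refine hbij.1 (?_ : germ η F q (σ m) = germ η F q (σ 0))
    rw [map_zero, map_zero, ← ht, ← germ_map, map_comp']
    exact (congrArg (germ η F t) hm).trans (map_zero _)
  · obtain ⟨L, _, _, θ, t, ht⟩ := point_over W w
    let b := a ≫ openSubι U O
    let q₀ : Pt θ U := (Scheme.pointSmallEtale θ).fiber.map b t
    have hq₀ : hom θ q₀ default = b.left w := by
      rw [← ht]
      exact (Scheme.Hom.comp_apply _ _ _)
    obtain ⟨g, hgy, hgu⟩ := hnear (b.left w) (O.range_ι.le ⟨a.left w, rfl⟩)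
    obtain ⟨K, _, _, η, q, hq, hbij⟩ := hgood g hgu
    obtain ⟨K', _, _, η', φ, hφ⟩ := exists_specArrow θ q₀ g (hq₀.symm ▸ hgy)
    have hb' := bijective_germ_of_same_image σ q (φ.hom.app U q₀) (hq.trans hφ.symm) hbij
    have := h L K' θ η' φ
    have hθ : Function.Bijective fun m => germ θ F q₀ (σ m) := by
      refine (Function.Bijective.of_comp_iff' ((ConcreteCategory.isIso_iff_bijective
        ((GrothendieckTopology.Point.Hom.sheafFiber (A := AddCommGrpCat.{u + 1}) φ).app F)).1 this) _).1 ?_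
      convert hb' using 1
      funext m
      exact sheafFiber_germ φ q₀ (σ m)
    obtain ⟨m, hm⟩ := hθ.2 (germ θ F t s)
    obtain ⟨V, c, t', ht', h0⟩ := (germ_eq_zero_iff θ F t (s - F.obj.map b.op (σ m))).1 (by
      rw [map_sub, germ_map, sub_eq_zero]; exact hm.symm)
    rw [map_sub, sub_eq_zero] at h0
    refine ⟨V, c, hom θ t' default, m, (congrArg (fun r => hom θ r default) ht').trans ht, h0.trans ?_⟩
    rw [map_comp', map_comp']
    rfl

/-- A sheaf with finite stalks and injective specialisation maps is constructible. -/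
theorem isConstructible_of_mono_sheafFiber [IsLocallyNoetherian X]
    (hfin : ∀ (Ω : Type u) [Field Ω] [IsSepClosed Ω] (ξ : Spec (CommRingCat.of Ω) ⟶ X),
      Finite ((EtCoh.stalk ξ).obj F))
    (h : ∀ (Ω Ω' : Type u) [Field Ω] [IsSepClosed Ω] [Field Ω'] [IsSepClosed Ω']
      (ξ : Spec (CommRingCat.of Ω) ⟶ X) (ξ' : Spec (CommRingCat.of Ω') ⟶ X)
      (φ : Scheme.pointSmallEtale ξ' ⟶ Scheme.pointSmallEtale ξ),
      Mono ((GrothendieckTopology.Point.Hom.sheafFiber (A := AddCommGrpCat.{u + 1}) φ).app F)) :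
    EtPBC.IsConstructible F := by
  refine (isConstructible_iff_closures F).2 fun x => ?_
  obtain ⟨T, g, hg, hgr⟩ := EtStrat51.exists_immersion (isClosed_closure (s := {x})).isLocallyClosed
  obtain ⟨t₀, ht₀⟩ : x ∈ Set.range g := hgr.ge (subset_closure rfl)
  have hgen : ∀ t : T, t₀ ⤳ t := fun t => g.isEmbedding.isInducing.specializes_iff.1
    (ht₀.symm ▸ specializes_iff_mem_closure.2 (hgr.le ⟨t, rfl⟩))
  have : IrreducibleSpace T := by
    have h := (isIrreducible_singleton (x := t₀)).closure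
    rw [Set.eq_univ_of_forall fun t => specializes_iff_mem_closure.1 (hgen t)] at h
    exact irreducibleSpace_def _ |>.2 h
  have htg : genericPoint T = t₀ :=
    (genericPoint_spec T).eq (isGenericPoint_iff_specializes.2 fun t => by simp [hgen t])
  obtain ⟨Ω, _, _, ζ, t, ht⟩ := point_over (EtCoh.top T) t₀
  have hζ : ζ default = t₀ := by
    have : hom ζ t = ζ := (Category.comp_id _).symm.trans (Over.w t)
    rwa [this] at ht
  have hfin' : ∀ (K : Type u) [Field K] [IsSepClosed K] (ξ : Spec (CommRingCat.of K) ⟶ T),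
      Finite ((EtCoh.stalk ξ).obj ((EtCoh.pull g).obj F)) := fun K _ _ ξ =>
    have := hfin K (ξ ≫ g)
    Finite.of_surjective _ (theta_bijective g ξ F).surjective
  have := hfin' Ω ζ
  obtain ⟨O, hO, hflc⟩ := exists_open_flc_of_count ζ (hζ.trans htg.symm) hfin' fun y => by
    obtain ⟨K, _, _, κ, s, hs⟩ := point_over (EtCoh.top T) y
    have hκ : κ default = y := by
      have : hom κ s = κ := (Category.comp_id _).symm.trans (Over.w s)
      rwa [this] at hs
    refine ⟨K, inferInstance, inferInstance, κ, hκ, ?_⟩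
    rw [← Nat.card_congr (Equiv.ofBijective _ (theta_bijective g κ F)),
      ← Nat.card_congr (Equiv.ofBijective _ (theta_bijective g ζ F))]
    obtain ⟨p₀, hp₀⟩ := exists_pt_at (EtCoh.top X) (κ ≫ g) (g y) (congrArg g hκ).symm
    obtain ⟨L, _, _, η, φ, hφ⟩ := exists_specArrow (κ ≫ g) p₀ x (hp₀.symm ▸ ht₀ ▸ (hgen y).map g.continuous)
    have hη : η default = x := by
      have : hom η (φ.hom.app (EtCoh.top X) p₀) = η := (Category.comp_id _).symm.trans (Over.w _)
      rwa [this] at hφ
    have hm := h K L (κ ≫ g) η φ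
    have := hfin L η
    refine (Nat.card_le_card_of_injective _ ((AddCommGrpCat.mono_iff_injective
      ((GrothendieckTopology.Point.Hom.sheafFiber (A := AddCommGrpCat.{u + 1}) φ).app F)).1 hm)).trans ?_
    exact le_of_eq (card_stalk_eq F η (ζ ≫ g) (hη.trans (ht₀.symm.trans (congrArg g hζ).symm)))
  obtain ⟨W', hW', hOW⟩ := g.isEmbedding.isInducing.isOpen_iff.1 O.2
  refine ⟨⟨W', hW'⟩, O.toScheme, O.ι ≫ g, inferInstance, ?_, ?_,
    flc_of_iso ((EtCore.pullComp O.ι g).app F).symm hflc⟩
  · rw [← ht₀]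
    exact hOW.ge (htg ▸ hO)
  · rw [Scheme.Hom.comp_base, TopCat.coe_comp, Set.range_comp, Scheme.Opens.range_ι]
    ext y
    constructor
    · rintro ⟨t, ht, rfl⟩
      exact ⟨hOW.ge ht, hgr.le ⟨t, rfl⟩⟩
    · rintro ⟨hyW', hy⟩
      obtain ⟨t, rfl⟩ := hgr.ge hy
      exact ⟨t, hOW.le hyW', rfl⟩

end Groth.Agent.Cons51
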