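import Groth.Agent.Cons51.Descent
import Groth.Agent.Cons51.SpecFlc
import Groth.Agent.Cons51.Local
import Groth.Agent.E4O.GenOpen

/-!
Maps from constant sheaves given by sections; constructible sheaves and specialisation maps.
-/

set_option autoImplicit false
set_option backward.isDefEq.respectTransparency.types false
universe u

open CategoryTheory CategoryTheory.Limits AlgebraicGeometry Topology Opposite
open Groth.Agent.Unr55.EtSh Groth.Agent.LocConst45

namespace Groth.Agent.Cons51

variable {X : Scheme.{u}} {F : EtCoh.Ab X}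

/-- A family of sections as a map from a constant sheaf to the inverse image. -/
noncomputable def toPull (V : X.Etale) {M : AddCommGrpCat.{u + 1}} (σ : M →+ EtCoh.sect F V) :
    (constantSheaf V.left.smallEtaleTopology AddCommGrpCat.{u + 1}).obj M ⟶ (EtCoh.pull V.hom).obj F :=
  constDesc ((((EtCoh.pull V.hom).obj F).obj.map
    (MorphismProperty.Over.homMk (pullback.lift (𝟙 _) (𝟙 _) rfl) (pullback.lift_snd _ _ _) trivial :
      EtCoh.top V.left ⟶ (EtCoh.bc V.hom).obj V).op).hom.comp
    ((((EtCoh.pullPushAdj V.hom).unit.app F).hom.app (op V)).hom.comp σ))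

theorem bijective_toPull_iff (V : X.Etale) {M : AddCommGrpCat.{u + 1}} (σ : M →+ EtCoh.sect F V)
    {Ω : Type u} [Field Ω] [IsSepClosed Ω] (ζ : Spec (CommRingCat.of Ω) ⟶ V.left)
    {η : Spec (CommRingCat.of Ω) ⟶ X} (hη : ζ ≫ V.hom = η) :
    Function.Bijective ((EtCoh.stalk ζ).map (toPull V σ)) ↔
      Function.Bijective fun m => germ η F (mkPt _ ζ hη : Pt η V) (σ m) := by
  subst hη
  let q : Pt ζ (EtCoh.top V.left) := mkPt _ ζ (Category.comp_id _)
  let s : Pt (ζ ≫ V.hom) V := mkPt _ ζ rfl
  let Δ : EtCoh.top V.left ⟶ (EtCoh.bc V.hom).obj V :=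
    MorphismProperty.Over.homMk (pullback.lift (𝟙 _) (𝟙 _) rfl) (pullback.lift_snd _ _ _) trivial
  have hs : (Scheme.pointSmallEtale ζ).fiber.map Δ q = ptUp V.hom ζ s := by
    refine Over.OverMorphism.ext ?_
    show ζ ≫ pullback.lift (𝟙 _) (𝟙 _) rfl = pullback.lift ζ ζ rfl
    exact pullback.hom_ext
      ((Category.assoc _ _ _).trans ((congrArg (ζ ≫ ·) (pullback.lift_fst _ _ _)).trans
        ((Category.comp_id _).trans (pullback.lift_fst _ _ _).symm)))
      ((Category.assoc _ _ _).trans ((congrArg (ζ ≫ ·) (pullback.lift_snd _ _ _)).trans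
        ((Category.comp_id _).trans (pullback.lift_snd _ _ _).symm)))
  have e : ∀ m, (EtCoh.stalk ζ).map (toPull V σ) (germ ζ _ q (constσ M (EtCoh.top V.left) m)) =
      theta V.hom ζ F (germ (ζ ≫ V.hom) F s (σ m)) := fun m => by
    refine (stalk_map_germ _ _ _ _).trans ((congrArg _ (constDesc_constσ _ m)).trans ?_)
    rw [theta_germ, ← hs, ← germ_map]
    rfl
  have e' : ⇑((EtCoh.stalk ζ).map (toPull V σ)) ∘ (fun m => germ ζ _ q (constσ M (EtCoh.top V.left) m)) =
      ⇑(theta V.hom ζ F) ∘ fun m => germ (ζ ≫ V.hom) F s (σ m) := funext e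
  rw [← Function.Bijective.of_comp_iff _ (bijective_germ_of_triv (isTriv_const M (EtCoh.top V.left)) q), e',
    Function.Bijective.of_comp_iff' (theta_bijective V.hom ζ F)]

/-- Trivialisations are detected on stalks. -/
theorem isTriv_of_stalks {U : X.Etale} {M : Type (u + 1)} [AddCommGroup M] (σ : M →+ EtCoh.sect F U)
    (h : ∀ (Ω : Type u) [Field Ω] [IsSepClosed Ω] (η : Spec (CommRingCat.of Ω) ⟶ X) (p : Pt η U),
      Function.Bijective fun m => germ η F p (σ m)) : IsTriv F U σ := by
  refine ⟨fun W a m ⟨w⟩ hm => ?_, fun W a s w => ?_⟩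
  · obtain ⟨Ω, _, _, η, t, -⟩ := point_over W w
    refine (h Ω η ((Scheme.pointSmallEtale η).fiber.map a t)).1 (?_ : germ η F _ (σ m) = germ η F _ (σ 0))
    rw [map_zero, map_zero, ← germ_map]
    exact (congrArg (germ η F t) hm).trans (map_zero _)
  · obtain ⟨Ω, _, _, η, t, ht⟩ := point_over W w
    obtain ⟨m, hm⟩ := (h Ω η ((Scheme.pointSmallEtale η).fiber.map a t)).2 (germ η F t s)
    obtain ⟨V, c, t', ht', h0⟩ := (germ_eq_zero_iff η F t (s - F.obj.map a.op (σ m))).1 (by
      rw [map_sub, germ_map, sub_eq_zero]; exact hm.symm)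
    rw [map_sub, sub_eq_zero] at h0
    exact ⟨V, c, hom η t' default, m, (congrArg (fun r => hom η r default) ht').trans ht,
      h0.trans (map_comp' F c a _).symm⟩

/-- A trivialisation near the closed point makes specialisation bijective. -/
theorem isIso_sheafFiber_of_triv {U : X.Etale} {M : Type (u + 1)} [AddCommGroup M] {σ : M →+ EtCoh.sect F U}
    (hσ : IsTriv F U σ) {Ω Ω' : Type u} [Field Ω] [IsSepClosed Ω] [Field Ω'] [IsSepClosed Ω']
    {ξ : Spec (CommRingCat.of Ω) ⟶ X} (p : Pt ξ U) (ξ' : Spec (CommRingCat.of Ω') ⟶ X)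
    (φ : Scheme.pointSmallEtale ξ' ⟶ Scheme.pointSmallEtale ξ) :
    IsIso ((GrothendieckTopology.Point.Hom.sheafFiber (A := AddCommGrpCat.{u + 1}) φ).app F) := by
  refine (ConcreteCategory.isIso_iff_bijective _).2
    ((Function.Bijective.of_comp_iff _ (bijective_germ_of_triv hσ p)).1 ?_)
  convert bijective_germ_of_triv hσ (φ.hom.app U p) using 1
  funext m
  exact sheafFiber_germ φ p (σ m)

/-- A constructible sheaf is locally constant near a point iff the specialisations to it are bijective. -/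
theorem flc_near_iff (hF : EtPBC.IsConstructible F) {Ω : Type u} [Field Ω] [IsSepClosed Ω]
    (ξ : Spec (CommRingCat.of Ω) ⟶ X) :
    (∃ U : X.Opens, ξ default ∈ U ∧ EtCoh.IsFiniteLocallyConstant ((EtCoh.pull U.ι).obj F)) ↔
      ∀ (Ω' : Type u) [Field Ω'] [IsSepClosed Ω'] (ξ' : Spec (CommRingCat.of Ω') ⟶ X)
        (φ : Scheme.pointSmallEtale ξ' ⟶ Scheme.pointSmallEtale ξ),
        IsIso ((GrothendieckTopology.Point.Hom.sheafFiber (A := AddCommGrpCat.{u + 1}) φ).app F) := by
  constructor
  · rintro ⟨U, hU, hflc⟩ Ω' _ _ ξ' φ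
    have := EtCore45.jCont U.ι
    obtain ⟨V, v, M, _, _, σ, hv, hσ⟩ := (finiteLocallyConstant_iff _).1
      (flc_of_iso ((EtCore45.pullRestrIso U.ι).app F) hflc) ⟨ξ default, hU⟩
    obtain ⟨p⟩ := EtCore45.exists_pt ((EtShriek.compEtale U.ι).obj V) ξ ⟨v, congrArg U.ι hv⟩
    exact isIso_sheafFiber_of_triv (isTriv_compEtale U.ι σ hσ) p ξ' φ
  · intro h
    have := finite_stalk hF ξ
    obtain ⟨U₀, p₀, σ₀, hσ₀⟩ := exists_stalk_realisation F ξ
    obtain ⟨B, hB, hpB, -⟩ := exists_isAffineOpen_mem_and_subset (X := U₀.left) (x := hom ξ p₀ default) (U := ⊤) trivial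
    let V := openSub U₀ B
    let p := ptOpen B p₀ hpB
    let σ := (F.obj.map (openSubι U₀ B).op).hom.comp σ₀
    have hσb : Function.Bijective fun m => germ ξ F p (σ m) := by
      convert Function.bijective_id using 1
      funext m
      show germ ξ F p (F.obj.map (openSubι U₀ B).op (σ₀ m)) = m
      rw [germ_map, map_ptOpen, hσ₀]
    have : Etale V.hom := V.prop
    have : IsAffine V.left := hB
    have hconst : EtPBC.IsConstructible
        ((constantSheaf V.left.smallEtaleTopology AddCommGrpCat.{u + 1}).obj ((EtCoh.stalk ξ).obj F)) :=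
      isConstructible_of_flc ((finiteLocallyConstant_iff _).2 fun z =>
        ⟨EtCoh.top V.left, z, _, inferInstance, inferInstance, _, rfl, isTriv_const _ _⟩)
    let S : Set V.left := {z | ∀ (K : Type u) [Field K] [IsSepClosed K] (η : Spec (CommRingCat.of K) ⟶ V.left),
      η default = z → Function.Bijective ((EtCoh.stalk η).map (toPull V σ))}
    have hS : Topology.IsConstructible S := bijective_locus _ hconst (isConstructible_pull V.hom hF)
    have hgen : ∀ g : V.left, g ⤳ hom ξ p default → g ∈ S := fun g hg K _ _ η hη => by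
      obtain ⟨L, _, _, ξ', φ, hφ⟩ := exists_specArrow ξ p g hg
      have := h L ξ' φ
      have hb : Function.Bijective fun m => germ ξ' F (φ.hom.app V p) (σ m) := by
        convert ((ConcreteCategory.isIso_iff_bijective
          ((GrothendieckTopology.Point.Hom.sheafFiber (A := AddCommGrpCat.{u + 1}) φ).app F)).1 this).comp hσb using 1
        funext m
        exact (sheafFiber_germ φ p (σ m)).symm
      refine bijective_stalk_of_eq (toPull V σ) (hom ξ' (φ.hom.app V p)) η (hφ.trans hη.symm) ?_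
      exact (bijective_toPull_iff V σ _ (Over.w (φ.hom.app V p))).2 hb
    obtain ⟨O, hOS, hO, hpO⟩ := mem_nhds_iff.1 (E4O.mem_nhds_of_forall_generization hS.isLocallyConstructible hgen)
    let O' : V.left.Opens := ⟨O, hO⟩
    let W := openSub V O'
    let τ := (F.obj.map (openSubι V O').op).hom.comp σ
    have htriv : IsTriv F W τ := isTriv_of_stalks τ fun K _ _ η q => by
      let q' : Pt η V := (Scheme.pointSmallEtale η).fiber.map (openSubι V O') q
      have hz : hom η q' default ∈ S := hOS (O'.range_ι.le ⟨hom η q default, (Scheme.Hom.comp_apply _ _ _).symm⟩)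
      have hb := (bijective_toPull_iff V σ (hom η q') (η := η) (Over.w q')).1 (hz K (hom η q') rfl)
      convert hb using 1
      funext m
      exact germ_map η F (openSubι V O') q (σ m)
    have : Etale W.hom := W.prop
    refine ⟨⟨Set.range W.hom, W.hom.isOpenMap.isOpen_range⟩, ⟨(⟨_, hpO⟩ : O'.toScheme), ?_⟩,
      (finiteLocallyConstant_iff _).2 fun x => ?_⟩
    · show V.hom (hom ξ p default) = ξ default
      rw [← Scheme.Hom.comp_apply]
      exact congrArg (fun r : Spec (CommRingCat.of Ω) ⟶ X => r default) (Over.w p)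
    · obtain ⟨v, hv⟩ := x.2
      obtain ⟨w, hw⟩ := exists_pull_pt (Scheme.Opens.ι ⟨Set.range W.hom, W.hom.isOpenMap.isOpen_range⟩) x v hv
      obtain ⟨κ', hκ'⟩ := pull_triv (Scheme.Opens.ι ⟨Set.range W.hom, W.hom.isOpenMap.isOpen_range⟩) htriv
      exact ⟨_, w, _, inferInstance, inferInstance, κ', hw, hκ'⟩

end Groth.Agent.Cons51
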