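import Groth.Agent.Cons51.Supp
import Groth.Agent.Unr55.UnrQF
import Groth.Agent.EtCore45.Stalks
import Mathlib.AlgebraicGeometry.Morphisms.QuasiFinite

/-!
Subsheaves of finite locally constant sheaves on irreducible schemes.
-/

set_option autoImplicit false
set_option backward.isDefEq.respectTransparency.types false
universe u

open CategoryTheory CategoryTheory.Limits AlgebraicGeometry Topology Opposite
open Groth.Agent.Unr55.EtSh Groth.Agent.LocConst45

namespace Groth.Agent.Cons51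

variable {T : Scheme.{u}}

/-- Etale schemes over `U` refine a common one, if `U` has a single point over the generic point. -/
theorem exists_common_over {U : T.Etale} {u : U.left} (hu : ∀ y : U.left, u ⤳ y) {V V' : T.Etale}
    (a : V ⟶ U) (b : V' ⟶ U) (hV : Nonempty V.left) (hV' : Nonempty V'.left) :
    ∃ (W : T.Etale) (c : W ⟶ V) (d : W ⟶ V'), Nonempty W.left ∧ c ≫ a = d ≫ b := by
  have := etale_left a
  have := etale_left b
  obtain ⟨v, hv⟩ : u ∈ Set.range a.left :=
    (hu _).mem_open (isOpen_range_left a) ⟨hV.some, rfl⟩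
  obtain ⟨v', hv'⟩ : u ∈ Set.range b.left :=
    (hu _).mem_open (isOpen_range_left b) ⟨hV'.some, rfl⟩
  obtain ⟨w, -, -⟩ := Scheme.Pullback.exists_preimage_pullback (f := a.left) (g := b.left) v v' (hv.trans hv'.symm)
  have hVe : Etale V.hom := V.prop
  have : Etale (pullback.fst a.left b.left) := MorphismProperty.pullback_fst _ _ inferInstance
  let W : T.Etale := Scheme.Etale.mk (pullback.fst a.left b.left ≫ V.hom)
  refine ⟨W, MorphismProperty.Over.homMk (pullback.fst a.left b.left) rfl trivial,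
    MorphismProperty.Over.homMk (pullback.snd a.left b.left) (by
      show pullback.snd a.left b.left ≫ V'.hom = pullback.fst a.left b.left ≫ V.hom
      rw [← show b.left ≫ U.hom = V'.hom from Over.w b.hom, ← show a.left ≫ U.hom = V.hom from Over.w a.hom,
        ← Category.assoc, ← Category.assoc, pullback.condition]) trivial, ⟨w⟩,
    MorphismProperty.Over.Hom.ext pullback.condition⟩

/-- A finite locally constant sheaf on an irreducible scheme is trivial on an etale neighbourhood with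
a single point over the generic point. -/
theorem exists_uniform_triv [IrreducibleSpace T] {F : EtCoh.Ab T} (hF : EtCoh.IsFiniteLocallyConstant F) :
    ∃ (U : T.Etale) (u : U.left) (M : Type (u + 1)) (_ : AddCommGroup M) (_ : Finite M)
      (σ : M →+ EtCoh.sect F U), IsTriv F U σ ∧ ∀ y : U.left, u ⤳ y := by
  obtain ⟨U, u, M, _, _, σ, hu, hσ⟩ := (finiteLocallyConstant_iff F).1 hF (genericPoint T)
  have : Etale U.hom := U.prop
  have : LocallyQuasiFinite U.hom := Unr55.locallyQuasiFinite_of_formallyUnramified U.hom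
  obtain ⟨A, hA, huA, -⟩ := exists_isAffineOpen_mem_and_subset (X := T) (x := genericPoint T) (U := ⊤) trivial
  obtain ⟨B, hB, huB, hBA⟩ := exists_isAffineOpen_mem_and_subset (X := U.left) (x := u) (U := U.hom ⁻¹ᵁ A)
    (show U.hom u ∈ A from hu ▸ huA)
  have hfin : ((B : Set U.left) ∩ U.hom ⁻¹' {genericPoint T}).Finite := by
    have : IsAffine B.toScheme := hB
    have : IsAffine A.toScheme := hA
    have hf := (U.hom.resLE A B hBA).finite_preimage_singleton ⟨genericPoint T, huA⟩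
    refine (hf.image B.ι).subset ?_
    rintro a ⟨haB, ha⟩
    refine ⟨⟨a, haB⟩, A.ι.isOpenEmbedding.injective ?_, rfl⟩
    rw [← Scheme.Hom.comp_apply, Scheme.Hom.resLE_comp_ι]
    exact ha
  let R : Set U.left := ⋃ z ∈ ((B : Set U.left) ∩ U.hom ⁻¹' {genericPoint T}) \ {u}, closure {z}
  have hR : IsClosed R := (hfin.subset Set.sdiff_subset).isClosed_biUnion fun _ _ => isClosed_closure
  let O : U.left.Opens := ⟨(B : Set U.left) \ R, B.2.sdiff hR⟩
  have huO : u ∈ O := ⟨huB, fun hR' => by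
    obtain ⟨z, ⟨⟨-, hz⟩, hne⟩, hzu⟩ := Set.mem_iUnion₂.1 hR'
    obtain ⟨V, hV, hVu⟩ := isDiscrete_iff_forall_mem_exists_isOpen.1
      (U.hom.isDiscrete_preimage_singleton (genericPoint T)) u hu
    exact hne (hVu.le ⟨(specializes_iff_mem_closure.2 hzu).mem_open hV (hVu.ge rfl).1, hz⟩)⟩
  refine ⟨openSub U O, (⟨u, huO⟩ : O.toScheme), M, inferInstance, inferInstance,
    (F.obj.map (openSubι U O).op).hom.comp σ, hσ.restrict _, fun y => ?_⟩
  let y' : O.toScheme := y
  have : IrreducibleSpace ↥((Functor.fromPUnit T).obj U.right) := ‹IrreducibleSpace T›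
  obtain ⟨z, hz, hgz⟩ := Flat.generalizingMap U.hom (genericPoint_specializes (U.hom (O.ι y')))
  have hzO : z ∈ O := hz.mem_open O.2 y'.2
  have hzu : z = u := by
    by_contra hne
    exact hzO.2 (Set.mem_biUnion (x := z) ⟨⟨hzO.1, hgz⟩, hne⟩ (subset_closure rfl))
  subst hzu
  exact (O.ι.isOpenEmbedding.isInducing.specializes_iff (x := (⟨z, huO⟩ : O.toScheme)) (y := y')).1 hz

variable {F : EtCoh.Ab T} {U : T.Etale} {M : Type (u + 1)} [AddCommGroup M] (σ : M →+ EtCoh.sect F U)
  {u : U.left} (hu : ∀ y : U.left, u ⤳ y)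

/-- The values lying in a subsheaf somewhere. -/
def InSub {G : EtCoh.Ab T} (i : G ⟶ F) (m : M) : Prop :=
  ∃ (V : T.Etale) (a : V ⟶ U) (g : EtCoh.sect G V), Nonempty V.left ∧ i.hom.app (op V) g = F.obj.map a.op (σ m)

theorem naturality' {F G : EtCoh.Ab T} (i : G ⟶ F) {V W : T.Etale} (c : W ⟶ V) (g : EtCoh.sect G V) :
    i.hom.app (op W) (G.obj.map c.op g) = F.obj.map c.op (i.hom.app (op V) g) :=
  NatTrans.naturality_apply i.hom c.op g

include hu in
/-- The values of a subsheaf form a subgroup realised on one etale neighbourhood. -/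
theorem exists_realisation [Finite M] {G : EtCoh.Ab T} (i : G ⟶ F) [Mono i] :
    ∃ (V : T.Etale) (a : V ⟶ U) (H : AddSubgroup M), Nonempty V.left ∧ (H : Set M) = {m | InSub σ i m} ∧
      ∃ κ : H →+ EtCoh.sect G V, ∀ m : H, i.hom.app (op V) (κ m) = F.obj.map a.op (σ m.1) := by
  classical
  have := Fintype.ofFinite M
  have key : ∀ S : Finset M, ∃ (V : T.Etale) (a : V ⟶ U), Nonempty V.left ∧
      ∀ m ∈ S, InSub σ i m → ∃ g : EtCoh.sect G V, i.hom.app (op V) g = F.obj.map a.op (σ m) := by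
    intro S
    induction S using Finset.induction with
    | empty => exact ⟨U, 𝟙 U, ⟨u⟩, fun m hm => absurd hm (Finset.notMem_empty m)⟩
    | insert m₀ S _ ih =>
      obtain ⟨V, a, hV, hS⟩ := ih
      by_cases h₀ : InSub σ i m₀
      · obtain ⟨V₀, a₀, g₀, hV₀, hg₀⟩ := h₀
        obtain ⟨W, c, d, hW, hcd⟩ := exists_common_over hu a a₀ hV hV₀
        refine ⟨W, c ≫ a, hW, fun m hm hm' => ?_⟩
        rcases Finset.mem_insert.1 hm with rfl | hm
        · exact ⟨G.obj.map d.op g₀, by rw [naturality' i d g₀, hg₀, ← map_comp', hcd]⟩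
        · obtain ⟨g, hg⟩ := hS m hm hm'
          exact ⟨G.obj.map c.op g, by rw [naturality' i c g, hg, ← map_comp']⟩
      · refine ⟨V, a, hV, fun m hm hm' => ?_⟩
        rcases Finset.mem_insert.1 hm with rfl | hm
        · exact absurd hm' h₀
        · exact hS m hm hm'
  obtain ⟨V, a, hV, hall⟩ := key Finset.univ
  let H : AddSubgroup M :=
    { carrier := {m | InSub σ i m}
      zero_mem' := ⟨U, 𝟙 U, 0, ⟨u⟩, by simp⟩
      add_mem' := fun {m n} hm hn => by
        obtain ⟨g, hg⟩ := hall m (Finset.mem_univ m) hm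
        obtain ⟨g', hg'⟩ := hall n (Finset.mem_univ n) hn
        exact ⟨V, a, g + g', hV, by rw [map_add, hg, hg', map_add, map_add]⟩
      neg_mem' := fun {m} hm => by
        obtain ⟨g, hg⟩ := hall m (Finset.mem_univ m) hm
        exact ⟨V, a, -g, hV, by rw [map_neg, hg, map_neg, map_neg]⟩ }
  have hinj := injective_app_of_mono i V
  choose κ hκ using fun m : H => hall m.1 (Finset.mem_univ _) m.2
  refine ⟨V, a, H, hV, rfl, AddMonoidHom.mk' κ fun m n => hinj ?_, hκ⟩
  rw [map_add, hκ, hκ, hκ, AddSubgroup.coe_add, map_add, map_add]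

/-- Sections of the subsheaf are locally values of it. -/
theorem exists_local_value {σ : M →+ EtCoh.sect F U} (hσ : IsTriv F U σ) {G : EtCoh.Ab T} (i : G ⟶ F) {W : T.Etale} (a : W ⟶ U)
    (g : EtCoh.sect G W) (x : W.left) :
    ∃ (V : T.Etale) (c : V ⟶ W) (v : V.left) (m : M), c.left v = x ∧ InSub σ i m ∧
      i.hom.app (op V) (G.obj.map c.op g) = F.obj.map (c ≫ a).op (σ m) := by
  obtain ⟨V, c, v, m, hv, hm⟩ := hσ.surj W a (i.hom.app (op W) g) x
  have e := (naturality' i c g).trans hm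
  exact ⟨V, c, v, m, hv, ⟨V, c ≫ a, G.obj.map c.op g, ⟨v⟩, e⟩, e⟩

/-- A subsheaf of a finite locally constant sheaf is so on a dense open. -/
theorem exists_open_flc_sub [IrreducibleSpace T] {F G : EtCoh.Ab T} (hF : EtCoh.IsFiniteLocallyConstant F)
    (i : G ⟶ F) [Mono i] :
    ∃ O : T.Opens, genericPoint T ∈ O ∧ EtCoh.IsFiniteLocallyConstant ((EtCoh.pull O.ι).obj G) := by
  obtain ⟨U, u, M, _, _, σ, hσ, hu⟩ := exists_uniform_triv hF
  obtain ⟨V, a, H, ⟨v₀⟩, hH, κ, hκ⟩ := exists_realisation σ hu i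
  have : Etale V.hom := V.prop
  let O : T.Opens := ⟨Set.range V.hom, V.hom.isOpenMap.isOpen_range⟩
  have htriv : IsTriv G V κ := by
    refine ⟨fun W b m hW hm => Subtype.ext (hσ.inj W (b ≫ a) m.1 hW ?_), fun W b g x => ?_⟩
    · rw [map_comp', ← hκ, ← naturality' i b, hm, map_zero]
    · obtain ⟨V', c, v, m, hv, hmH, hm⟩ := exists_local_value hσ i (b ≫ a) g x
      refine ⟨V', c, v, ⟨m, hH.ge hmH⟩, hv, injective_app_of_mono i V' ?_⟩
      rw [hm, naturality' i (c ≫ b), hκ, ← map_comp', Category.assoc]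
  have : IrreducibleSpace ↥((Functor.fromPUnit T).obj V.right) := ‹IrreducibleSpace T›
  refine ⟨O, (genericPoint_specializes (V.hom v₀)).mem_open O.2 ⟨v₀, rfl⟩,
    (finiteLocallyConstant_iff _).2 fun x => ?_⟩
  obtain ⟨v, hv⟩ := x.2
  obtain ⟨w, hw⟩ := exists_pull_pt O.ι x v hv
  obtain ⟨κ', hκ'⟩ := pull_triv O.ι htriv
  exact ⟨_, w, H, inferInstance, inferInstance, κ', hw, hκ'⟩

/-- An increasing sequence of subsheaves of a finite locally constant sheaf is stationary on a dense
open. -/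
theorem exists_open_stable [IrreducibleSpace T] {F : EtCoh.Ab T} (hF : EtCoh.IsFiniteLocallyConstant F)
    (G : ℕ → EtCoh.Ab T) (i : ∀ n, G n ⟶ F) [∀ n, Mono (i n)]
    (t : ∀ n m, n ≤ m → (G n ⟶ G m)) (ht : ∀ n m h, t n m h ≫ i m = i n) :
    ∃ (N : ℕ) (O : T.Opens), genericPoint T ∈ O ∧ ∀ m (h : N ≤ m) (Ω : Type u) [Field Ω] [IsSepClosed Ω]
      (ξ : Spec (CommRingCat.of Ω) ⟶ T), ξ default ∈ O →
        Function.Surjective ((EtCoh.stalk ξ).map (t N m h)) := by
  obtain ⟨U, u, M, _, _, σ, hσ, hu⟩ := exists_uniform_triv hF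
  choose V a H hV hH κ hκ using fun n => exists_realisation σ hu (i n)
  have hmono : Monotone H := fun n m hnm x hx => by
    obtain ⟨W, b, g, hW, hg⟩ := (hH n).le hx
    refine (hH m).ge ⟨W, b, (t n m hnm).hom.app (op W) g, hW, ?_⟩
    refine Eq.trans ?_ hg
    exact congrArg (fun φ : G n ⟶ F => φ.hom.app (op W) g) (ht n m hnm)
  obtain ⟨N, hN⟩ := WellFoundedGT.monotone_chain_condition (⟨H, hmono⟩ : ℕ →o AddSubgroup M)
  have : Etale (V N).hom := (V N).prop
  have : IrreducibleSpace ↥((Functor.fromPUnit T).obj (V N).right) := ‹IrreducibleSpace T›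
  refine ⟨N, ⟨Set.range (V N).hom, (V N).hom.isOpenMap.isOpen_range⟩,
    (genericPoint_specializes ((V N).hom (hV N).some)).mem_open (V N).hom.isOpenMap.isOpen_range ⟨_, rfl⟩,
    fun m h Ω _ _ ξ hξ s => ?_⟩
  obtain ⟨W₁, p₁, g, rfl⟩ := exists_germ_eq ξ (G m) s
  obtain ⟨p⟩ := EtCore45.exists_pt (V N) ξ hξ
  obtain ⟨⟨W, w⟩, b, c, -⟩ := IsCofiltered.toIsCofilteredOrEmpty.cone_objs
    (C := (Scheme.pointSmallEtale ξ).fiber.Elements) ⟨V N, p⟩ ⟨W₁, p₁⟩
  obtain ⟨V', d, v, x, hv, hxH, hx⟩ := exists_local_value hσ (i m) (b.val ≫ a N)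
    ((G m).obj.map c.val.op g) (hom ξ w default)
  obtain ⟨w', hw'⟩ := exists_pt_over d w v hv
  have hxN : x ∈ H N := by
    have := (hH m).ge hxH
    rwa [show H N = H m from hN m h]
  refine ⟨germ ξ (G N) w' ((G N).obj.map (d ≫ b.val).op (κ N ⟨x, hxN⟩)), ?_⟩
  rw [stalk_map_germ]
  have e : (t N m h).hom.app (op V') ((G N).obj.map (d ≫ b.val).op (κ N ⟨x, hxN⟩)) =
      (G m).obj.map d.op ((G m).obj.map c.val.op g) := by
    refine injective_app_of_mono (i m) V' (Eq.trans ?_ hx.symm)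
    refine (congrArg (fun φ : G N ⟶ F => φ.hom.app (op V') _) (ht N m h)).trans ?_
    rw [naturality' (i N), hκ, ← map_comp', Category.assoc]
  rw [e, germ_map, germ_map, hw', c.property]

end Groth.Agent.Cons51
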