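import Mathlib.Topology.Constructible
import Mathlib.Topology.LocallyClosed
import Mathlib.Topology.Spectral.Prespectral
import Mathlib.Topology.Inseparable
import Mathlib.Data.Finite.Sum
import Mathlib.Data.Fintype.Sigma
import Mathlib.Data.Fintype.Pi
import Mathlib.Data.Fintype.EquivFin

/-!
Constructible sets: partitions into locally closed constructible pieces, images along inducing maps.
-/

set_option autoImplicit false

open Set Topology

namespace Groth.Agent.Cons51

variable {X : Type*} [TopologicalSpace X]

/-- A constructible set is a finite disjoint union of locally closed constructible sets. -/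
theorem exists_partition {E : Set X} (hE : IsConstructible E) :
    ∃ (ι : Type) (_ : Finite ι) (A : ι → Set X), (∀ i, IsLocallyClosed (A i) ∧ IsConstructible (A i)) ∧
      Pairwise (fun i j => Disjoint (A i) (A j)) ∧ (⋃ i, A i) = E := by
  have key : ∃ (κ : Type) (_ : Finite κ) (W : κ → Set X), (∀ k, IsOpen (W k) ∧ IsRetrocompact (W k)) ∧
      ∀ x y, (∀ k, x ∈ W k ↔ y ∈ W k) → (x ∈ E ↔ y ∈ E) := by
    induction hE using IsConstructible.empty_union_induction with
    | open_retrocompact U hU hU' =>
      exact ⟨Unit, inferInstance, fun _ => U, fun _ => ⟨hU, hU'⟩, fun x y h => h ()⟩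
    | union s hs t ht hs' ht' =>
      obtain ⟨κ, _, W, hW, h⟩ := hs'
      obtain ⟨κ', _, W', hW', h'⟩ := ht'
      refine ⟨κ ⊕ κ', inferInstance, Sum.elim W W', fun k => ?_, fun x y hxy => ?_⟩
      · cases k with
        | inl k => exact hW k
        | inr k => exact hW' k
      · exact or_congr (h x y fun k => hxy (Sum.inl k)) (h' x y fun k => hxy (Sum.inr k))
    | compl s hs hs' =>
      obtain ⟨κ, _, W, hW, h⟩ := hs'
      exact ⟨κ, inferInstance, W, hW, fun x y hxy => not_congr (h x y hxy)⟩
  obtain ⟨κ, _, W, hW, hE'⟩ := key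
  classical
  let A : (κ → Bool) → Set X := fun e => {x | ∀ k, x ∈ W k ↔ e k = true}
  have hA : ∀ e, A e = (⋂ k ∈ {k | e k = true}, W k) ∩ (⋃ k ∈ {k | e k = false}, W k)ᶜ := by
    intro e; ext x
    simp only [A, mem_ofPred_eq, mem_inter_iff, mem_iInter, mem_compl_iff, mem_iUnion, exists_prop, not_exists, not_and]
    constructor
    · exact fun h => ⟨fun k hk => (h k).2 hk, fun k hk hx => by simp [(h k).1 hx] at hk⟩
    · rintro ⟨h1, h2⟩ k
      cases hk : e k with
      | false => simpa using h2 k hk
      | true => simpa using h1 k hk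
  refine ⟨{e : κ → Bool // (A e ∩ E).Nonempty}, inferInstance, fun e => A e.1, fun e => ⟨?_, ?_⟩,
    fun e e' hne => disjoint_left.2 fun x hx hx' => hne (Subtype.ext (funext fun k => ?_)), ?_⟩
  · dsimp only
    rw [hA]
    exact ⟨_, _, (toFinite _).isOpen_biInter fun k _ => (hW k).1,
      (isOpen_biUnion fun k _ => (hW k).1).isClosed_compl, rfl⟩
  · dsimp only
    rw [hA]
    exact (IsConstructible.biInter (toFinite _) fun k _ => (hW k).2.isConstructible (hW k).1).inter
      (IsConstructible.biUnion (toFinite _) fun k _ => (hW k).2.isConstructible (hW k).1).compl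
  · exact Bool.eq_iff_iff.2 ((hx k).symm.trans (hx' k))
  · ext x
    simp only [mem_iUnion]
    constructor
    · rintro ⟨⟨e, y, hy, hyE⟩, hx⟩
      exact (hE' x y fun k => (hx k).trans (hy k).symm).2 hyE
    · exact fun hx => ⟨⟨fun k => decide (x ∈ W k), x, fun k => by simp, hx⟩, fun k => by simp⟩

/-- Images along inducing injective maps with constructible range, from a compact space. -/
theorem isConstructible_image {A : Type*} [TopologicalSpace A] [CompactSpace A] [PrespectralSpace X]
    [QuasiSeparatedSpace X] {f : A → X} (hf : IsEmbedding f) (hr : IsConstructible (range f)) {s : Set A}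
    (hs : IsConstructible s) : IsConstructible (f '' s) := by
  induction hs using IsConstructible.empty_union_induction with
  | open_retrocompact U hU hU' =>
    obtain ⟨O, hO, rfl⟩ := hf.isInducing.isOpen_iff.1 hU
    have hc : IsCompact (f '' (f ⁻¹' O)) := (hU'.isCompact).image hf.continuous
    obtain ⟨O', hO'c, hO'o, hsub, hO'O⟩ := PrespectralSpace.exists_isCompact_and_isOpen_between hc hO
      (image_preimage_subset f O)
    have h : f '' (f ⁻¹' O) = O' ∩ range f := by
      refine subset_antisymm (fun x hx => ⟨hsub hx, image_subset_range f _ hx⟩) ?_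
      rintro _ ⟨hx, a, rfl⟩
      exact ⟨a, hO'O hx, rfl⟩
    rw [h]
    exact ((hO'c.isRetrocompact hO'o).isConstructible hO'o).inter hr
  | union s hs t ht hs' ht' => rw [image_union]; exact hs'.union ht'
  | compl s hs hs' =>
    rw [← range_sdiff_image hf.injective]
    exact hr.sdiff hs'

/-- Preimages along maps pulling compact opens back to compact sets. -/
theorem isConstructible_preimage {A : Type*} [TopologicalSpace A] [QuasiSeparatedSpace A] [CompactSpace X]
    {f : A → X} (hf : Continuous f) (hfc : ∀ O : Set X, IsOpen O → IsCompact O → IsCompact (f ⁻¹' O))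
    {s : Set X} (hs : IsConstructible s) : IsConstructible (f ⁻¹' s) :=
  hs.preimage hf fun O ho hr => (hfc O ho hr.isCompact).isRetrocompact (ho.preimage hf)

end Groth.Agent.Cons51
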